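import Cfsg.Agent.Lib.Ree.Psi

/-!
# An abstract presentation of the data of the Ree groups
-/

set_option autoImplicit false
set_option linter.unusedSectionVars false
set_option linter.unusedSimpArgs false
set_option linter.unnecessarySeqFocus false

namespace Cfsg.Agent.Lib.Ree.Abs

open Cfsg.Lie Matrix Cfsg.Agent.Lib.Ree.Block Cfsg.Agent.Lib.Ree.Rho
open Cfsg.Agent.Lib.Ree.Sigma Cfsg.Agent.Lib.Ree.Words Cfsg.Agent.Lib.Ree.Fix Cfsg.Agent.Lib.Ree.Core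
open Cfsg.Agent.Lib.Ree.Main Cfsg.Agent.Lib.Ree.Sub Cfsg.Agent.Lib.Ree.BN Cfsg.Agent.Lib.Ree.Pts
open Cfsg.Agent.Lib.Ree.Psi
open scoped MatrixGroups

/-- The data of a Ree group. -/
structure Dat (K : Type*) (G : Type*) [Field K] [Fintype K] [CharP K 3] [Group G] where
  f : Fr K
  m : ℕ
  card_K : Fintype.card K = 3 ^ (2 * m + 1)
  u : K → K → K → G
  d : Kˣ →* G
  w : G
  rep : G →* GL (Fin 7) K
  psi : SL(2, K) →* G
  u_mul : ∀ t a b t' a' b', u t a b * u t' a' b' = u (t + t') (a + a' - t * f.φ t')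
    (b + b' + f.φ t' * t' * t - f.φ t' * t ^ 2 - t' * a)
  u_zero : u 0 0 0 = 1
  u_inj : ∀ {t a b t' a' b'}, u t a b = u t' a' b' → t = t' ∧ a = a' ∧ b = b'
  d_inj : Function.Injective d
  d_mul_u : ∀ (κ : Kˣ) t a b, d κ * u t a b =
    u (f.φ κ * t) ((κ : K) ^ 3 * f.φ κ * a) ((κ : K) ^ 3 * f.φ κ ^ 2 * b) * d κ
  w_mul_d : ∀ κ, w * d κ = d κ⁻¹ * w
  w_mul_w : w * w = 1
  cases : ∀ x, (∃ t a b κ, x = u t a b * d κ) ∨ (∃ t a b κ t' a' b', x = u t a b * d κ * w * u t' a' b')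
  wuw : ∀ {t a b t' a' b' κ}, w * u t a b * w = u t' a' b' * d κ → t = 0 ∧ a = 0 ∧ b = 0
  rep_inj : Function.Injective rep
  rep_u : ∀ t a b, (rep (u t a b) : Matrix (Fin 7) (Fin 7) K) = MUc (f.θ t) t (f.θ a) a (f.θ b) b
  rep_d : ∀ κ : Kˣ, (rep (d κ) : Matrix (Fin 7) (Fin 7) K) = d7 ((κ : K) ^ 2 * f.φ κ) (κ * f.φ κ) κ
  rep_w : (rep w : Matrix (Fin 7) (Fin 7) K) = w7
  rep_psi : ∀ g : SL(2, K), (rep (psi g) : Matrix (Fin 7) (Fin 7) K) = psiMat f g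
  perfect : 1 ≤ m → commutator G = ⊤
  card_G : Nat.card G = (3 ^ (2 * m + 1)) ^ 3 * (3 ^ (2 * m + 1) - 1) * ((3 ^ (2 * m + 1)) ^ 3 + 1)

section Inst

variable {K : Type*} [Field K] [Fintype K] [CharP K 3] (f : Fr K) {e : ℕ}
  (hq : ∀ y : K, y ≠ 0 → IsSquare y ∨ IsSquare (-y)) (hθ : ∀ x, f.θ x = x ^ e)

theorem dR_congr {κ κ' : K} (h : κ = κ') (hκ : κ ≠ 0) (hκ' : κ' ≠ 0) : dR f hq hθ hκ = dR f hq hθ hκ' := by
  subst h
  rfl

/-- The torus homomorphism. -/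
noncomputable def dHom : Kˣ →* ↥(twistedG2 K e) where
  toFun κ := dR f hq hθ κ.ne_zero
  map_one' := dR_one f hq hθ
  map_mul' a b := by
    rw [dR_mul f hq hθ a.ne_zero b.ne_zero]

theorem dHom_apply (κ : Kˣ) : dHom f hq hθ κ = dR f hq hθ κ.ne_zero := rfl

theorem dHom_inj : Function.Injective (dHom f hq hθ) := by
  intro a b h
  have h1 : Dr f (a : K) = Dr f (b : K) := sub_eq' (x := dR f hq hθ a.ne_zero) (y := dR f hq hθ b.ne_zero) rfl rfl h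
  exact Units.ext (Dr_inj f a.ne_zero b.ne_zero h1)

theorem rep_u' (t a b : K) : ((rhoR f hq hθ (uR f hq hθ t a b) : GL (Fin 7) K) : Matrix (Fin 7) (Fin 7) K) =
    MUc (f.θ t) t (f.θ a) a (f.θ b) b := by
  show ((rho (Ur f t a b) : GL (Fin 7) K) : Matrix (Fin 7) (Fin 7) K) = _
  rw [rho_Ur, MU_eq]

theorem rep_d' (κ : Kˣ) : ((rhoR f hq hθ (dHom f hq hθ κ) : GL (Fin 7) K) : Matrix (Fin 7) (Fin 7) K) =
    d7 ((κ : K) ^ 2 * f.φ κ) (κ * f.φ κ) κ := by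
  show ((rho (Dr f (κ : K)) : GL (Fin 7) K) : Matrix (Fin 7) (Fin 7) K) = _
  rw [rho_Dr f κ.ne_zero]

theorem rep_w' : ((rhoR f hq hθ (wR f hq hθ) : GL (Fin 7) K) : Matrix (Fin 7) (Fin 7) K) = w7 := by
  show ((rho (om : ↥(chevG2.group K)) : GL (Fin 7) K) : Matrix (Fin 7) (Fin 7) K) = _
  rw [rho_om]

theorem rep_psi' (g : SL(2, K)) : ((rhoR f hq hθ (psiR f hq hθ g) : GL (Fin 7) K) : Matrix (Fin 7) (Fin 7) K) =
    psiMat f g := by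
  rw [rhoR_psiR, coe_psiHom]

theorem wuw' {t a b t' a' b' : K} {κ : Kˣ} (h : wR f hq hθ * uR f hq hθ t a b * wR f hq hθ =
    uR f hq hθ t' a' b' * dHom f hq hθ κ) : t = 0 ∧ a = 0 ∧ b = 0 := by
  have h1 : wR f hq hθ * uR f hq hθ t a b * wR f hq hθ ∈ B₁ K e := by
    rw [h]
    exact Subgroup.mul_mem _ (uR_mem_B f hq hθ _ _ _) (dR_mem_B f hq hθ κ.ne_zero)
  exact uR_eq_one f hq hθ (wuw_mem_B₁_imp f hq hθ h1)

theorem w_mul_d' (κ : Kˣ) : wR f hq hθ * dHom f hq hθ κ = dHom f hq hθ κ⁻¹ * wR f hq hθ := by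
  rw [dHom_apply, dHom_apply, wR_mul_dR f hq hθ κ.ne_zero]
  congr 1
  exact dR_congr _ _ _ (Units.val_inv_eq_inv_val κ).symm _ _

end Inst

/-- The data of the concrete Ree group. -/
noncomputable def dat {K : Type*} [Field K] [Fintype K] [CharP K 3] {m : ℕ}
    (hK : Fintype.card K = 3 ^ (2 * m + 1)) : Dat K ↥(twistedG2 K (3 ^ m)) where
  f := frOf hK
  m := m
  card_K := hK
  u := uR (frOf hK) (sq_or_neg hK) (frOf_θ hK)
  d := dHom (frOf hK) (sq_or_neg hK) (frOf_θ hK)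
  w := wR (frOf hK) (sq_or_neg hK) (frOf_θ hK)
  rep := rhoR (frOf hK) (sq_or_neg hK) (frOf_θ hK)
  psi := psiR (frOf hK) (sq_or_neg hK) (frOf_θ hK)
  u_mul := uR_mul (frOf hK) (sq_or_neg hK) (frOf_θ hK)
  u_zero := uR_zero (frOf hK) (sq_or_neg hK) (frOf_θ hK)
  u_inj := uR_inj (frOf hK) (sq_or_neg hK) (frOf_θ hK)
  d_inj := dHom_inj (frOf hK) (sq_or_neg hK) (frOf_θ hK)
  d_mul_u := fun κ t a b => dR_mul_uR (frOf hK) (sq_or_neg hK) (frOf_θ hK) κ.ne_zero t a b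
  w_mul_d := w_mul_d' (frOf hK) (sq_or_neg hK) (frOf_θ hK)
  w_mul_w := wR_mul_wR (frOf hK) (sq_or_neg hK) (frOf_θ hK)
  cases := fun x => by
    rcases R_cases (frOf hK) (sq_or_neg hK) (frOf_θ hK) x with ⟨t, a, b, κ, hκ, h⟩ | ⟨t, a, b, κ, t', a', b', hκ, h⟩
    · exact Or.inl ⟨t, a, b, Units.mk0 κ hκ, h⟩
    · exact Or.inr ⟨t, a, b, Units.mk0 κ hκ, t', a', b', h⟩
  wuw := wuw' (frOf hK) (sq_or_neg hK) (frOf_θ hK)
  rep_inj := rhoR_inj (frOf hK) (sq_or_neg hK) (frOf_θ hK)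
  rep_u := rep_u' (frOf hK) (sq_or_neg hK) (frOf_θ hK)
  rep_d := rep_d' (frOf hK) (sq_or_neg hK) (frOf_θ hK)
  rep_w := rep_w' (frOf hK) (sq_or_neg hK) (frOf_θ hK)
  rep_psi := rep_psi' (frOf hK) (sq_or_neg hK) (frOf_θ hK)
  perfect := fun hm => BN.perfect (frOf hK) (sq_or_neg hK) (frOf_θ hK) (exists_kappa' (by
    rw [hK]
    calc 3 < 3 ^ 3 := by norm_num
      _ ≤ 3 ^ (2 * m + 1) := Nat.pow_le_pow_right (by norm_num) (by omega)))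
  card_G := card_twisted hK

end Cfsg.Agent.Lib.Ree.Abs
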