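import Cfsg.Agent.Lib.Ree.Abs

/-!
# The abstract Ree group: subgroups and points
-/

set_option autoImplicit false
set_option linter.unusedSectionVars false
set_option linter.unusedSimpArgs false
set_option linter.unnecessarySeqFocus false

namespace Cfsg.Agent.Lib.Ree.Abs

open Matrix Cfsg.Agent.Lib.Ree.Sigma Cfsg.Agent.Lib.Ree.Words Cfsg.Agent.Lib.Ree.Psi
open scoped MatrixGroups

namespace Dat

variable {K G : Type*} [Field K] [Fintype K] [CharP K 3] [_root_.Group G] (D : Dat K G)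

/-- The order of the field. -/
def q : ℕ := 3 ^ (2 * D.m + 1)

theorem card_K' : Fintype.card K = D.q := D.card_K

theorem q_mod8 : D.q % 8 = 3 := by
  rw [q, pow_succ, pow_mul]
  have : (3 ^ 2) ^ D.m % 8 = 1 := by
    rw [Nat.pow_mod]
    simp
  omega

theorem q_mod3 : D.q % 3 = 0 := by
  rw [q, pow_succ]
  omega

theorem q_ge : 3 ≤ D.q := by
  have := D.q_mod8
  omega

theorem q_ge' (hm : 1 ≤ D.m) : 27 ≤ D.q := by
  rw [q]
  calc 27 = 3 ^ 3 := by norm_num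
    _ ≤ 3 ^ (2 * D.m + 1) := Nat.pow_le_pow_right (by norm_num) (by omega)

include D in
theorem three : (3 : K) = 0 := three_eq_zero

include D in
theorem two_eq : (2 : K) = -1 := by
  have := D.three
  linear_combination this

include D in
theorem neg_one_ne_one : (-1 : K) ≠ 1 := by
  intro h
  have h1 : (2 : K) = 0 := by linear_combination -h
  have h2 := D.three
  have h3 : (1 : K) = 0 := by linear_combination h2 - h1
  exact one_ne_zero h3

include D in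
theorem sq_or_neg (y : K) (hy : y ≠ 0) : IsSquare y ∨ IsSquare (-y) :=
  Cfsg.Agent.Lib.Ree.Main.sq_or_neg D.card_K y hy

include D in
theorem not_isSquare_neg_one : ¬ IsSquare (-1 : K) := by
  classical
  have hm : Fintype.card K % 4 = 3 := by
    rw [D.card_K']
    have := D.q_mod8
    omega
  rw [FiniteField.isSquare_neg_one_iff]
  simpa using hm

theorem u_inv (t a b : K) : (D.u t a b)⁻¹ =
    D.u (-t) (-a - t * D.f.φ t) (-b - D.f.φ t * t ^ 2 - t * a - t * t * D.f.φ t) := by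
  apply inv_eq_of_mul_eq_one_right
  rw [D.u_mul, ← D.u_zero]
  congr 1 <;> (try simp only [map_neg]) <;> ring

theorem d_conj (κ : Kˣ) (t a b : K) : D.d κ * D.u t a b * (D.d κ)⁻¹ =
    D.u (D.f.φ κ * t) ((κ : K) ^ 3 * D.f.φ κ * a) ((κ : K) ^ 3 * D.f.φ κ ^ 2 * b) := by
  rw [D.d_mul_u, mul_inv_cancel_right]

theorem w_inv : D.w⁻¹ = D.w := inv_eq_of_mul_eq_one_left D.w_mul_w

theorem w_conj_d (κ : Kˣ) : D.w * D.d κ * D.w = D.d κ⁻¹ := by
  rw [D.w_mul_d, mul_assoc, D.w_mul_w, mul_one]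

/-- The unipotent subgroup. -/
def U : Subgroup G where
  carrier := {x | ∃ t a b, x = D.u t a b}
  one_mem' := ⟨0, 0, 0, D.u_zero.symm⟩
  mul_mem' := by
    rintro _ _ ⟨t, a, b, rfl⟩ ⟨t', a', b', rfl⟩
    exact ⟨_, _, _, D.u_mul _ _ _ _ _ _⟩
  inv_mem' := by
    rintro _ ⟨t, a, b, rfl⟩
    exact ⟨_, _, _, D.u_inv _ _ _⟩

theorem mem_U {x : G} : x ∈ D.U ↔ ∃ t a b, x = D.u t a b := Iff.rfl

theorem u_mem_U (t a b : K) : D.u t a b ∈ D.U := ⟨t, a, b, rfl⟩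

/-- The Borel subgroup. -/
def B : Subgroup G where
  carrier := {x | ∃ t a b κ, x = D.u t a b * D.d κ}
  one_mem' := ⟨0, 0, 0, 1, by rw [D.u_zero, map_one, one_mul]⟩
  mul_mem' := by
    rintro _ _ ⟨t, a, b, κ, rfl⟩ ⟨t', a', b', κ', rfl⟩
    have e : D.u t a b * D.d κ * (D.u t' a' b' * D.d κ') = D.u t a b * (D.d κ * D.u t' a' b') * D.d κ' := by
      group
    rw [e, D.d_mul_u, ← mul_assoc, D.u_mul, mul_assoc, ← map_mul]
    exact ⟨_, _, _, _, rfl⟩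
  inv_mem' := by
    rintro _ ⟨t, a, b, κ, rfl⟩
    have e : (D.u t a b * D.d κ)⁻¹ = (D.d κ⁻¹ * (D.u t a b)⁻¹ * (D.d κ⁻¹)⁻¹) * D.d κ⁻¹ := by
      rw [map_inv]
      group
    rw [e, D.u_inv, D.d_conj]
    exact ⟨_, _, _, _, rfl⟩

theorem mem_B {x : G} : x ∈ D.B ↔ ∃ t a b κ, x = D.u t a b * D.d κ := Iff.rfl

theorem u_mem_B (t a b : K) : D.u t a b ∈ D.B := ⟨t, a, b, 1, by rw [map_one, mul_one]⟩

theorem d_mem_B (κ : Kˣ) : D.d κ ∈ D.B := ⟨0, 0, 0, κ, by rw [D.u_zero, one_mul]⟩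

theorem U_le_B : D.U ≤ D.B := by
  rintro _ ⟨t, a, b, rfl⟩
  exact D.u_mem_B t a b

/-- The unique form in the Borel subgroup. -/
theorem B_unique {t a b t' a' b' : K} {κ κ' : Kˣ} (h : D.u t a b * D.d κ = D.u t' a' b' * D.d κ') :
    t = t' ∧ a = a' ∧ b = b' ∧ κ = κ' := by
  have h1 := congrArg (fun x => (D.rep x : Matrix (Fin 7) (Fin 7) K) 2 2) h
  simp only [map_mul, Units.val_mul, D.rep_u, D.rep_d, d7, Matrix.mul_diagonal] at h1
  simp [MUc] at h1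
  have h2 : κ = κ' := Units.ext h1
  subst h2
  obtain ⟨rfl, rfl, rfl⟩ := D.u_inj (mul_right_cancel h)
  exact ⟨rfl, rfl, rfl, rfl⟩

theorem u_eq_one {t a b : K} (h : D.u t a b = 1) : t = 0 ∧ a = 0 ∧ b = 0 := by
  rw [← D.u_zero] at h
  exact D.u_inj h

theorem wuw_mem {t a b : K} (h : D.w * D.u t a b * D.w ∈ D.B) : t = 0 ∧ a = 0 ∧ b = 0 := by
  obtain ⟨t', a', b', κ, h1⟩ := h
  exact D.wuw h1

theorem u_one_ne : D.u (0 : K) 0 1 ≠ 1 := by
  intro h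
  exact one_ne_zero (D.u_eq_one h).2.2

theorem w_not_mem : D.w ∉ D.B := by
  intro h
  exact one_ne_zero (D.wuw_mem (Subgroup.mul_mem _ (Subgroup.mul_mem _ h (D.u_mem_B 0 0 1)) h)).2.2

/-- Conjugation by an element of `B` preserves `U`. -/
theorem B_norm_U {c x : G} (hc : c ∈ D.B) (hx : x ∈ D.U) : c * x * c⁻¹ ∈ D.U := by
  obtain ⟨t, a, b, κ, rfl⟩ := hc
  obtain ⟨t', a', b', rfl⟩ := hx
  have e1 : D.u t a b * D.d κ * D.u t' a' b' * (D.u t a b * D.d κ)⁻¹ =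
      D.u t a b * (D.d κ * D.u t' a' b' * (D.d κ)⁻¹) * (D.u t a b)⁻¹ := by
    group
  rw [e1, D.d_conj]
  exact Subgroup.mul_mem _ (Subgroup.mul_mem _ (D.u_mem_U _ _ _) (D.u_mem_U _ _ _))
    (Subgroup.inv_mem _ (D.u_mem_U _ _ _))

/-- The long element normalises nothing of `U`. -/
theorem w_conj_mem_B {t a b : K} {κ : Kˣ} (h : D.w * (D.u t a b * D.d κ) * D.w ∈ D.B) :
    t = 0 ∧ a = 0 ∧ b = 0 := by
  apply D.wuw_mem
  have e1 : D.w * D.u t a b * D.w =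
      (D.w * (D.u t a b * D.d κ) * D.w) * (D.w * (D.d κ)⁻¹ * D.w) := by
    have e2 : D.w * (D.u t a b * D.d κ) * D.w * (D.w * (D.d κ)⁻¹ * D.w) =
        D.w * D.u t a b * D.d κ * (D.w * D.w) * (D.d κ)⁻¹ * D.w := by group
    rw [e2, D.w_mul_w]
    group
  rw [e1, ← map_inv, D.w_conj_d]
  exact Subgroup.mul_mem _ h (D.d_mem_B _)

/-! ### The points -/

/-- The set of points. -/
abbrev Om : Type _ := G ⧸ D.B

/-- The base point. -/
def p0 : D.Om := QuotientGroup.mk 1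

/-- The second point. -/
def pw : D.Om := QuotientGroup.mk D.w

/-- The other points. -/
def pu (t a b : K) : D.Om := QuotientGroup.mk (D.u t a b * D.w)

theorem smul_mk (s g : G) : s • (QuotientGroup.mk g : D.Om) = QuotientGroup.mk (s * g) := rfl

theorem smul_p0_iff {s : G} : s • D.p0 = D.p0 ↔ s ∈ D.B := by
  rw [p0, smul_mk, QuotientGroup.eq, mul_one, mul_one, inv_mem_iff]

theorem smul_pw_iff {s : G} : s • D.pw = D.pw ↔ D.w * s * D.w ∈ D.B := by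
  rw [pw, smul_mk, QuotientGroup.eq, ← inv_mem_iff]
  have e1 : ((s * D.w)⁻¹ * D.w)⁻¹ = D.w * s * D.w := by
    calc ((s * D.w)⁻¹ * D.w)⁻¹ = D.w⁻¹ * s * D.w := by group
      _ = _ := by rw [w_inv]
  rw [e1]

theorem smul_pu (s : G) (t a b : K) : s • D.pu t a b = QuotientGroup.mk (s * (D.u t a b * D.w)) := rfl

theorem pu_eq_iff {t a b t' a' b' : K} : D.pu t a b = D.pu t' a' b' ↔ D.u t a b = D.u t' a' b' := by
  constructor
  · intro h
    rw [pu, pu, QuotientGroup.eq] at h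
    have e1 : (D.u t a b * D.w)⁻¹ * (D.u t' a' b' * D.w) = D.w * ((D.u t a b)⁻¹ * D.u t' a' b') * D.w := by
      rw [_root_.mul_inv_rev, w_inv]
      group
    obtain ⟨A, B, C, hABC⟩ : ∃ A B C, (D.u t a b)⁻¹ * D.u t' a' b' = D.u A B C :=
      ⟨_, _, _, by rw [u_inv, D.u_mul]⟩
    rw [e1, hABC] at h
    obtain ⟨rfl, rfl, rfl⟩ := D.wuw_mem h
    rw [D.u_zero] at hABC
    exact inv_mul_eq_one.1 hABC
  · intro h
    rw [pu, pu, h]

theorem pu_ne_p0 (t a b : K) : D.pu t a b ≠ D.p0 := by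
  intro h
  rw [pu, p0, QuotientGroup.eq] at h
  rw [mul_one, ← inv_mem_iff, inv_inv] at h
  apply D.w_not_mem
  have e1 : D.w = (D.u t a b)⁻¹ * (D.u t a b * D.w) := by group
  rw [e1]
  exact Subgroup.mul_mem _ (Subgroup.inv_mem _ (D.u_mem_B _ _ _)) h

theorem pw_eq : D.pw = D.pu 0 0 0 := by
  rw [pw, pu, D.u_zero, one_mul]

theorem pw_ne_p0 : D.pw ≠ D.p0 := by
  rw [pw_eq]
  exact D.pu_ne_p0 0 0 0

/-- The points. -/
theorem point_form (x : D.Om) : x = D.p0 ∨ ∃ t a b, x = D.pu t a b := by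
  obtain ⟨g, rfl⟩ := QuotientGroup.mk_surjective x
  rcases D.cases g with ⟨t, a, b, κ, rfl⟩ | ⟨t, a, b, κ, t', a', b', rfl⟩
  · left
    rw [p0, QuotientGroup.eq, mul_one, inv_mem_iff]
    exact ⟨t, a, b, κ, rfl⟩
  · right
    refine ⟨t, a, b, ?_⟩
    rw [pu, QuotientGroup.eq]
    have e1 : (D.u t a b * D.d κ * D.w * D.u t' a' b')⁻¹ * (D.u t a b * D.w) =
        (D.u t' a' b')⁻¹ * (D.w * (D.d κ)⁻¹ * D.w) := by
      rw [_root_.mul_inv_rev, _root_.mul_inv_rev, _root_.mul_inv_rev, w_inv]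
      group
    rw [e1, ← map_inv, D.w_conj_d]
    exact Subgroup.mul_mem _ (Subgroup.inv_mem _ (D.u_mem_B _ _ _)) (D.d_mem_B _)

theorem u_smul_p0 (t a b : K) : D.u t a b • D.p0 = D.p0 :=
  D.smul_p0_iff.2 (D.u_mem_B _ _ _)

/-- The action is two transitive. -/
theorem two_trans {x y : D.Om} (h : x ≠ y) : ∃ g : G, g • x = D.p0 ∧ g • y = D.pw := by
  obtain ⟨g, rfl⟩ := QuotientGroup.mk_surjective x
  have h1 : g⁻¹ • (QuotientGroup.mk g : D.Om) = D.p0 := by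
    rw [smul_mk, inv_mul_cancel]
    rfl
  have h2 : g⁻¹ • y ≠ D.p0 := by
    intro h3
    apply h
    rw [← h1] at h3
    exact (smul_left_cancel _ h3).symm
  rcases D.point_form (g⁻¹ • y) with h3 | ⟨t, a, b, h3⟩
  · exact absurd h3 h2
  · refine ⟨(D.u t a b)⁻¹ * g⁻¹, ?_, ?_⟩
    · rw [mul_smul, h1, u_inv]
      exact D.u_smul_p0 _ _ _
    · rw [mul_smul, h3, pu, smul_mk, inv_mul_cancel_left]
      rfl

/-- The stabiliser of the two standard points. -/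
theorem fix_p0_pw {s : G} (h0 : s • D.p0 = D.p0) (h1 : s • D.pw = D.pw) : ∃ κ, s = D.d κ := by
  obtain ⟨t, a, b, κ, rfl⟩ := D.smul_p0_iff.1 h0
  obtain ⟨rfl, rfl, rfl⟩ := D.w_conj_mem_B (D.smul_pw_iff.1 h1)
  exact ⟨κ, by rw [D.u_zero, one_mul]⟩

/-- The action of the torus on the points. -/
theorem d_smul_pu (κ : Kˣ) (t a b : K) : D.d κ • D.pu t a b =
    D.pu (D.f.φ κ * t) ((κ : K) ^ 3 * D.f.φ κ * a) ((κ : K) ^ 3 * D.f.φ κ ^ 2 * b) := by
  rw [smul_pu, pu, QuotientGroup.eq, ← D.d_conj κ]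
  have e1 : (D.d κ * (D.u t a b * D.w))⁻¹ * (D.d κ * D.u t a b * (D.d κ)⁻¹ * D.w) =
      D.w * (D.d κ)⁻¹ * D.w := by
    rw [_root_.mul_inv_rev, _root_.mul_inv_rev, w_inv]
    group
  rw [e1, ← map_inv, D.w_conj_d]
  exact D.d_mem_B _

/-- The torus involution. -/
def t0 : G := D.d (-1)

theorem phi_neg_one : D.f.φ ((-1 : Kˣ) : K) = -1 := by
  simp

theorem t0_sq : D.t0 * D.t0 = 1 := by
  rw [t0, ← map_mul]
  simp

theorem t0_inv : D.t0⁻¹ = D.t0 := inv_eq_of_mul_eq_one_left D.t0_sq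

theorem t0_ne : D.t0 ≠ 1 := by
  intro h
  rw [t0, ← map_one D.d] at h
  have h1 := D.d_inj h
  have h2 := congrArg (fun z : Kˣ => (z : K)) h1
  exact D.neg_one_ne_one (by simpa using h2)

theorem t0_conj_u (t a b : K) : D.t0 * D.u t a b * D.t0 = D.u (-t) a (-b) := by
  have h := D.d_conj (-1) t a b
  have e : (D.d (-1))⁻¹ = D.t0 := D.t0_inv
  rw [e] at h
  rw [t0] at h ⊢
  rw [h]
  congr 1 <;> simp only [Units.val_neg, Units.val_one, map_neg, map_one] <;> ring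

theorem w_conj_t0 : D.w * D.t0 * D.w = D.t0 := by
  rw [t0, D.w_conj_d]
  simp

theorem w_comm_t0 : D.w * D.t0 = D.t0 * D.w := by
  have h := D.w_conj_t0
  calc D.w * D.t0 = (D.w * D.t0 * D.w) * D.w := by rw [mul_assoc _ D.w D.w, D.w_mul_w, mul_one]
    _ = _ := by rw [h]

/-- Three points. -/
theorem fix_three {s : G} {t a b : K} (h0 : s • D.p0 = D.p0) (h1 : s • D.pw = D.pw)
    (hz : s • D.pu t a b = D.pu t a b) (hne : D.u t a b ≠ 1) : s = 1 ∨ s = D.t0 := by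
  obtain ⟨κ, rfl⟩ := D.fix_p0_pw h0 h1
  rw [d_smul_pu] at hz
  obtain ⟨h6, h7, h8⟩ := D.u_inj (D.pu_eq_iff.1 hz)
  have hκ : (κ : K) ≠ 0 := κ.ne_zero
  by_cases hκ1 : (κ : K) = 1
  · left
    have : κ = 1 := Units.ext hκ1
    rw [this, map_one]
  · right
    have hκ2 : (κ : K) ^ 2 = 1 := by
      by_contra hκ2
      obtain ⟨rfl, ha, rfl⟩ := Cfsg.Agent.Lib.Ree.Pts.comm_params D.f hκ hκ1 h6 h7 h8
      obtain rfl := ha hκ2
      exact hne D.u_zero
    have hκ3 : (κ : K) = -1 := by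
      have h9 : ((κ : K) - 1) * ((κ : K) + 1) = 0 := by linear_combination hκ2
      rcases mul_eq_zero.1 h9 with h10 | h10
      · exact absurd (sub_eq_zero.1 h10) hκ1
      · exact eq_neg_of_add_eq_zero_left h10
    have : κ = -1 := Units.ext (by simpa using hκ3)
    rw [this]
    rfl

end Dat

end Cfsg.Agent.Lib.Ree.Abs
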