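import Cfsg.Agent.Lib.Ree.Abs9

/-!
# The abstract Ree group: centralisers of elements of order dividing `(q + 1) / 4`
-/

set_option autoImplicit false
set_option linter.unusedSectionVars false
set_option linter.unusedSimpArgs false
set_option linter.unnecessarySeqFocus false

namespace Cfsg.Agent.Lib.Ree.Abs

open Matrix Cfsg.Agent.Lib.Ree.Sigma Cfsg.Agent.Lib.Ree.Words Cfsg.Agent.Lib.Ree.Psi
open scoped MatrixGroups Pointwise

namespace Dat

variable {K G : Type*} [Field K] [Fintype K] [CharP K 3] [_root_.Group G] (D : Dat K G)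

/-! ### Numerics -/

/-- The odd part of `q + 1`. -/
def n0 : ℕ := (D.q + 1) / 4

theorem four_n0 : 4 * D.n0 = D.q + 1 := by
  have := D.q_mod8
  rw [n0]
  omega

theorem n0_odd : D.n0 % 2 = 1 := by
  have := D.q_mod8
  rw [n0]
  omega

/-- The odd part of `q - 1`. -/
def m0 : ℕ := (D.q - 1) / 2

theorem two_m0 : 2 * D.m0 = D.q - 1 := by
  have := D.q_mod8
  rw [m0]
  omega

theorem m0_odd : D.m0 % 2 = 1 := by
  have := D.q_mod8
  rw [m0]
  omega

theorem q_sub_one_add : D.q - 1 + 1 = D.q := by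
  have := D.q_pos
  omega

theorem card_G_factor : Nat.card G = 8 * (D.n0 * (D.q ^ 3 * D.m0 * D.Dd)) := by
  rw [D.card_G', D.cube_eq, ← D.two_m0, ← D.four_n0]
  ring

theorem q_prime_dvd {r : ℕ} (hr : r.Prime) (h : r ∣ D.q) : r = 3 := by
  rw [q] at h
  exact (Nat.prime_dvd_prime_iff_eq hr Nat.prime_three).1 (hr.dvd_of_dvd_pow h)

section

variable {p : ℕ} (hp : p.Prime)
include hp

theorem dvd_Dd_facts (hd : p ∣ D.Dd) : ¬ p ∣ D.q ∧ ¬ p ∣ D.q - 1 ∧ ¬ p ∣ D.q + 1 ∧ p ≠ 2 ∧ p ≠ 3 := by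
  haveI : Fact p.Prime := ⟨hp⟩
  have hx := D.q_sq_cast hd
  have h2 := D.two_ne_zero' hd
  have h3 := D.three_ne_zero' hd
  refine ⟨?_, ?_, ?_, D.prime_ne_two hd, D.prime_ne_three hd⟩
  · intro h
    rw [← ZMod.natCast_eq_zero_iff] at h
    rw [h] at hx
    apply one_ne_zero (α := ZMod p)
    linear_combination hx
  · intro h
    rw [← ZMod.natCast_eq_zero_iff, Nat.cast_sub D.q_pos] at h
    simp only [Nat.cast_one] at h
    have e : (D.q : ZMod p) = 1 := by linear_combination h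
    rw [e] at hx
    apply one_ne_zero (α := ZMod p)
    linear_combination hx
  · intro h
    rw [← ZMod.natCast_eq_zero_iff] at h
    push_cast at h
    have e : (D.q : ZMod p) = -1 := by linear_combination h
    rw [e] at hx
    apply h3
    linear_combination hx

theorem dvd_q_add_facts (hd : p ∣ D.q + 1) (hp2 : p ≠ 2) : ¬ p ∣ D.q ∧ ¬ p ∣ D.q - 1 ∧ ¬ p ∣ D.Dd ∧ p ≠ 3 := by
  have h3 : p ≠ 3 := by
    rintro rfl
    have := D.q_mod3
    omega
  have hq : ¬ p ∣ D.q := by
    intro h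
    exact h3 (D.q_prime_dvd hp h)
  refine ⟨hq, ?_, ?_, h3⟩
  · intro h
    have h1 : p ∣ (D.q + 1) - (D.q - 1) := Nat.dvd_sub hd h
    have e : (D.q + 1) - (D.q - 1) = 2 := by
      have := D.q_pos
      omega
    rw [e] at h1
    exact hp2 ((Nat.prime_dvd_prime_iff_eq hp Nat.prime_two).1 h1)
  · intro h
    exact (D.dvd_Dd_facts hp h).2.2.1 hd

end

theorem n0_dvd : D.n0 ∣ D.q + 1 := ⟨4, by rw [← D.four_n0]; ring⟩

theorem dvd_n0_facts {p : ℕ} (hp : p.Prime) (hd : p ∣ D.n0) :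
    ¬ p ∣ D.q ∧ ¬ p ∣ D.q - 1 ∧ ¬ p ∣ D.Dd ∧ p ≠ 3 ∧ p ≠ 2 := by
  have hp2 : p ≠ 2 := by
    rintro rfl
    have := D.n0_odd
    omega
  obtain ⟨h1, h2, h3, h4⟩ := D.dvd_q_add_facts hp (hd.trans D.n0_dvd) hp2
  exact ⟨h1, h2, h3, h4, hp2⟩

/-! ### Subgroups of order eight -/

include D in
theorem order8_exp2 [Finite G] (S : Subgroup G) (h : Nat.card S = 8) : ∀ x ∈ S, x * x = 1 := by
  haveI : Fact (Nat.Prime 2) := ⟨Nat.prime_two⟩
  have h1 : IsPGroup 2 ↥S := by
    apply IsPGroup.of_card (n := 3)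
    rw [h]
    norm_num
  have h2 : ¬ 2 ∣ S.index := by
    intro h'
    obtain ⟨n, hn, h3⟩ := D.card_G_eq
    have h4 := Subgroup.card_mul_index S
    rw [h, h3] at h4
    have h5 : S.index = n := by omega
    rw [h5] at h'
    exact (Nat.not_even_iff_odd.2 hn) (even_iff_two_dvd.2 h')
  exact (D.sylow_two (h1.toSylow h2)).2

/-! ### Rotations -/

theorem psi_eq_one_of_T0 {g : SL(2, K)} (hg : g ∈ (T0 : Subgroup SL(2, K))) (hb : g 0 1 = 0) : D.psi g = 1 := by
  apply D.psi_eq_one_of hb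
  · rw [hg.2, hb, neg_zero]
  · rw [hg.1]

theorem psi_eq_w_of_T0 {g : SL(2, K)} (hg : g ∈ (T0 : Subgroup SL(2, K))) (ha : g 0 0 = 0) : D.psi g = D.w := by
  have hn := T0_norm hg
  rw [ha] at hn
  have hb : g 0 1 = 1 ∨ g 0 1 = -1 := by
    have : (g 0 1 - 1) * (g 0 1 + 1) = 0 := by linear_combination hn
    rcases mul_eq_zero.1 this with h | h
    · left
      linear_combination h
    · right
      linear_combination h
  obtain ⟨e1, e2, e3, e4⟩ := g0_apply (K := K)
  rw [← D.psi_g0, D.psi_eq_iff]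
  rcases hb with hb | hb
  · left
    apply sl_ext
    · rw [ha, e1]
    · rw [hb, e2]
    · rw [hg.2, hb, e3]
    · rw [hg.1, ha, e4]
  · right
    apply sl_ext <;> rw [nI_mul]
    · rw [ha, e1, neg_zero]
    · rw [hb, e2]
    · rw [hg.2, hb, e3]
    · rw [hg.1, ha, e4, neg_zero]

/-- Commuting with a rotation of order different from one and two inside `C(t₀)`. -/
theorem mem_A0_of_comm {g : SL(2, K)} (hg : g ∈ (T0 : Subgroup SL(2, K))) (h1 : D.psi g ≠ 1)
    (h2 : D.psi g ≠ D.w) {x : G} (hx : x * D.psi g = D.psi g * x) (ht : D.t0 * x = x * D.t0) : x ∈ D.A0 := by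
  have hb : g 0 1 ≠ 0 := fun h => h1 (D.psi_eq_one_of_T0 hg h)
  have ha : g 0 0 ≠ 0 := fun h => h2 (D.psi_eq_w_of_T0 hg h)
  obtain ⟨c, hc⟩ := D.cent_t0_form ht
  have key : D.psi c * D.psi g = D.psi g * D.psi c := by
    rcases hc with rfl | rfl
    · exact hx
    · apply mul_left_cancel (a := D.t0)
      rw [← mul_assoc, hx, ← mul_assoc, ← mul_assoc, D.t0_comm_psi g]
  rw [← map_mul, ← map_mul, D.psi_eq_iff] at key
  rcases key with key | key
  · have hcT := mem_T0_of_comm hg hb key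
    rcases hc with rfl | rfl
    · exact D.X1_le_A0 (D.psi_mem_X1 hcT)
    · exact Or.inr ⟨_, D.psi_mem_X1 hcT, rfl⟩
  · exact absurd (eq_zero_of_anti_comm hg key) ha

/-- The main claim: the centraliser of a rotation of prime order dividing `(q + 1) / 4`. -/
theorem cent_rot [Finite G] {y : G} (hy : y ∈ D.X1) {p : ℕ} (hp : p.Prime) (hd : p ∣ D.n0) (hyo : orderOf y = p) :
    Subgroup.centralizer {y} = D.A0 := by
  classical
  obtain ⟨hpq, hpq1, hpD, hp3, hp2⟩ := D.dvd_n0_facts hp hd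
  obtain ⟨g, hg, rfl⟩ := hy
  have hy1 : D.psi g ≠ 1 := by
    intro h
    rw [h, orderOf_one] at hyo
    exact hp.one_lt.ne hyo
  have hyw : D.psi g ≠ D.w := by
    intro h
    have h1 : orderOf (D.psi g) ∣ 2 := orderOf_dvd_of_pow_eq_one (by rw [h, pow_two, D.w_mul_w])
    rw [hyo] at h1
    exact hp2 ((Nat.prime_dvd_prime_iff_eq hp Nat.prime_two).1 h1)
  set y := D.psi g with hy
  have hy_A : y ∈ D.A0 := D.X1_le_A0 (D.psi_mem_X1 hg)
  have hle : D.A0 ≤ Subgroup.centralizer {y} := fun x hx => D.A0_le_cent hy_A hx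
  set C := Subgroup.centralizer {y} with hC
  have hmemC : ∀ {x}, x ∈ C ↔ x * y = y * x := Subgroup.mem_centralizer_singleton_iff
  -- `y` has no fixed points
  have hfree : ∀ α : D.Om, y • α ≠ α := by
    intro α hα
    have h1 := D.orderOf_dvd_of_fix hα
    rw [hyo] at h1
    rcases (Nat.Prime.dvd_mul hp).1 h1 with h2 | h2
    · exact hpq (hp.dvd_of_dvd_pow h2)
    · exact hpq1 h2
  -- odd primes
  have hodd : Odd (orderOf y) := by
    rw [hyo]
    exact hp.odd_of_ne_two hp2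
  have hcop : Nat.Coprime (Nat.card C) (D.q ^ 3 * D.m0 * D.Dd) := by
    apply Nat.coprime_of_dvd
    intro r hr hrC hrM
    haveI : Fact r.Prime := ⟨hr⟩
    obtain ⟨s, hs⟩ := exists_prime_orderOf_dvd_card' r hrC
    have hs' : orderOf (s : G) = r := by rwa [Subgroup.orderOf_coe]
    have hs_pow : (s : G) ^ r = 1 := by rw [← hs', pow_orderOf_eq_one]
    have hs1 : (s : G) ≠ 1 := by
      intro h
      rw [h, orderOf_one] at hs'
      exact hr.one_lt.ne hs'
    have hscomm : (s : G) * y = y * s := hmemC.1 s.2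
    have hr2 : r ≠ 2 := by
      rintro rfl
      have h1 : (D.q ^ 3 * D.m0 * D.Dd) % 2 = 1 := by
        rw [Nat.mul_mod, Nat.mul_mod (D.q ^ 3), D.m0_odd, D.Dd_odd, Nat.pow_mod]
        have : D.q % 2 = 1 := by
          have := D.q_mod8
          omega
        rw [this]
      omega
    have hfixcase : ¬ r ∣ D.q ^ 3 + 1 → False := by
      intro hnd
      obtain ⟨α, hα⟩ := D.exists_fix_of_prime hr hs_pow hnd
      have hCT : ¬ D.CT (s : G) := by
        intro h
        have h1 : orderOf (s : G) ∣ 2 := orderOf_dvd_of_pow_eq_one (by rw [pow_two, D.CT_sq h])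
        rw [hs'] at h1
        exact hr2 ((Nat.prime_dvd_prime_iff_eq hr Nat.prime_two).1 h1)
      exact hfree α (D.fix_of_comm_odd hs1 hCT hscomm.symm hodd hα)
    rcases (Nat.Prime.dvd_mul hr).1 hrM with h1 | h1
    · rcases (Nat.Prime.dvd_mul hr).1 h1 with h2 | h2
      · -- `r` divides `q`
        have h3 := hr.dvd_of_dvd_pow h2
        apply hfixcase
        intro h4
        have h5 : r ∣ 1 := (Nat.dvd_add_right (dvd_pow h3 (by norm_num))).1 h4
        exact hr.one_lt.ne' (Nat.dvd_one.1 h5)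
      · -- `r` divides `q - 1`
        apply hfixcase
        intro h4
        have h3 : r ∣ D.q - 1 := by
          rw [← D.two_m0]
          exact h2.trans (Dvd.intro_left 2 rfl)
        -- `q³ + 1 ≡ 2`
        have e : D.q ^ 3 + 1 = (D.q - 1) * (D.q ^ 2 + D.q + 1) + 2 := by
          obtain ⟨k, hk⟩ : ∃ k, D.q = k + 1 := ⟨D.q - 1, D.q_sub_one_add.symm⟩
          rw [hk]
          simp only [Nat.add_sub_cancel]
          ring
        rw [e] at h4
        have h5 : r ∣ 2 := (Nat.dvd_add_right (h3.trans (Dvd.intro _ rfl))).1 h4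
        exact hr2 ((Nat.prime_dvd_prime_iff_eq hr Nat.prime_two).1 h5)
    · -- `r` divides `q² - q + 1`
      exact D.not_comm_rot h1 hs_pow hs1 hg (fun h => hy1 (D.psi_eq_one_of_T0 hg h)) hscomm
  -- the two part
  have h8 : ¬ 8 ∣ Nat.card C := by
    intro h8
    haveI : Fact (Nat.Prime 2) := ⟨Nat.prime_two⟩
    have ht0C : D.t0 ∈ C := hle D.t0_mem_A0
    let T : Subgroup C := Subgroup.zpowers (⟨D.t0, ht0C⟩ : C)
    have hT : Nat.card T = 2 ^ 1 := by
      rw [Nat.card_zpowers, pow_one]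
      apply orderOf_eq_prime
      · apply Subtype.ext
        show D.t0 ^ 2 = 1
        rw [pow_two, D.t0_sq]
      · intro h
        exact D.t0_ne (congrArg Subtype.val h)
    obtain ⟨S, hS, hTS⟩ := Sylow.exists_subgroup_card_pow_prime_le 2 (m := 3) (by simpa using h8) T hT (by norm_num)
    let S' : Subgroup G := S.map C.subtype
    have hS' : Nat.card S' = 8 := by
      rw [Subgroup.card_map_of_injective C.subtype_injective, hS]
      norm_num
    have hexp := D.order8_exp2 S' hS'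
    have ht0S : D.t0 ∈ S' :=
      ⟨⟨D.t0, ht0C⟩, hTS (Subgroup.mem_zpowers _), rfl⟩
    have hcomm : ∀ x ∈ S', D.t0 * x = x * D.t0 := by
      intro x hx
      have h1 := hexp _ (S'.mul_mem ht0S hx)
      have h2 := hexp _ ht0S
      have h3 := hexp _ hx
      calc D.t0 * x = (D.t0 * x) * ((x * D.t0) * (x * D.t0)) := by
            rw [show (x * D.t0) * (x * D.t0) = 1 from hexp _ (S'.mul_mem hx ht0S), mul_one]
        _ = (D.t0 * (x * x) * D.t0) * (x * D.t0) := by group
        _ = x * D.t0 := by rw [h3, mul_one, h2, one_mul]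
    have hle2 : S' ≤ D.A0 := by
      rintro x ⟨c, hc, rfl⟩
      exact D.mem_A0_of_comm hg hy1 hyw (hmemC.1 c.2) (hcomm _ ⟨c, hc, rfl⟩)
    have h9 := Subgroup.card_dvd_of_le hle2
    rw [hS', D.card_A0] at h9
    have := D.q_mod8
    omega
  -- conclusion
  have hdvd : Nat.card C ∣ D.q + 1 := by
    have h1 : Nat.card C ∣ 8 * (D.n0 * (D.q ^ 3 * D.m0 * D.Dd)) := by
      rw [← D.card_G_factor]
      exact Subgroup.card_subgroup_dvd_card C
    have h2 : Nat.card C ∣ 8 * D.n0 := by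
      rw [← mul_assoc] at h1
      exact hcop.dvd_of_dvd_mul_right h1
    obtain ⟨k, hk⟩ := h2
    have hk2 : k % 2 = 0 := by
      by_contra hk2
      have hkodd : Nat.Coprime 8 k := by
        have : Nat.Coprime 2 k := by
          rw [Nat.coprime_two_left]
          exact Nat.odd_iff.2 (by omega)
        exact Nat.Coprime.pow_left 3 this
      exact h8 (hkodd.dvd_of_dvd_mul_right ⟨D.n0, hk.symm⟩)
    obtain ⟨k', rfl⟩ : ∃ k', k = 2 * k' := ⟨k / 2, by omega⟩
    rw [← D.four_n0]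
    exact ⟨k', by linarith⟩
  have hcard : Nat.card C = Nat.card D.A0 := by
    rw [D.card_A0]
    apply Nat.dvd_antisymm hdvd
    rw [← D.card_A0]
    exact Subgroup.card_dvd_of_le hle
  exact (Subgroup.eq_of_le_of_card_ge hle (le_of_eq hcard)).symm

end Dat

end Cfsg.Agent.Lib.Ree.Abs
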