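import Cfsg.Agent.Lib.Ree.Abs10

/-!
# The abstract Ree group: involutions, split tori and centralisers
-/

set_option autoImplicit false
set_option linter.unusedSectionVars false
set_option linter.unusedSimpArgs false
set_option linter.unnecessarySeqFocus false

namespace Cfsg.Agent.Lib.Ree.Abs

open Matrix Cfsg.Agent.Lib.Ree.Sigma Cfsg.Agent.Lib.Ree.Words Cfsg.Agent.Lib.Ree.Psi
open scoped MatrixGroups Pointwise

/-- Conjugation of the centraliser of an element. -/
theorem cent_conj {Γ : Type*} [_root_.Group Γ] (n z : Γ) :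
    Subgroup.centralizer {n * z * n⁻¹} = (Subgroup.centralizer {z}).map (MulAut.conj n).toMonoidHom := by
  ext x
  rw [mem_map_conj, Subgroup.mem_centralizer_singleton_iff, Subgroup.mem_centralizer_singleton_iff]
  constructor
  · intro h
    calc n⁻¹ * x * n * z = n⁻¹ * (x * (n * z * n⁻¹)) * n := by group
      _ = n⁻¹ * ((n * z * n⁻¹) * x) * n := by rw [h]
      _ = _ := by group
  · intro h
    calc x * (n * z * n⁻¹) = n * ((n⁻¹ * x * n) * z) * n⁻¹ := by group
      _ = n * (z * (n⁻¹ * x * n)) * n⁻¹ := by rw [h]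
      _ = _ := by group

/-- The centraliser of a subgroup of an abelian group is that of an element whose centraliser is
abelian. -/
theorem cent_eq_of_abelian {Γ : Type*} [_root_.Group Γ] (H : Subgroup Γ) (hc : ∀ a ∈ H, ∀ b ∈ H, a * b = b * a)
    {y : Γ} (hy : y ∈ H) (hC : ∀ a ∈ Subgroup.centralizer {y}, ∀ b ∈ Subgroup.centralizer {y}, a * b = b * a) :
    Subgroup.centralizer (H : Set Γ) = Subgroup.centralizer {y} := by
  apply le_antisymm
  · intro x hx
    rw [Subgroup.mem_centralizer_iff] at hx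
    rw [Subgroup.mem_centralizer_singleton_iff]
    exact (hx y hy).symm
  · intro x hx
    rw [Subgroup.mem_centralizer_iff]
    intro a ha
    exact hC a (Subgroup.mem_centralizer_singleton_iff.2 (hc a ha y hy)) x hx

theorem orderOf_conj {Γ : Type*} [_root_.Group Γ] (n x : Γ) : orderOf (n⁻¹ * x * n) = orderOf x := by
  have : n⁻¹ * x * n = MulAut.conj n⁻¹ x := by simp [MulAut.conj_apply]
  rw [this, MulEquiv.orderOf_eq]

theorem cyclic_comm {Γ : Type*} [_root_.Group Γ] (H : Subgroup Γ) (hH : IsCyclic H) : ∀ a ∈ H, ∀ b ∈ H, a * b = b * a := by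
  intro a ha b hb
  letI c : CommGroup H := IsCyclic.commGroup
  exact congrArg Subtype.val (mul_comm (⟨a, ha⟩ : H) ⟨b, hb⟩)

/-- The set of involutions. -/
def invSet (G : Type*) [_root_.Group G] : Set G := {x | x * x = 1 ∧ x ≠ 1}

namespace Dat

variable {K G : Type*} [Field K] [Fintype K] [CharP K 3] [_root_.Group G] (D : Dat K G)

/-! ### The involutions -/

theorem mem_invSet_iff [Finite G] (hm : 1 ≤ D.m) {x : G} : x ∈ (invSet G) ↔ ∃ n, x = n * D.t0 * n⁻¹ := by
  constructor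
  · rintro ⟨h1, h2⟩
    exact D.inv_CT hm h1 h2
  · intro h
    exact ⟨D.CT_sq h, D.CT_ne h⟩

theorem card_invSet [Finite G] (hm : 1 ≤ D.m) : Nat.card (invSet G) = D.q ^ 2 * D.Dd := by
  have h1 := card_conj_orbit (⊤ : Subgroup G) D.t0 (invSet G) (fun y => by
    rw [D.mem_invSet_iff hm]
    simp)
  rw [top_inf_eq, D.card_cent_t0, Nat.card_congr Subgroup.topEquiv.toEquiv, D.card_G', D.cube_eq] at h1
  have e : D.q ^ 2 - 1 = (D.q - 1) * (D.q + 1) := by
    obtain ⟨k, hk⟩ : ∃ k, D.q = k + 1 := ⟨D.q - 1, D.q_sub_one_add.symm⟩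
    rw [hk]
    simp only [Nat.add_sub_cancel]
    have : (k + 1) ^ 2 - 1 = k * (k + 1 + 1) := by
      have : (k + 1) ^ 2 = k * (k + 1 + 1) + 1 := by ring
      omega
    exact this
  rw [e] at h1
  have hq := D.q_pos
  have hq1 := D.q_sub_pos
  have hpos : 0 < D.q * ((D.q - 1) * (D.q + 1)) := by positivity
  apply Nat.eq_of_mul_eq_mul_right hpos
  rw [← h1]
  ring

/-- An element of prime order not dividing the number of involutions commutes with an involution. -/
theorem exists_inv_comm [Finite G] (hm : 1 ≤ D.m) {y : G} {p : ℕ} (hp : p.Prime) (hy : y ^ p = 1)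
    (hd : ¬ p ∣ D.q ^ 2 * D.Dd) : ∃ i ∈ (invSet G), y * i = i * y := by
  classical
  have : Fintype (invSet G) := Fintype.ofFinite _
  have : Fact p.Prime := ⟨hp⟩
  have hinv : ∀ x ∈ (invSet G), y * x * y⁻¹ ∈ (invSet G) := by
    rintro x ⟨h1, h2⟩
    constructor
    · calc y * x * y⁻¹ * (y * x * y⁻¹) = y * (x * x) * y⁻¹ := by group
        _ = 1 := by rw [h1]; group
    · intro h
      apply h2
      have : x = y⁻¹ * (y * x * y⁻¹) * y := by group
      rw [this, h]
      group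
  let f : Function.End (invSet G) := fun x => ⟨y * x.1 * y⁻¹, hinv x.1 x.2⟩
  have hfn : ∀ (n : ℕ) (x : (invSet G)), ((f ^ n) x).1 = y ^ n * x.1 * (y ^ n)⁻¹ := by
    intro n
    induction n with
    | zero => intro x; simp; rfl
    | succ n ih =>
      intro x
      have e : (f ^ (n + 1)) x = (f ^ n) (f x) := by rw [pow_succ]; rfl
      rw [e, ih, pow_succ]
      show y ^ n * (y * x.1 * y⁻¹) * (y ^ n)⁻¹ = _
      group
  have hf : f ^ (p ^ 1) = 1 := by
    funext x
    apply Subtype.ext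
    rw [hfn, pow_one, hy]
    show 1 * x.1 * 1⁻¹ = x.1
    group
  have h1 := Equiv.Perm.card_fixedPoints_modEq hf
  by_contra hcon
  push Not at hcon
  have h2 : Fintype.card ↑(Function.fixedPoints f) = 0 := by
    rw [Fintype.card_eq_zero_iff]
    refine ⟨fun x => ?_⟩
    apply hcon x.1.1 x.1.2
    have e : y * x.1.1 * y⁻¹ = x.1.1 := congrArg Subtype.val x.2
    calc y * x.1.1 = y * x.1.1 * y⁻¹ * y := by group
      _ = _ := by rw [e]
  rw [h2, ← Nat.card_eq_fintype_card, D.card_invSet hm] at h1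
  exact hd ((Nat.modEq_zero_iff_dvd).1 h1)

/-- Elements of prime order dividing `(q + 1) / 4` are conjugate to rotations. -/
theorem conj_X1_of_prime [Finite G] (hm : 1 ≤ D.m) {y : G} {p : ℕ} (hp : p.Prime) (hd : p ∣ D.n0)
    (hyo : orderOf y = p) : ∃ n, n⁻¹ * y * n ∈ D.X1 := by
  obtain ⟨hpq, hpq1, hpD, hp3, hp2⟩ := D.dvd_n0_facts hp hd
  have hyp : y ^ p = 1 := by rw [← hyo, pow_orderOf_eq_one]
  have hfree : ∀ α : D.Om, y • α ≠ α := by
    intro α hα
    have h1 := D.orderOf_dvd_of_fix hα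
    rw [hyo] at h1
    rcases (Nat.Prime.dvd_mul hp).1 h1 with h2 | h2
    · exact hpq (hp.dvd_of_dvd_pow h2)
    · exact hpq1 h2
  have hnd : ¬ p ∣ D.q ^ 2 * D.Dd := by
    intro h
    rcases (Nat.Prime.dvd_mul hp).1 h with h2 | h2
    · exact hpq (hp.dvd_of_dvd_pow h2)
    · exact hpD h2
  obtain ⟨i, hi, hcomm⟩ := D.exists_inv_comm hm hp hyp hnd
  obtain ⟨h, rfl⟩ := (D.mem_invSet_iff hm).1 hi
  have hc' : D.t0 * (h⁻¹ * y * h) = (h⁻¹ * y * h) * D.t0 := by
    have e1 : y * (h * D.t0 * h⁻¹) = (h * D.t0 * h⁻¹) * y := hcomm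
    calc D.t0 * (h⁻¹ * y * h) = h⁻¹ * ((h * D.t0 * h⁻¹) * y) * h := by group
      _ = h⁻¹ * (y * (h * D.t0 * h⁻¹)) * h := by rw [e1]
      _ = _ := by group
  have hfree' : ∀ α : D.Om, (h⁻¹ * y * h) • α ≠ α := by
    intro α hα
    apply hfree (h • α)
    have e : y * h = h * (h⁻¹ * y * h) := by group
    rw [← mul_smul, e, mul_smul, hα]
  obtain ⟨P, z, hz, he⟩ := D.conj_of_comm_t0 hc' hfree'
  refine ⟨h * D.psi P, ?_⟩
  have e : (h * D.psi P)⁻¹ * y * (h * D.psi P) = z := by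
    have : y = h * (D.psi P * z * (D.psi P)⁻¹) * h⁻¹ := by
      rw [← he]
      group
    rw [this]
    group
  rw [e]
  have hzo : orderOf z = p := by
    rw [← e, ← hyo]
    exact orderOf_conj _ _
  rcases hz with hz | ⟨a, ha, rfl⟩
  · exact hz
  · exfalso
    have hc := D.A0_comm_t0 (D.X1_le_A0 ha)
    have hc2 : Commute D.t0 a := hc
    have h1 : (D.t0 * a) ^ p = 1 := by rw [← hzo, pow_orderOf_eq_one]
    rw [hc2.mul_pow] at h1
    have hodd : p % 2 = 1 := by
      rcases hp.eq_two_or_odd with h | h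
      · exact absurd h hp2
      · exact h
    obtain ⟨k, hk⟩ : ∃ k, p = 2 * k + 1 := ⟨p / 2, by omega⟩
    have h2 : D.t0 ^ p = D.t0 := by
      rw [hk, pow_succ, pow_mul, pow_two, D.t0_sq, one_pow, one_mul]
    rw [h2] at h1
    apply D.t0_not_mem_X1
    have h3 : D.t0 = (a ^ p)⁻¹ := eq_inv_of_mul_eq_one_left h1
    rw [h3]
    exact D.X1.inv_mem (D.X1.pow_mem ha _)

/-- The centraliser of an element of prime order dividing `(q + 1) / 4`. -/
theorem cent_of_prime [Finite G] (hm : 1 ≤ D.m) {y : G} {p : ℕ} (hp : p.Prime) (hd : p ∣ D.n0)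
    (hyo : orderOf y = p) : ∃ n, n⁻¹ * y * n ∈ D.X1 ∧ Subgroup.centralizer {y} = D.A0.map (MulAut.conj n).toMonoidHom := by
  obtain ⟨n, hn⟩ := D.conj_X1_of_prime hm hp hd hyo
  refine ⟨n, hn, ?_⟩
  have hz : orderOf (n⁻¹ * y * n) = p := by
    rw [← hyo]
    exact orderOf_conj _ _
  have e := D.cent_rot hn hp hd hz
  have e2 : y = n * (n⁻¹ * y * n) * n⁻¹ := by group
  conv_lhs => rw [e2]
  rw [cent_conj, e]

/-- Exponent of the torus. -/
theorem A0_exp [Finite G] {x : G} (hx : x ∈ D.A0) : x ^ (2 * D.n0) = 1 := by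
  have h1 : ∀ z ∈ D.X1, z ^ (2 * D.n0) = 1 := by
    intro z hz
    have h2 := D.card_X1
    rw [← D.four_n0] at h2
    have h3 : Nat.card D.X1 = 2 * D.n0 := by omega
    have h4 := pow_card_eq_one' (x := (⟨z, hz⟩ : D.X1))
    rw [h3] at h4
    exact congrArg Subtype.val h4
  rcases hx with hx | ⟨a, ha, rfl⟩
  · exact h1 x hx
  · have hc2 : Commute D.t0 a := D.A0_comm_t0 (D.X1_le_A0 ha)
    rw [hc2.mul_pow, h1 a ha, mul_one, pow_mul, pow_two, D.t0_sq, one_pow]

theorem n0_gt_one (hm : 1 ≤ D.m) : 1 < D.n0 := by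
  have h1 := D.q_ge' hm
  have h2 := D.four_n0
  omega

theorem A0_map_comm {n a b : G} (ha : a ∈ D.A0.map (MulAut.conj n).toMonoidHom)
    (hb : b ∈ D.A0.map (MulAut.conj n).toMonoidHom) : a * b = b * a := by
  rw [mem_map_conj] at ha hb
  have h := D.A0_comm ha hb
  calc a * b = n * ((n⁻¹ * a * n) * (n⁻¹ * b * n)) * n⁻¹ := by group
    _ = n * ((n⁻¹ * b * n) * (n⁻¹ * a * n)) * n⁻¹ := by rw [h]
    _ = b * a := by group

/-- The second half of the centraliser theorem. -/
theorem cent_n0 [Finite G] (hm : 1 ≤ D.m) (H : Subgroup G) (hH : IsCyclic H) (hc : Nat.card H = D.n0) :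
    IsMulCommutative ↥(Subgroup.centralizer (H : Set G)) ∧
      Nat.card ↥(Subgroup.centralizer (H : Set G)) = D.q + 1 ∧
      (∀ x ∈ Subgroup.centralizer (H : Set G), orderOf x ≠ 4) ∧
      ∀ A : Subgroup G, A ≤ H → A ≠ ⊥ → Subgroup.centralizer (A : Set G) = Subgroup.centralizer (H : Set G) := by
  classical
  have hHcomm : ∀ a ∈ H, ∀ b ∈ H, a * b = b * a := cyclic_comm H hH
  -- the key: a nontrivial subgroup gives a prime element
  have key : ∀ A : Subgroup G, A ≤ H → A ≠ ⊥ → ∃ n, Subgroup.centralizer (A : Set G) = D.A0.map (MulAut.conj n).toMonoidHom ∧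
      Subgroup.centralizer (H : Set G) = D.A0.map (MulAut.conj n).toMonoidHom := by
    intro A hAH hA
    have hA1 : Nat.card A ≠ 1 := by
      intro h
      exact hA ((Subgroup.card_eq_one).1 h)
    obtain ⟨p, hp, hpA⟩ := Nat.exists_prime_and_dvd hA1
    haveI : Fact p.Prime := ⟨hp⟩
    obtain ⟨y, hy⟩ := exists_prime_orderOf_dvd_card' p hpA
    have hy' : orderOf (y : G) = p := by rwa [Subgroup.orderOf_coe]
    have hpn : p ∣ D.n0 := by
      rw [← hc]
      exact hpA.trans (Subgroup.card_dvd_of_le hAH)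
    obtain ⟨n, -, hn⟩ := D.cent_of_prime hm hp hpn hy'
    have hCcomm : ∀ a ∈ Subgroup.centralizer {(y : G)}, ∀ b ∈ Subgroup.centralizer {(y : G)}, a * b = b * a := by
      rw [hn]
      intro a ha b hb
      exact D.A0_map_comm ha hb
    refine ⟨n, ?_, ?_⟩
    · rw [cent_eq_of_abelian A (fun a ha b hb => hHcomm a (hAH ha) b (hAH hb)) y.2 hCcomm, hn]
    · rw [cent_eq_of_abelian H hHcomm (hAH y.2) hCcomm, hn]
  have hH1 : H ≠ ⊥ := by
    rintro rfl
    have := D.n0_gt_one hm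
    rw [← hc] at this
    simp at this
  obtain ⟨n, -, hn⟩ := key H le_rfl hH1
  refine ⟨?_, ?_, ?_, ?_⟩
  · rw [hn]
    constructor
    constructor
    intro a b
    exact Subtype.ext (D.A0_map_comm a.2 b.2)
  · rw [hn, card_map_conj, D.card_A0]
  · rw [hn]
    intro x hx h4
    rw [mem_map_conj] at hx
    have h1 := D.A0_exp hx
    have h2 := orderOf_dvd_of_pow_eq_one h1
    rw [orderOf_conj, h4] at h2
    have := D.n0_odd
    omega
  · intro A hA hA1
    obtain ⟨n', h1, h2⟩ := key A hA hA1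
    rw [h1, h2]

/-! ### The split torus -/

/-- The split torus. -/
noncomputable def H0 : Subgroup G := D.d.range

theorem d_mem_H0 (κ : Kˣ) : D.d κ ∈ D.H0 := ⟨κ, rfl⟩

theorem H0_cyclic : IsCyclic D.H0 := by
  let f : Kˣ →* D.H0 := D.d.rangeRestrict
  exact isCyclic_of_surjective f D.d.rangeRestrict_surjective

theorem card_H0 : Nat.card D.H0 = D.q - 1 := by
  classical
  have : Nat.card D.H0 = Nat.card Kˣ :=
    (Nat.card_congr (MonoidHom.ofInjective D.d_inj).toEquiv).symm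
  rw [this, Nat.card_eq_fintype_card, Fintype.card_units, D.card_K']

theorem H0_comm {a b : G} (ha : a ∈ D.H0) (hb : b ∈ D.H0) : a * b = b * a := by
  obtain ⟨x, rfl⟩ := ha
  obtain ⟨y, rfl⟩ := hb
  rw [← map_mul, ← map_mul, mul_comm]

theorem d_smul_p0 (κ : Kˣ) : D.d κ • D.p0 = D.p0 := D.smul_p0_iff.2 (D.d_mem_B κ)

theorem d_smul_pw (κ : Kˣ) : D.d κ • D.pw = D.pw := by
  rw [D.smul_pw_iff, D.w_conj_d]
  exact D.d_mem_B _

theorem w_smul_p0 : D.w • D.p0 = D.pw := by
  rw [p0, pw, smul_mk, mul_one]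

theorem w_smul_pw : D.w • D.pw = D.p0 := by
  rw [← D.w_smul_p0, ← mul_smul, D.w_mul_w, one_smul]

theorem d_sq_ne {κ : Kˣ} (hκ : κ ^ 2 ≠ 1) : D.d κ ≠ 1 ∧ D.d κ ≠ D.t0 := by
  constructor
  · intro h
    apply hκ
    have : κ = 1 := D.d_inj (h.trans (map_one _).symm)
    rw [this, one_pow]
  · intro h
    apply hκ
    have : κ = -1 := D.d_inj h
    rw [this]
    simp

/-- The fixed points of a regular torus element. -/
theorem d_fix {κ : Kˣ} (hκ : κ ^ 2 ≠ 1) {α : D.Om} (h : D.d κ • α = α) : α = D.p0 ∨ α = D.pw := by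
  rcases D.point_form α with rfl | ⟨t, a, b, rfl⟩
  · exact Or.inl rfl
  · by_cases hu : D.u t a b = 1
    · right
      rw [D.pw_eq]
      apply D.pu_eq_iff.2
      rw [hu, D.u_zero]
    · obtain ⟨h1, h2⟩ := D.d_sq_ne hκ
      rcases D.fix_three (D.d_smul_p0 κ) (D.d_smul_pw κ) h hu with h3 | h3
      · exact absurd h3 h1
      · exact absurd h3 h2

/-- The centraliser of a regular torus element. -/
theorem cent_d {κ : Kˣ} (hκ : κ ^ 2 ≠ 1) : Subgroup.centralizer {D.d κ} = D.H0 := by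
  apply le_antisymm
  · intro x hx
    rw [Subgroup.mem_centralizer_singleton_iff] at hx
    have hF : ∀ α : D.Om, D.d κ • α = α → D.d κ • (x • α) = x • α := by
      intro α hα
      rw [← mul_smul, ← hx, mul_smul, hα]
    rcases D.d_fix hκ (hF _ (D.d_smul_p0 κ)) with h1 | h1
    · -- `x` fixes the base point
      rcases D.d_fix hκ (hF _ (D.d_smul_pw κ)) with h2 | h2
      · exfalso
        have : D.pw = D.p0 := smul_left_cancel x (h2.trans h1.symm)
        exact D.pw_ne_p0 this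
      · obtain ⟨μ, rfl⟩ := D.fix_p0_pw h1 h2
        exact D.d_mem_H0 μ
    · -- `x` moves the base point
      exfalso
      rcases D.d_fix hκ (hF _ (D.d_smul_pw κ)) with h2 | h2
      · have h3 : (x * D.w) • D.p0 = D.p0 := by
          rw [mul_smul, D.w_smul_p0, h2]
        have h4 : (x * D.w) • D.pw = D.pw := by
          rw [mul_smul, D.w_smul_pw, h1]
        obtain ⟨μ, hμ⟩ := D.fix_p0_pw h3 h4
        have hx' : x = D.d μ * D.w := by
          rw [← hμ, mul_assoc, D.w_mul_w, mul_one]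
        rw [hx'] at hx
        apply hκ
        have h5 : D.w * D.d κ * D.w = D.d κ := by
          have h6 : D.d μ * (D.w * D.d κ * D.w) = D.d μ * D.d κ := by
            calc D.d μ * (D.w * D.d κ * D.w) = (D.d μ * D.w * D.d κ) * D.w := by group
              _ = (D.d κ * (D.d μ * D.w)) * D.w := by rw [hx]
              _ = D.d κ * D.d μ * (D.w * D.w) := by group
              _ = D.d μ * D.d κ := by rw [D.w_mul_w, mul_one, ← map_mul, ← map_mul, mul_comm]
          exact mul_left_cancel h6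
        rw [D.w_conj_d] at h5
        have h7 : κ⁻¹ = κ := D.d_inj h5
        calc κ ^ 2 = κ * κ := pow_two κ
          _ = κ⁻¹ * κ := by rw [h7]
          _ = 1 := inv_mul_cancel κ
      · have : D.p0 = D.pw := smul_left_cancel x (h1.trans h2.symm)
        exact D.pw_ne_p0 this.symm
  · intro x hx
    rw [Subgroup.mem_centralizer_singleton_iff]
    exact D.H0_comm hx (D.d_mem_H0 κ)

section Two

variable [Finite G]

theorem card_fix_modEq {s : G} {r : ℕ} (hr : r.Prime) (hs : s ^ r = 1) : D.q ^ 3 + 1 ≡ D.fx s [MOD r] := by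
  classical
  have := Fintype.ofFinite G
  have : Fintype D.Om := Fintype.ofFinite _
  have : Fact r.Prime := ⟨hr⟩
  let f : Function.End D.Om := fun α => s • α
  have hfn : ∀ (n : ℕ) (α : D.Om), (f ^ n) α = s ^ n • α := by
    intro n
    induction n with
    | zero => intro α; simp; rfl
    | succ n ih =>
      intro α
      have e : (f ^ (n + 1)) α = (f ^ n) (f α) := by rw [pow_succ]; rfl
      rw [e, ih, pow_succ, mul_smul]
  have hf : f ^ (r ^ 1) = 1 := by
    funext α
    rw [hfn, pow_one, hs, one_smul]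
    rfl
  have h1 := Equiv.Perm.card_fixedPoints_modEq hf
  rw [← Nat.card_eq_fintype_card, D.card_Om] at h1
  have e : Fintype.card ↑(Function.fixedPoints f) = D.fx s := by
    rw [fx, ← Nat.card_eq_fintype_card]
    rfl
  rwa [e] at h1

/-- Elements of odd prime order dividing `q - 1` are conjugate to regular torus elements. -/
theorem conj_d_of_prime {y : G} {p : ℕ} (hp : p.Prime) (hp2 : p ≠ 2) (hd : p ∣ D.q - 1) (hyo : orderOf y = p) :
    ∃ (n : G) (κ : Kˣ), n⁻¹ * y * n = D.d κ ∧ κ ^ 2 ≠ 1 := by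
  have hyp : y ^ p = 1 := by rw [← hyo, pow_orderOf_eq_one]
  have hy1 : y ≠ 1 := by
    rintro rfl
    rw [orderOf_one] at hyo
    exact hp.one_lt.ne hyo
  have hCT : ¬ D.CT y := by
    intro h
    have h1 : orderOf y ∣ 2 := orderOf_dvd_of_pow_eq_one (by rw [pow_two, D.CT_sq h])
    rw [hyo] at h1
    exact hp2 ((Nat.prime_dvd_prime_iff_eq hp Nat.prime_two).1 h1)
  have h1 := D.card_fix_modEq hp hyp
  have h2 := D.fx_le_two hy1 hCT
  have e : D.q ^ 3 + 1 = (D.q - 1) * (D.q ^ 2 + D.q + 1) + 2 := by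
    obtain ⟨k, hk⟩ : ∃ k, D.q = k + 1 := ⟨D.q - 1, D.q_sub_one_add.symm⟩
    rw [hk]
    simp only [Nat.add_sub_cancel]
    ring
  have h3 : 2 ≡ D.fx y [MOD p] := by
    have h4 : D.q ^ 3 + 1 ≡ 2 [MOD p] := by
      rw [e]
      have : (D.q - 1) * (D.q ^ 2 + D.q + 1) + 2 ≡ 0 + 2 [MOD p] :=
        Nat.ModEq.add_right _ ((Nat.modEq_zero_iff_dvd).2 (hd.trans (Dvd.intro _ rfl)))
      simpa using this
    exact h4.symm.trans h1
  have hp3 : 3 ≤ p := by
    have := hp.two_le
    omega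
  have h4 : D.fx y = 2 := by
    have h5 := h3
    rw [Nat.ModEq] at h5
    rw [Nat.mod_eq_of_lt (by omega : 2 < p), Nat.mod_eq_of_lt (by omega : D.fx y < p)] at h5
    omega
  have h5 : 1 < (MulAction.fixedBy D.Om y).ncard := by
    rw [fx, Nat.card_coe_set_eq] at h4
    omega
  obtain ⟨α, β, hα, hβ, hne⟩ := (Set.one_lt_ncard (Set.toFinite _)).1 h5
  obtain ⟨g, hg1, hg2⟩ := D.two_trans hne
  have h6 : (g * y * g⁻¹) • D.p0 = D.p0 := by
    rw [← hg1, mul_smul, mul_smul, inv_smul_smul]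
    congr 1
  have h7 : (g * y * g⁻¹) • D.pw = D.pw := by
    rw [← hg2, mul_smul, mul_smul, inv_smul_smul]
    congr 1
  obtain ⟨κ, hκ⟩ := D.fix_p0_pw h6 h7
  refine ⟨g⁻¹, κ, ?_, ?_⟩
  · rw [← hκ]
    group
  · intro h
    have h8 : y * y = 1 := by
      have h9 : (D.d κ) ^ 2 = 1 := by rw [← map_pow, h, map_one]
      rw [← hκ] at h9
      have h10 : (g * y * g⁻¹) ^ 2 = g * (y * y) * g⁻¹ := by
        rw [pow_two]
        group
      rw [h10] at h9
      have : y * y = g⁻¹ * (g * (y * y) * g⁻¹) * g := by group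
      rw [this, h9]
      group
    have h1 : orderOf y ∣ 2 := orderOf_dvd_of_pow_eq_one (by rw [pow_two, h8])
    rw [hyo] at h1
    exact hp2 ((Nat.prime_dvd_prime_iff_eq hp Nat.prime_two).1 h1)

/-- The first half of the centraliser theorem. -/
theorem cent_m0 (hm : 1 ≤ D.m) (H : Subgroup G) (hH : IsCyclic H) (hc : Nat.card H = D.m0) :
    IsCyclic ↥(Subgroup.centralizer (H : Set G)) ∧
      Nat.card ↥(Subgroup.centralizer (H : Set G)) = D.q - 1 ∧
      ∀ A : Subgroup G, A ≤ H → A ≠ ⊥ → Subgroup.centralizer (A : Set G) = Subgroup.centralizer (H : Set G) := by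
  classical
  have hHcomm : ∀ a ∈ H, ∀ b ∈ H, a * b = b * a := cyclic_comm H hH
  have key : ∀ A : Subgroup G, A ≤ H → A ≠ ⊥ → ∃ n, Subgroup.centralizer (A : Set G) = D.H0.map (MulAut.conj n).toMonoidHom ∧
      Subgroup.centralizer (H : Set G) = D.H0.map (MulAut.conj n).toMonoidHom := by
    intro A hAH hA
    have hA1 : Nat.card A ≠ 1 := by
      intro h
      exact hA ((Subgroup.card_eq_one).1 h)
    obtain ⟨p, hp, hpA⟩ := Nat.exists_prime_and_dvd hA1
    haveI : Fact p.Prime := ⟨hp⟩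
    obtain ⟨y, hy⟩ := exists_prime_orderOf_dvd_card' p hpA
    have hy' : orderOf (y : G) = p := by rwa [Subgroup.orderOf_coe]
    have hpn : p ∣ D.m0 := by
      rw [← hc]
      exact hpA.trans (Subgroup.card_dvd_of_le hAH)
    have hp2 : p ≠ 2 := by
      rintro rfl
      have := D.m0_odd
      omega
    have hpq : p ∣ D.q - 1 := by
      rw [← D.two_m0]
      exact hpn.trans (Dvd.intro_left 2 rfl)
    obtain ⟨n, κ, hn, hκ⟩ := D.conj_d_of_prime hp hp2 hpq hy'
    have hn' : Subgroup.centralizer {(y : G)} = D.H0.map (MulAut.conj n).toMonoidHom := by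
      have e2 : (y : G) = n * (D.d κ) * n⁻¹ := by rw [← hn]; group
      conv_lhs => rw [e2]
      rw [cent_conj, D.cent_d hκ]
    have hCcomm : ∀ a ∈ Subgroup.centralizer {(y : G)}, ∀ b ∈ Subgroup.centralizer {(y : G)}, a * b = b * a := by
      rw [hn']
      intro a ha b hb
      rw [mem_map_conj] at ha hb
      have h := D.H0_comm ha hb
      calc a * b = n * ((n⁻¹ * a * n) * (n⁻¹ * b * n)) * n⁻¹ := by group
        _ = n * ((n⁻¹ * b * n) * (n⁻¹ * a * n)) * n⁻¹ := by rw [h]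
        _ = b * a := by group
    refine ⟨n, ?_, ?_⟩
    · rw [cent_eq_of_abelian A (fun a ha b hb => hHcomm a (hAH ha) b (hAH hb)) y.2 hCcomm, hn']
    · rw [cent_eq_of_abelian H hHcomm (hAH y.2) hCcomm, hn']
  have hH1 : H ≠ ⊥ := by
    rintro rfl
    have h1 := D.two_m0
    have h2 := D.q_ge' hm
    rw [← hc] at h1
    simp at h1
    omega
  obtain ⟨n, -, hn⟩ := key H le_rfl hH1
  refine ⟨?_, ?_, ?_⟩
  · rw [hn]
    have := D.H0_cyclic
    exact isCyclic_of_surjective (MulEquiv.toMonoidHom (Subgroup.equivMapOfInjective D.H0 _ (MulAut.conj n).injective))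
      (MulEquiv.surjective _)
  · rw [hn, card_map_conj, D.card_H0]
  · intro A hA hA1
    obtain ⟨n', h1, h2⟩ := key A hA hA1
    rw [h1, h2]

end Two

end Dat

end Cfsg.Agent.Lib.Ree.Abs
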