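import Cfsg.Agent.Lib.Ree.Abs11

/-!
# The abstract Ree group: centralisers of elements of prime order dividing `q² - q + 1`
-/

set_option autoImplicit false
set_option linter.unusedSectionVars false
set_option linter.unusedSimpArgs false
set_option linter.unnecessarySeqFocus false

namespace Cfsg.Agent.Lib.Ree.Abs

open Matrix Cfsg.Agent.Lib.Ree.Sigma Cfsg.Agent.Lib.Ree.Words Cfsg.Agent.Lib.Ree.Psi
open scoped MatrixGroups Pointwise

/-! ### The commutant of an irreducible endomorphism -/

section Irr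

variable {F W : Type*} [Field F] [AddCommGroup W] [Module F W] (τ : Module.End F W)
  (hirr : ∀ E : Submodule F W, (∀ v ∈ E, τ v ∈ E) → E = ⊥ ∨ E = ⊤)

/-- The commutant. -/
def Kc : Subalgebra F (Module.End F W) := Subalgebra.centralizer F {τ}

theorem mem_Kc {B : Module.End F W} : B ∈ Kc τ ↔ τ * B = B * τ := by
  rw [Kc, Subalgebra.mem_centralizer_iff]
  simp

include hirr

/-- A nonzero element of the commutant is injective. -/
theorem Kc_inj {B : Module.End F W} (hB : B ∈ Kc τ) (hB0 : B ≠ 0) : Function.Injective B := by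
  have hinv : ∀ v ∈ LinearMap.ker B, τ v ∈ LinearMap.ker B := by
    intro v hv
    rw [LinearMap.mem_ker] at hv ⊢
    have h1 := LinearMap.congr_fun ((mem_Kc τ).mp hB) v
    change τ (B v) = B (τ v) at h1
    rw [← h1, hv, map_zero]
  rcases hirr _ hinv with h1 | h1
  · exact LinearMap.ker_eq_bot.mp h1
  · exfalso
    apply hB0
    refine LinearMap.ext fun v => ?_
    have : v ∈ LinearMap.ker B := by rw [h1]; exact Submodule.mem_top
    exact LinearMap.mem_ker.mp this

theorem Kc_isDomain [Nontrivial W] : IsDomain (Kc τ) := by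
  have hnz : NoZeroDivisors (Kc τ) := by
    constructor
    intro B C hBC
    by_contra hcon
    push Not at hcon
    obtain ⟨hB, hC⟩ := hcon
    have hB0 : (B : Module.End F W) ≠ 0 := fun hc => hB (Subtype.ext hc)
    have hC0 : (C : Module.End F W) ≠ 0 := fun hc => hC (Subtype.ext hc)
    have h1 := Kc_inj τ hirr B.2 hB0
    have h2 := Kc_inj τ hirr C.2 hC0
    have h3 : ((B * C : Kc τ) : Module.End F W) = 0 := by rw [hBC]; rfl
    have h4 : Function.Injective ((B * C : Kc τ) : Module.End F W) := h1.comp h2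
    rw [h3] at h4
    obtain ⟨v, hv⟩ := exists_ne (0 : W)
    exact hv (h4 (by simp))
  have : Nontrivial (Kc τ) := by
    refine ⟨⟨0, 1, ?_⟩⟩
    intro h
    have h1 : (0 : Module.End F W) = 1 := congrArg Subtype.val h
    obtain ⟨v, hv⟩ := exists_ne (0 : W)
    exact hv (by simpa using (LinearMap.congr_fun h1 v).symm)
  exact NoZeroDivisors.to_isDomain (Kc τ)

theorem Kc_isField [Nontrivial W] [Finite W] : IsField (Kc τ) := by
  have := Kc_isDomain τ hirr
  have : Finite (Module.End F W) := Finite.of_injective (fun f => (f : W → W)) DFunLike.coe_injective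
  exact Finite.isDomain_to_isField (Kc τ)

/-- A finite group acting faithfully on the commutant of an irreducible map is cyclic. -/
theorem comm_cyclic [Nontrivial W] [Finite W] {Γ : Type*} [_root_.Group Γ] [Finite Γ] (ρ : Γ →* Module.End F W)
    (hinj : Function.Injective ρ) (hc : ∀ x, τ * ρ x = ρ x * τ) : IsCyclic Γ := by
  let _ : Field (Kc τ) := (Kc_isField τ hirr).toField
  let φ : Γ →* Kc τ :=
    { toFun := fun x => ⟨ρ x, (mem_Kc τ).2 (hc x)⟩
      map_one' := Subtype.ext (map_one ρ)
      map_mul' := fun a b => Subtype.ext (map_mul ρ a b) }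
  refine isCyclic_of_injective_ringHom φ ?_
  intro a b h
  exact hinj (congrArg Subtype.val h)

end Irr

namespace Dat

variable {K G : Type*} [Field K] [Fintype K] [CharP K 3] [_root_.Group G] (D : Dat K G)

/-! ### The complement -/

/-- The complement of the fixed line. -/
noncomputable def Wz (z : G) : Submodule K (Fin 7 → K) := LinearMap.range (D.rho z - 1)

theorem rho_comm {x y : G} (h : x * y = y * x) (v : Fin 7 → K) : D.rho x (D.rho y v) = D.rho y (D.rho x v) := by
  show (D.rho x * D.rho y) v = (D.rho y * D.rho x) v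
  rw [← map_mul, ← map_mul, h]

theorem Wz_inv_of_comm {x z : G} (h : x * z = z * x) {v : Fin 7 → K} (hv : v ∈ D.Wz z) : D.rho x v ∈ D.Wz z := by
  obtain ⟨u, rfl⟩ := hv
  refine ⟨D.rho x u, ?_⟩
  simp only [LinearMap.sub_apply, Module.End.one_apply, map_sub]
  rw [D.rho_comm h.symm]

section prime

variable {p : ℕ} [hp : Fact p.Prime] (hd : p ∣ D.Dd) {z : G} (hz : z ^ p = 1) (hz1 : z ≠ 1)
include hd hz hz1

theorem finrank_Wz : Module.finrank K (D.Wz z) = 6 := by
  have h1 : Module.finrank K (D.Wz z) + Module.finrank K (D.fixSub z) = 7 := by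
    have := LinearMap.finrank_range_add_finrank_ker (D.rho z - 1)
    rwa [Module.finrank_fin_fun] at this
  have h2 := D.finrank_fix hd hz hz1
  omega

theorem Wz_disj : D.Wz z ⊓ D.fixSub z = ⊥ := by
  rcases D.dim_inv hd hz hz1 (D.Wz z) (fun v hv => D.Wz_inv_of_comm rfl hv) with ⟨h, -⟩ | ⟨-, h⟩
  · exact h
  · rw [D.finrank_Wz hd hz hz1] at h
    omega

theorem Wz_sup : D.Wz z ⊔ D.fixSub z = ⊤ := by
  apply Submodule.eq_top_of_finrank_eq
  have h1 := Submodule.finrank_sup_add_finrank_inf_eq (D.Wz z) (D.fixSub z)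
  rw [D.Wz_disj hd hz hz1, finrank_bot, D.finrank_Wz hd hz hz1, D.finrank_fix hd hz hz1] at h1
  rw [Module.finrank_fin_fun]
  omega

/-- Irreducibility on the complement, in the ambient space. -/
theorem irred_Wz (E : Submodule K (Fin 7 → K)) (hE : E ≤ D.Wz z) (hinv : ∀ v ∈ E, D.rho z v ∈ E) :
    E = ⊥ ∨ E = D.Wz z := by
  rcases D.dim_inv hd hz hz1 E hinv with ⟨-, h | h⟩ | ⟨h, -⟩
  · left
    exact Submodule.finrank_eq_zero.1 h
  · right
    exact Submodule.eq_of_le_of_finrank_eq hE (by rw [h, D.finrank_Wz hd hz hz1])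
  · exfalso
    have h1 := D.Wz_disj hd hz hz1
    have h2 : D.fixSub z ≤ D.Wz z := h.trans hE
    rw [inf_eq_right.2 h2] at h1
    have h3 := D.finrank_fix hd hz hz1
    rw [h1, finrank_bot] at h3
    omega

end prime

/-! ### Restriction to the complement -/

/-- The stabiliser of the complement. -/
noncomputable def stabW (z : G) : Subgroup G where
  carrier := {x | ∀ v ∈ D.Wz z, D.rho x v ∈ D.Wz z ∧ D.rho x⁻¹ v ∈ D.Wz z}
  one_mem' := by
    intro v hv
    simpa using hv
  mul_mem' := by
    intro x y hx hy v hv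
    constructor
    · rw [map_mul]
      exact (hx _ (hy v hv).1).1
    · rw [_root_.mul_inv_rev, map_mul]
      exact (hy _ (hx v hv).2).2
  inv_mem' := by
    intro x hx v hv
    rw [inv_inv]
    exact ⟨(hx v hv).2, (hx v hv).1⟩

theorem cent_le_stabW (z : G) : Subgroup.centralizer {z} ≤ D.stabW z := by
  intro x hx
  rw [Subgroup.mem_centralizer_singleton_iff] at hx
  intro v hv
  refine ⟨D.Wz_inv_of_comm hx hv, D.Wz_inv_of_comm ?_ hv⟩
  exact (Commute.inv_left (show Commute x z from hx)).eq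

/-- The restricted representation. -/
noncomputable def rhoW (z : G) : D.stabW z →* Module.End K (D.Wz z) where
  toFun x := (D.rho x.1).restrict (fun v hv => (x.2 v hv).1)
  map_one' := by
    apply LinearMap.ext
    intro v
    apply Subtype.ext
    show D.rho 1 v.1 = v.1
    rw [map_one]
    rfl
  map_mul' x y := by
    apply LinearMap.ext
    intro v
    apply Subtype.ext
    show D.rho (x.1 * y.1) v.1 = D.rho x.1 (D.rho y.1 v.1)
    rw [map_mul]
    rfl

theorem rhoW_apply (z : G) (x : D.stabW z) (v : D.Wz z) : ((D.rhoW z x v : D.Wz z) : Fin 7 → K) = D.rho x.1 v.1 := rfl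

/-- The element itself in the stabiliser. -/
def zS (z : G) : D.stabW z := ⟨z, D.cent_le_stabW z (Subgroup.mem_centralizer_singleton_iff.2 rfl)⟩

instance (z : G) : Finite (D.Wz z) := inferInstance

section prime2

variable {p : ℕ} [hp : Fact p.Prime] (hd : p ∣ D.Dd) {z : G} (hz : z ^ p = 1) (hz1 : z ≠ 1)
include hd hz hz1

theorem rhoW_irr (E : Submodule K (D.Wz z)) (hE : ∀ v ∈ E, D.rhoW z (D.zS z) v ∈ E) : E = ⊥ ∨ E = ⊤ := by
  have h1 := D.irred_Wz hd hz hz1 (E.map (D.Wz z).subtype) (by
    rintro _ ⟨v, -, rfl⟩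
    exact v.2) (by
    rintro _ ⟨v, hv, rfl⟩
    exact ⟨_, hE v hv, rfl⟩)
  rcases h1 with h1 | h1
  · left
    rw [eq_bot_iff]
    intro v hv
    have : v.1 ∈ E.map (D.Wz z).subtype := ⟨v, hv, rfl⟩
    rw [h1, Submodule.mem_bot] at this
    rw [Submodule.mem_bot]
    exact Subtype.ext this
  · right
    rw [eq_top_iff]
    intro v _
    have : v.1 ∈ E.map (D.Wz z).subtype := by
      rw [h1]
      exact v.2
    obtain ⟨u, hu, hu2⟩ := this
    have : u = v := Subtype.ext hu2
    rwa [← this]

theorem Wz_nontrivial : Nontrivial (D.Wz z) := by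
  apply Module.nontrivial_of_finrank_pos (R := K)
  rw [D.finrank_Wz hd hz hz1]
  norm_num

theorem Kz_isField : IsField (Kc (D.rhoW z (D.zS z))) := by
  have := D.Wz_nontrivial hd hz hz1
  exact Kc_isField _ (D.rhoW_irr hd hz hz1)

theorem cyclic_of_rhoW {Γ : Type*} [_root_.Group Γ] [Finite Γ] (ρ : Γ →* D.stabW z)
    (hinj : Function.Injective ((D.rhoW z).comp ρ)) (hc : ∀ x, D.rhoW z (D.zS z) * D.rhoW z (ρ x) = D.rhoW z (ρ x) * D.rhoW z (D.zS z)) :
    IsCyclic Γ := by
  have := D.Wz_nontrivial hd hz hz1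
  exact comm_cyclic _ (D.rhoW_irr hd hz hz1) ((D.rhoW z).comp ρ) hinj hc

end prime2

end Dat

end Cfsg.Agent.Lib.Ree.Abs
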