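import Cfsg.Agent.Lib.Ree.Abs12

/-!
# The abstract Ree group: tori of order dividing `q² - q + 1`
-/

set_option autoImplicit false
set_option linter.unusedSectionVars false
set_option linter.unusedSimpArgs false
set_option linter.unnecessarySeqFocus false

namespace Cfsg.Agent.Lib.Ree.Abs

open Matrix Cfsg.Agent.Lib.Ree.Sigma Cfsg.Agent.Lib.Ree.Words Cfsg.Agent.Lib.Ree.Psi
open scoped MatrixGroups Pointwise

namespace Dat

variable {K G : Type*} [Field K] [Fintype K] [CharP K 3] [_root_.Group G] (D : Dat K G)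

/-- The order of the centraliser of an involution. -/
def Q1 : ℕ := D.q * ((D.q - 1) * (D.q + 1))

theorem sq_sub_one : D.q ^ 2 - 1 = (D.q - 1) * (D.q + 1) := by
  obtain ⟨k, hk⟩ : ∃ k, D.q = k + 1 := ⟨D.q - 1, D.q_sub_one_add.symm⟩
  rw [hk]
  simp only [Nat.add_sub_cancel]
  have : (k + 1) ^ 2 = k * (k + 1 + 1) + 1 := by ring
  omega

theorem card_cent_t0' [Finite G] : Nat.card (Subgroup.centralizer {D.t0}) = D.Q1 := by
  rw [D.card_cent_t0, D.sq_sub_one, Q1]

theorem card_G_Q1 : Nat.card G = D.q ^ 2 * D.Q1 * D.Dd := by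
  rw [D.card_G', D.cube_eq, Q1]
  ring

theorem odd_prime_not_dvd_cube {r : ℕ} (hr : r.Prime) (hr2 : r ≠ 2) (h : r ∣ D.q ∨ r ∣ D.q - 1) :
    ¬ r ∣ D.q ^ 3 + 1 := by
  intro h4
  rcases h with h3 | h3
  · have h5 : r ∣ 1 := (Nat.dvd_add_right (dvd_pow h3 (by norm_num))).1 h4
    exact hr.one_lt.ne' (Nat.dvd_one.1 h5)
  · have e : D.q ^ 3 + 1 = (D.q - 1) * (D.q ^ 2 + D.q + 1) + 2 := by
      obtain ⟨k, hk⟩ : ∃ k, D.q = k + 1 := ⟨D.q - 1, D.q_sub_one_add.symm⟩
      rw [hk]
      simp only [Nat.add_sub_cancel]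
      ring
    rw [e] at h4
    have h5 : r ∣ 2 := (Nat.dvd_add_right (h3.trans (Dvd.intro _ rfl))).1 h4
    exact hr2 ((Nat.prime_dvd_prime_iff_eq hr Nat.prime_two).1 h5)

theorem prime_dvd_Q1 {r : ℕ} (hr : r.Prime) (h : r ∣ D.Q1) : r ∣ D.q ∨ r ∣ D.q - 1 ∨ r ∣ D.q + 1 := by
  rw [Q1] at h
  rcases (Nat.Prime.dvd_mul hr).1 h with h | h
  · exact Or.inl h
  · rcases (Nat.Prime.dvd_mul hr).1 h with h | h
    · exact Or.inr (Or.inl h)
    · exact Or.inr (Or.inr h)

theorem prime_dvd_n0_of {r : ℕ} (hr : r.Prime) (hr2 : r ≠ 2) (h : r ∣ D.q + 1) : r ∣ D.n0 := by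
  rw [← D.four_n0] at h
  rcases (Nat.Prime.dvd_mul hr).1 h with h | h
  · exfalso
    have h1 : r ∣ 2 ^ 2 := by simpa using h
    exact hr2 ((Nat.prime_dvd_prime_iff_eq hr Nat.prime_two).1 (hr.dvd_of_dvd_pow h1))
  · exact h

section X

variable [Finite G] (hm : 1 ≤ D.m) {p : ℕ} [hp : Fact p.Prime] (hd : p ∣ D.Dd) {z : G} (hzo : orderOf z = p)

include hm hd hzo

theorem z_facts : z ^ p = 1 ∧ z ≠ 1 := by
  constructor
  · rw [← hzo, pow_orderOf_eq_one]
  · rintro rfl
    rw [orderOf_one] at hzo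
    exact hp.out.one_lt.ne hzo

/-- The order of the centraliser is prime to the order of the centraliser of an involution. -/
theorem cent_coprime : Nat.Coprime (Nat.card (Subgroup.centralizer {z})) D.Q1 := by
  classical
  obtain ⟨hpq, hpq1, hpq2, hp2, hp3⟩ := D.dvd_Dd_facts hp.out hd
  obtain ⟨hz, hz1⟩ := D.z_facts hm hd hzo
  have hzodd : Odd (orderOf z) := by
    rw [hzo]
    exact hp.out.odd_of_ne_two hp2
  have hfree : ∀ α : D.Om, z • α ≠ α := by
    intro α hα
    have h1 := D.orderOf_dvd_of_fix hα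
    rw [hzo] at h1
    rcases (Nat.Prime.dvd_mul hp.out).1 h1 with h2 | h2
    · exact hpq (hp.out.dvd_of_dvd_pow h2)
    · exact hpq1 h2
  apply Nat.coprime_of_dvd
  intro r hr hrC hrQ
  haveI : Fact r.Prime := ⟨hr⟩
  obtain ⟨s, hs⟩ := exists_prime_orderOf_dvd_card' r hrC
  have hs' : orderOf (s : G) = r := by rwa [Subgroup.orderOf_coe]
  have hs_pow : (s : G) ^ r = 1 := by rw [← hs', pow_orderOf_eq_one]
  have hs1 : (s : G) ≠ 1 := by
    intro h
    rw [h, orderOf_one] at hs'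
    exact hr.one_lt.ne hs'
  have hscomm : (s : G) * z = z * s := Subgroup.mem_centralizer_singleton_iff.1 s.2
  by_cases hr2 : r = 2
  · subst hr2
    have hi : (s : G) ∈ invSet G := ⟨by rw [← pow_two, hs_pow], hs1⟩
    obtain ⟨h, hh⟩ := (D.mem_invSet_iff hm).1 hi
    have hc : h⁻¹ * z * h ∈ Subgroup.centralizer {D.t0} := by
      rw [Subgroup.mem_centralizer_singleton_iff]
      rw [hh] at hscomm
      calc h⁻¹ * z * h * D.t0 = h⁻¹ * (z * (h * D.t0 * h⁻¹)) * h := by group
        _ = h⁻¹ * ((h * D.t0 * h⁻¹) * z) * h := by rw [hscomm]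
        _ = _ := by group
    have h1 := Subgroup.orderOf_dvd_natCard _ hc
    rw [orderOf_conj, hzo, D.card_cent_t0'] at h1
    rcases D.prime_dvd_Q1 hp.out h1 with h2 | h2 | h2
    · exact hpq h2
    · exact hpq1 h2
    · exact hpq2 h2
  · have hCT : ¬ D.CT (s : G) := by
      intro h
      have h1 : orderOf (s : G) ∣ 2 := orderOf_dvd_of_pow_eq_one (by rw [pow_two, D.CT_sq h])
      rw [hs'] at h1
      exact hr2 ((Nat.prime_dvd_prime_iff_eq hr Nat.prime_two).1 h1)
    have hfix : r ∣ D.q ∨ r ∣ D.q - 1 → False := by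
      intro h
      obtain ⟨α, hα⟩ := D.exists_fix_of_prime hr hs_pow (D.odd_prime_not_dvd_cube hr hr2 h)
      exact hfree α (D.fix_of_comm_odd hs1 hCT hscomm.symm hzodd hα)
    rcases D.prime_dvd_Q1 hr hrQ with h | h | h
    · exact hfix (Or.inl h)
    · exact hfix (Or.inr h)
    · have hrn := D.prime_dvd_n0_of hr hr2 h
      obtain ⟨n, hn⟩ := D.conj_X1_of_prime hm hr hrn hs'
      obtain ⟨g, hg, hge⟩ := hn
      have hne : D.psi g ≠ 1 := by
        rw [hge]
        intro h1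
        apply hs1
        have : (s : G) = n * (n⁻¹ * s * n) * n⁻¹ := by group
        rw [this, h1]
        group
      have hb : g 0 1 ≠ 0 := fun h => hne (D.psi_eq_one_of_T0 hg h)
      have hz' : (n⁻¹ * z * n) ^ p = 1 := by
        rw [← hzo, ← orderOf_conj n z, pow_orderOf_eq_one]
      have hz1' : n⁻¹ * z * n ≠ 1 := by
        intro h1
        apply hz1
        have : z = n * (n⁻¹ * z * n) * n⁻¹ := by group
        rw [this, h1]
        group
      apply D.not_comm_rot hd hz' hz1' hg hb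
      rw [hge]
      calc n⁻¹ * z * n * (n⁻¹ * s * n) = n⁻¹ * (z * s) * n := by group
        _ = n⁻¹ * (s * z) * n := by rw [hscomm]
        _ = _ := by group

/-- An element of the centraliser acting trivially on the complement is trivial. -/
theorem rhoW_trivial {x : G} (hx : x ∈ Subgroup.centralizer {z}) (htriv : ∀ v ∈ D.Wz z, D.rho x v = v) : x = 1 := by
  classical
  obtain ⟨hz, hz1⟩ := D.z_facts hm hd hzo
  have hxz : x * z = z * x := Subgroup.mem_centralizer_singleton_iff.1 hx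
  have hfix := D.finrank_fix hd hz hz1
  obtain ⟨⟨v₀, hv₀⟩, hv₀0, hv⟩ := finrank_eq_one_iff'.1 hfix
  have hv₀0' : v₀ ≠ 0 := fun h => hv₀0 (Subtype.ext h)
  have hxv : D.rho x v₀ ∈ D.fixSub z := by
    rw [D.mem_fixSub, D.rho_comm hxz.symm, D.mem_fixSub.1 hv₀]
  obtain ⟨c, hc⟩ := hv ⟨_, hxv⟩
  have hc' : c • v₀ = D.rho x v₀ := congrArg Subtype.val hc
  -- powers
  have hpow : ∀ n : ℕ, D.rho (x ^ n) v₀ = c ^ n • v₀ := by
    intro n
    induction n with
    | zero => simp
    | succ n ih =>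
      rw [pow_succ, map_mul]
      show D.rho (x ^ n) (D.rho x v₀) = _
      rw [← hc', map_smul, ih, smul_smul, pow_succ, mul_comm]
  have hc0 : c ≠ 0 := by
    rintro rfl
    rw [zero_smul] at hc'
    have h1 : D.rho x⁻¹ (D.rho x v₀) = v₀ := by
      show (D.rho x⁻¹ * D.rho x) v₀ = v₀
      rw [← map_mul, inv_mul_cancel, map_one]
      rfl
    rw [← hc', map_zero] at h1
    exact hv₀0' h1.symm
  have hcp : c ^ (Fintype.card K - 1) = 1 := FiniteField.pow_card_sub_one_eq_one c hc0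
  rw [D.card_K'] at hcp
  have hone : x ^ (D.q - 1) = 1 := by
    apply D.rho_inj
    rw [map_one]
    apply LinearMap.ext
    intro v
    have hv' : v ∈ D.Wz z ⊔ D.fixSub z := by
      rw [D.Wz_sup hd hz hz1]
      exact Submodule.mem_top
    obtain ⟨w, hw, l, hl, rfl⟩ := Submodule.mem_sup.1 hv'
    have h1 : ∀ n : ℕ, D.rho (x ^ n) w = w := by
      intro n
      induction n with
      | zero => simp
      | succ n ih =>
        rw [pow_succ, map_mul]
        show D.rho (x ^ n) (D.rho x w) = _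
        rw [htriv w hw, ih]
    obtain ⟨d, hd'⟩ := hv ⟨l, hl⟩
    have hd'' : d • v₀ = l := congrArg Subtype.val hd'
    rw [map_add, h1, ← hd'', map_smul, hpow, hcp, one_smul]
    rfl
  have h1 := orderOf_dvd_of_pow_eq_one hone
  have h2 : orderOf x ∣ Nat.card (Subgroup.centralizer {z}) := Subgroup.orderOf_dvd_natCard _ hx
  have h3 := D.cent_coprime hm hd hzo
  have h4 : orderOf x ∣ D.Q1 := by
    rw [Q1]
    exact h1.trans ((Dvd.intro _ rfl).trans (Dvd.intro_left _ rfl))
  have h5 : orderOf x = 1 := Nat.eq_one_of_dvd_coprimes h3 h2 h4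
  exact orderOf_eq_one_iff.1 h5

/-- The centraliser is cyclic. -/
theorem cent_cyclic_prime : IsCyclic (Subgroup.centralizer {z}) := by
  classical
  obtain ⟨hz, hz1⟩ := D.z_facts hm hd hzo
  refine D.cyclic_of_rhoW hd hz hz1 (Subgroup.inclusion (D.cent_le_stabW z)) ?_ ?_
  · rw [injective_iff_map_eq_one]
    intro w hw
    apply Subtype.ext
    apply D.rhoW_trivial hm hd hzo w.2
    intro v hv
    have h2 := LinearMap.congr_fun hw ⟨v, hv⟩
    exact congrArg Subtype.val h2
  · intro w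
    rw [← map_mul, ← map_mul]
    congr 1
    apply Subtype.ext
    exact (Subgroup.mem_centralizer_singleton_iff.1 w.2).symm

end X

end Dat

end Cfsg.Agent.Lib.Ree.Abs
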