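import Cfsg.Agent.Lib.Ree.Abs13

/-!
# The abstract Ree group: elements of order prime to `q (q² - 1)` and cyclic Sylow subgroups
-/

set_option autoImplicit false
set_option linter.unusedSectionVars false
set_option linter.unusedSimpArgs false
set_option linter.unnecessarySeqFocus false

namespace Cfsg.Agent.Lib.Ree.Abs

open Matrix Cfsg.Agent.Lib.Ree.Sigma Cfsg.Agent.Lib.Ree.Words Cfsg.Agent.Lib.Ree.Psi
open scoped MatrixGroups Pointwise

theorem isCyclic_of_le {Γ : Type*} [_root_.Group Γ] {P Q : Subgroup Γ} (h : P ≤ Q) (hQ : IsCyclic Q) : IsCyclic P :=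
  isCyclic_of_injective (Subgroup.inclusion h) (Subgroup.inclusion_injective h)

theorem isCyclic_map_conj {Γ : Type*} [_root_.Group Γ] {Q : Subgroup Γ} (n : Γ) (hQ : IsCyclic Q) :
    IsCyclic (Q.map (MulAut.conj n).toMonoidHom) :=
  isCyclic_of_surjective (MulEquiv.toMonoidHom (Subgroup.equivMapOfInjective Q _ (MulAut.conj n).injective))
    (MulEquiv.surjective _)

namespace Dat

variable {K G : Type*} [Field K] [Fintype K] [CharP K 3] [_root_.Group G] (D : Dat K G)

/-- Elements of order prime to the order of the centraliser of an involution. -/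
def IsX (x : G) : Prop := x ≠ 1 ∧ Nat.Coprime (orderOf x) D.Q1

theorem IsX.conj {D : Dat K G} {x : G} (h : D.IsX x) (g : G) : D.IsX (g⁻¹ * x * g) := by
  refine ⟨?_, ?_⟩
  · intro h1
    apply h.1
    have : x = g * (g⁻¹ * x * g) * g⁻¹ := by group
    rw [this, h1]
    group
  · rw [orderOf_conj]
    exact h.2

theorem q_dvd_Q1 : D.q ∣ D.Q1 := Dvd.intro _ rfl

theorem q_sub_dvd_Q1 : D.q - 1 ∣ D.Q1 := (Dvd.intro _ rfl).trans (Dvd.intro_left _ rfl)

theorem q_add_dvd_Q1 : D.q + 1 ∣ D.Q1 := (Dvd.intro_left _ rfl).trans (Dvd.intro_left _ rfl)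

theorem prime_dvd_card_cases {r : ℕ} (hr : r.Prime) (h : r ∣ Nat.card G) : r ∣ D.Q1 ∨ r ∣ D.Dd := by
  rw [D.card_G_Q1] at h
  rcases (Nat.Prime.dvd_mul hr).1 h with h | h
  · rcases (Nat.Prime.dvd_mul hr).1 h with h | h
    · left
      exact (hr.dvd_of_dvd_pow h).trans D.q_dvd_Q1
    · exact Or.inl h
  · exact Or.inr h

theorem coprime_Dd_Q1 {p : ℕ} (hp : p.Prime) (hd : p ∣ D.Dd) : Nat.Coprime p D.Q1 := by
  obtain ⟨h1, h2, h3, -, -⟩ := D.dvd_Dd_facts hp hd
  rw [Nat.Prime.coprime_iff_not_dvd hp]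
  intro h
  rcases D.prime_dvd_Q1 hp h with h | h | h
  · exact h1 h
  · exact h2 h
  · exact h3 h

section X

variable [Finite G] (hm : 1 ≤ D.m)

theorem isX_of_prime {z : G} {p : ℕ} (hp : p.Prime) (hd : p ∣ D.Dd) (hzo : orderOf z = p) : D.IsX z := by
  refine ⟨?_, ?_⟩
  · rintro rfl
    rw [orderOf_one] at hzo
    exact hp.one_lt.ne hzo
  · rw [hzo]
    exact D.coprime_Dd_Q1 hp hd

theorem IsX.exists_prime {D : Dat K G} {x : G} (h : D.IsX x) :
    ∃ (p : ℕ) (z : G), p.Prime ∧ p ∣ D.Dd ∧ orderOf z = p ∧ z ∈ Subgroup.zpowers x := by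
  have h1 : orderOf x ≠ 1 := fun h2 => h.1 (orderOf_eq_one_iff.1 h2)
  obtain ⟨p, hp, hpx⟩ := Nat.exists_prime_and_dvd h1
  have hne : orderOf x ≠ 0 := (orderOf_pos x).ne'
  refine ⟨p, x ^ (orderOf x / p), hp, ?_, orderOf_pow_orderOf_div hne hpx, Subgroup.npow_mem_zpowers _ _⟩
  have h2 : p ∣ Nat.card G := hpx.trans (orderOf_dvd_natCard x)
  rcases D.prime_dvd_card_cases hp h2 with h3 | h3
  · exfalso
    exact hp.one_lt.ne' (Nat.eq_one_of_dvd_coprimes h.2 hpx h3)
  · exact h3

end X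

section X1

variable [Finite G]

/-- The centraliser of an element equals that of a power of prime order. -/
theorem IsX.cent_prime {D : Dat K G} (hm : 1 ≤ D.m) {x : G} (h : D.IsX x) :
    ∃ (p : ℕ) (z : G), p.Prime ∧ p ∣ D.Dd ∧ orderOf z = p ∧ z ∈ Subgroup.zpowers x ∧
      Subgroup.centralizer {x} = Subgroup.centralizer {z} := by
  obtain ⟨p, z, hp, hd, hzo, hz⟩ := h.exists_prime
  refine ⟨p, z, hp, hd, hzo, hz, ?_⟩
  haveI : Fact p.Prime := ⟨hp⟩
  have hcyc := D.cent_cyclic_prime hm hd hzo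
  have hcomm := cyclic_comm _ hcyc
  obtain ⟨k, rfl⟩ := hz
  apply le_antisymm
  · intro y hy
    rw [Subgroup.mem_centralizer_singleton_iff] at hy ⊢
    exact (Commute.zpow_right (show Commute y x from hy) k).eq
  · intro y hy
    rw [Subgroup.mem_centralizer_singleton_iff]
    apply hcomm y hy
    rw [Subgroup.mem_centralizer_singleton_iff]
    exact (Commute.zpow_left (Commute.refl x) k).eq.symm

end X1

section X2

variable [Finite G] {D : Dat K G} (hm : 1 ≤ D.m) {x : G} (h : D.IsX x)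
include hm h

theorem IsX.cyclic : IsCyclic (Subgroup.centralizer {x}) := by
  obtain ⟨p, z, hp, hd, hzo, -, he⟩ := h.cent_prime hm
  haveI : Fact p.Prime := ⟨hp⟩
  rw [he]
  exact D.cent_cyclic_prime hm hd hzo

theorem IsX.comm {a b : G} (ha : a ∈ Subgroup.centralizer {x}) (hb : b ∈ Subgroup.centralizer {x}) : a * b = b * a :=
  cyclic_comm _ (h.cyclic hm) a ha b hb

theorem IsX.coprime : Nat.Coprime (Nat.card (Subgroup.centralizer {x})) D.Q1 := by
  obtain ⟨p, z, hp, hd, hzo, -, he⟩ := h.cent_prime hm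
  haveI : Fact p.Prime := ⟨hp⟩
  rw [he]
  exact D.cent_coprime hm hd hzo

theorem IsX.card_dvd : Nat.card (Subgroup.centralizer {x}) ∣ D.Dd := by
  have h1 := h.coprime hm
  have h2 : Nat.card (Subgroup.centralizer {x}) ∣ Nat.card G := Subgroup.card_subgroup_dvd_card _
  rw [D.card_G_Q1] at h2
  refine Nat.Coprime.dvd_of_dvd_mul_left ?_ h2
  apply Nat.Coprime.mul_right _ h1
  apply Nat.Coprime.pow_right
  exact h1.coprime_dvd_right D.q_dvd_Q1

theorem IsX.of_mem {y : G} (hy : y ∈ Subgroup.centralizer {x}) (hy1 : y ≠ 1) : D.IsX y :=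
  ⟨hy1, Nat.Coprime.coprime_dvd_left (Subgroup.orderOf_dvd_natCard _ hy) (h.coprime hm)⟩

theorem IsX.cent_eq {y : G} (hy : y ∈ Subgroup.centralizer {x}) (hy1 : y ≠ 1) :
    Subgroup.centralizer {y} = Subgroup.centralizer {x} := by
  have hyX := h.of_mem hm hy hy1
  have hxy : x ∈ Subgroup.centralizer {y} :=
    Subgroup.mem_centralizer_singleton_iff.2 (Subgroup.mem_centralizer_singleton_iff.1 hy).symm
  have hself : ∀ t : G, t ∈ Subgroup.centralizer {t} := fun t => Subgroup.mem_centralizer_singleton_iff.2 rfl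
  apply le_antisymm
  · intro a ha
    rw [Subgroup.mem_centralizer_singleton_iff]
    exact hyX.comm hm ha hxy
  · intro a ha
    rw [Subgroup.mem_centralizer_singleton_iff]
    exact h.comm hm ha hy

end X2

section X3

variable [Finite G] {D : Dat K G} {x : G}

theorem IsX.free (h : D.IsX x) (α : D.Om) : x • α ≠ α := by
  intro hα
  have h1 := D.orderOf_dvd_of_fix hα
  have h2 : Nat.Coprime (orderOf x) (D.q ^ 3 * (D.q - 1)) := by
    apply Nat.Coprime.mul_right
    · exact Nat.Coprime.pow_right _ (h.2.coprime_dvd_right D.q_dvd_Q1)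
    · exact h.2.coprime_dvd_right D.q_sub_dvd_Q1
  have h3 := Nat.eq_one_of_dvd_coprimes h2 (dvd_refl _) h1
  exact h.1 (orderOf_eq_one_iff.1 h3)

end X3

/-- Odd order elements of the torus are rotations. -/
theorem odd_mem_X1 {x : G} (hx : x ∈ D.A0) (hodd : Odd (orderOf x)) : x ∈ D.X1 := by
  rcases hx with hx | ⟨a, ha, rfl⟩
  · exact hx
  · exfalso
    have hc2 : Commute D.t0 a := D.A0_comm_t0 (D.X1_le_A0 ha)
    have h1 : (D.t0 * a) ^ orderOf (D.t0 * a) = 1 := pow_orderOf_eq_one _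
    obtain ⟨k, hk⟩ := hodd
    rw [hc2.mul_pow] at h1
    have h2 : D.t0 ^ orderOf (D.t0 * a) = D.t0 := by
      rw [hk, pow_succ, pow_mul, pow_two, D.t0_sq, one_pow, one_mul]
    rw [h2] at h1
    apply D.t0_not_mem_X1
    have h3 : D.t0 = (a ^ orderOf (D.t0 * a))⁻¹ := eq_inv_of_mul_eq_one_left h1
    rw [h3]
    exact D.X1.inv_mem (D.X1.pow_mem ha _)

/-- Sylow subgroups for primes larger than three are cyclic. -/
theorem sylow_cyclic [Finite G] (hm : 1 ≤ D.m) {p : ℕ} [hp : Fact p.Prime] (hp3 : 3 < p) (P : Sylow p G) :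
    IsCyclic (P : Subgroup G) := by
  classical
  by_cases hP : Nat.card (P : Subgroup G) = 1
  · have : (P : Subgroup G) = ⊥ := Subgroup.card_eq_one.1 hP
    rw [this]
    infer_instance
  have hnt : Nontrivial (P : Subgroup G) := by
    apply (Finite.one_lt_card_iff_nontrivial).1
    have : 0 < Nat.card (P : Subgroup G) := Nat.card_pos
    omega
  have hpg : IsPGroup p (P : Subgroup G) := P.isPGroup'
  have hcent := hpg.center_nontrivial
  have hdiv : p ∣ Nat.card (Subgroup.center (P : Subgroup G)) := by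
    have h1 : IsPGroup p (Subgroup.center (P : Subgroup G)) := hpg.to_subgroup _
    obtain ⟨n, hn⟩ := IsPGroup.iff_card.1 h1
    have h2 : n ≠ 0 := by
      rintro rfl
      rw [pow_zero] at hn
      have := (Finite.one_lt_card_iff_nontrivial).2 hcent
      omega
    rw [hn]
    exact dvd_pow_self p h2
  obtain ⟨z₀, hz₀⟩ := exists_prime_orderOf_dvd_card' p hdiv
  let z : G := ((z₀ : (P : Subgroup G)) : G)
  have hzo : orderOf z = p := by
    show orderOf ((z₀ : (P : Subgroup G)) : G) = p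
    rw [Subgroup.orderOf_coe, Subgroup.orderOf_coe]
    exact hz₀
  have hPle : (P : Subgroup G) ≤ Subgroup.centralizer {z} := by
    intro x hx
    rw [Subgroup.mem_centralizer_singleton_iff]
    have h1 := (Subgroup.mem_center_iff.1 z₀.2) ⟨x, hx⟩
    exact congrArg Subtype.val h1
  have hpd : p ∣ Nat.card G := by
    rw [← hzo]
    exact orderOf_dvd_natCard z
  rw [D.card_G_factor] at hpd
  have hp2 : ¬ p ∣ 8 := by
    intro h
    have h1 : p ∣ 2 ^ 3 := by simpa using h
    have h2 := (Nat.prime_dvd_prime_iff_eq hp.out Nat.prime_two).1 (hp.out.dvd_of_dvd_pow h1)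
    omega
  have hp3' : ¬ p ∣ D.q := by
    intro h
    have := D.q_prime_dvd hp.out h
    omega
  rcases (Nat.Prime.dvd_mul hp.out).1 hpd with h | h
  · exact absurd h hp2
  rcases (Nat.Prime.dvd_mul hp.out).1 h with h | h
  · -- `p` divides `(q + 1) / 4`
    obtain ⟨n, -, hn⟩ := D.cent_of_prime hm hp.out h hzo
    have hle : (P : Subgroup G) ≤ D.X1.map (MulAut.conj n).toMonoidHom := by
      intro x hx
      rw [mem_map_conj]
      have h1 := hPle hx
      rw [hn, mem_map_conj] at h1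
      apply D.odd_mem_X1 h1
      rw [orderOf_conj]
      have h2 : orderOf x ∣ Nat.card (P : Subgroup G) := Subgroup.orderOf_dvd_natCard _ hx
      obtain ⟨k, hk⟩ := IsPGroup.iff_card.1 hpg
      rw [hk] at h2
      obtain ⟨j, -, hj⟩ := (Nat.dvd_prime_pow hp.out).1 h2
      rw [hj]
      apply Odd.pow
      exact hp.out.odd_of_ne_two (by omega)
    exact isCyclic_of_le hle (isCyclic_map_conj n D.X1_cyclic)
  rcases (Nat.Prime.dvd_mul hp.out).1 h with h | h
  · rcases (Nat.Prime.dvd_mul hp.out).1 h with h | h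
    · exact absurd (hp.out.dvd_of_dvd_pow h) hp3'
    · -- `p` divides `(q - 1) / 2`
      have hpq : p ∣ D.q - 1 := by
        rw [← D.two_m0]
        exact h.trans (Dvd.intro_left 2 rfl)
      obtain ⟨n, κ, hn, hκ⟩ := D.conj_d_of_prime hp.out (by omega) hpq hzo
      have hn' : Subgroup.centralizer {z} = D.H0.map (MulAut.conj n).toMonoidHom := by
        have e2 : z = n * (D.d κ) * n⁻¹ := by rw [← hn]; group
        conv_lhs => rw [e2]
        rw [cent_conj, D.cent_d hκ]
      refine isCyclic_of_le hPle ?_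
      rw [hn']
      exact isCyclic_map_conj n D.H0_cyclic
  · exact isCyclic_of_le hPle (D.cent_cyclic_prime hm h hzo)

end Dat

end Cfsg.Agent.Lib.Ree.Abs
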