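import Cfsg.Agent.Lib.Ree.Abs14

/-!
# The abstract Ree group: normalisers of tori of order dividing `q² - q + 1`
-/

set_option autoImplicit false
set_option linter.unusedSectionVars false
set_option linter.unusedSimpArgs false
set_option linter.unnecessarySeqFocus false

namespace Cfsg.Agent.Lib.Ree.Abs

open Matrix Cfsg.Agent.Lib.Ree.Sigma Cfsg.Agent.Lib.Ree.Words Cfsg.Agent.Lib.Ree.Psi
open scoped MatrixGroups Pointwise

/-- In a cyclic group, an element of prime order `p` generates everything killed by `p`. -/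
theorem mem_zpowers_of_cyclic {C : Type*} [_root_.Group C] [Finite C] [IsCyclic C] {p : ℕ} (hp : p.Prime)
    {u v : C} (hu : orderOf u = p) (hv : v ^ p = 1) : v ∈ Subgroup.zpowers u := by
  classical
  have : Fintype C := Fintype.ofFinite _
  have h0 : 0 < p := hp.pos
  have h1 := IsCyclic.card_pow_eq_one_le (α := C) h0
  have hsub : ((Subgroup.zpowers u : Subgroup C) : Set C).toFinset ⊆
      Finset.univ.filter (fun x : C => x ^ p = 1) := by
    intro x hx
    simp only [Set.mem_toFinset, SetLike.mem_coe] at hx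
    obtain ⟨k, rfl⟩ := hx
    simp only [Finset.mem_filter, Finset.mem_univ, true_and]
    rw [← zpow_natCast, ← _root_.zpow_mul, mul_comm, _root_.zpow_mul, zpow_natCast, ← hu, pow_orderOf_eq_one, _root_.one_zpow]
  have hcard : ((Subgroup.zpowers u : Subgroup C) : Set C).toFinset.card = p := by
    rw [Set.toFinset_card, ← Nat.card_eq_fintype_card]
    exact (Nat.card_zpowers u).trans hu
  have heq := Finset.eq_of_subset_of_card_le hsub (by rw [hcard]; exact h1)
  have hvm : v ∈ Finset.univ.filter (fun x : C => x ^ p = 1) := by simp [hv]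
  rw [← heq] at hvm
  simpa using hvm

section Gal

theorem card_algEquiv_aux {F L : Type*} [Field F] [Field L] [Algebra F L] [FiniteDimensional F L] :
    Nat.card (L ≃ₐ[F] L) ≤ Module.finrank F L := by
  rw [Nat.card_eq_fintype_card]
  exact AlgEquiv.card_le

theorem card_algEquiv_le {F L : Type*} [Field F] [Ring L] [Algebra F L] [Finite L] (hL : IsField L) :
    Nat.card (L ≃ₐ[F] L) ≤ Module.finrank F L := by
  have hfd : Module.Finite F L := Module.Finite.of_finite
  exact @card_algEquiv_aux F L _ hL.toField ‹Algebra F L› hfd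

variable {F V N : Type*} [Field F] [AddCommGroup V] [Module F V] [_root_.Group N]
  (L : Subalgebra F (Module.End F V)) (ρ : N →* Module.End F V)
  (hρ : ∀ (x : N) (B : L), ρ x * B.1 * ρ x⁻¹ ∈ L)

/-- Conjugation by a group element as an algebra homomorphism of a stable subalgebra. -/
def conjAlg (x : N) : L →ₐ[F] L where
  toFun B := ⟨ρ x * B.1 * ρ x⁻¹, hρ x B⟩
  map_one' := by
    apply Subtype.ext
    change ρ x * 1 * ρ x⁻¹ = 1
    rw [mul_one, ← map_mul, mul_inv_cancel, map_one]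
  map_mul' B C := by
    apply Subtype.ext
    change ρ x * (B.1 * C.1) * ρ x⁻¹ = (ρ x * B.1 * ρ x⁻¹) * (ρ x * C.1 * ρ x⁻¹)
    have e2 : ρ x⁻¹ * ρ x = 1 := by
      rw [← map_mul, inv_mul_cancel, map_one]
    calc ρ x * (B.1 * C.1) * ρ x⁻¹ = ρ x * B.1 * (1 * C.1) * ρ x⁻¹ := by
          simp only [one_mul, mul_assoc]
      _ = _ := by rw [← e2]; simp only [mul_assoc]
  map_zero' := by
    apply Subtype.ext
    change ρ x * 0 * ρ x⁻¹ = 0
    simp
  map_add' B C := by
    apply Subtype.ext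
    change ρ x * (B.1 + C.1) * ρ x⁻¹ = (ρ x * B.1 * ρ x⁻¹) + (ρ x * C.1 * ρ x⁻¹)
    rw [mul_add, add_mul]
  commutes' r := by
    apply Subtype.ext
    change ρ x * (algebraMap F _ r) * ρ x⁻¹ = algebraMap F _ r
    rw [← Algebra.commutes, mul_assoc, ← map_mul, mul_inv_cancel, map_one, mul_one]

theorem conjAlg_mul (x y : N) (B : L) :
    conjAlg L ρ hρ (x * y) B = conjAlg L ρ hρ x (conjAlg L ρ hρ y B) := by
  apply Subtype.ext
  change ρ (x * y) * B.1 * ρ (x * y)⁻¹ = ρ x * (ρ y * B.1 * ρ y⁻¹) * ρ x⁻¹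
  rw [map_mul, _root_.mul_inv_rev, map_mul]
  simp only [mul_assoc]

theorem conjAlg_one (B : L) : conjAlg L ρ hρ 1 B = B := by
  apply Subtype.ext
  change ρ 1 * B.1 * ρ 1⁻¹ = B.1
  simp

/-- Conjugation as a homomorphism to the group of algebra automorphisms. -/
def conjHom : N →* (L ≃ₐ[F] L) where
  toFun x := AlgEquiv.ofAlgHom (conjAlg L ρ hρ x) (conjAlg L ρ hρ x⁻¹)
    (by
      apply AlgHom.ext
      intro B
      change conjAlg L ρ hρ x (conjAlg L ρ hρ x⁻¹ B) = B
      rw [← conjAlg_mul, mul_inv_cancel, conjAlg_one])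
    (by
      apply AlgHom.ext
      intro B
      change conjAlg L ρ hρ x⁻¹ (conjAlg L ρ hρ x B) = B
      rw [← conjAlg_mul, inv_mul_cancel, conjAlg_one])
  map_one' := by
    apply AlgEquiv.ext
    intro B
    exact conjAlg_one L ρ hρ B
  map_mul' x y := by
    apply AlgEquiv.ext
    intro B
    exact conjAlg_mul L ρ hρ x y B

omit hρ in
/-- A subalgebra of nonzero injective maps embeds in the space. -/
theorem finrank_le_of_inj [FiniteDimensional F V]
    (hne : ∀ B ∈ L, B ≠ 0 → Function.Injective B) {v : V} (hv : v ≠ 0) :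
    Module.finrank F L ≤ Module.finrank F V := by
  have hinj : Function.Injective ((LinearMap.applyₗ v).comp L.val.toLinearMap) := by
    intro B C he
    have h1 : (B.1 - C.1) v = 0 := by
      have : B.1 v = C.1 v := he
      simp [this]
    by_contra hnn
    have hne' : B.1 - C.1 ≠ 0 := by
      intro hc
      exact hnn (Subtype.ext (sub_eq_zero.mp hc))
    have hm : B.1 - C.1 ∈ L := L.sub_mem B.2 C.2
    have := hne _ hm hne'
    exact hv (this (by simpa using h1))
  exact LinearMap.finrank_le_finrank_of_injective hinj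

end Gal

/-- Commutation after conjugation (abstract form). -/
theorem conj_comm {Γ R : Type*} [_root_.Group Γ] [Monoid R] (ρ : Γ →* R) (x z : Γ) (B : R)
    (h4 : ρ (x⁻¹ * z * x) * B = B * ρ (x⁻¹ * z * x)) :
    ρ z * (ρ x * B * ρ x⁻¹) = (ρ x * B * ρ x⁻¹) * ρ z := by
  have e1 : ρ z = ρ x * ρ (x⁻¹ * z * x) * ρ x⁻¹ := by
    rw [← map_mul, ← map_mul]
    congr 1
    group
  have e2 : ρ x⁻¹ * ρ x = 1 := by
    rw [← map_mul, inv_mul_cancel, map_one]
  calc ρ z * (ρ x * B * ρ x⁻¹)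
      = ρ x * (ρ (x⁻¹ * z * x) * (ρ x⁻¹ * ρ x) * B) * ρ x⁻¹ := by
        rw [e1]; simp only [mul_assoc]
    _ = ρ x * (ρ (x⁻¹ * z * x) * B) * ρ x⁻¹ := by rw [e2, mul_one]
    _ = ρ x * (B * ρ (x⁻¹ * z * x)) * ρ x⁻¹ := by rw [h4]
    _ = (ρ x * B * (ρ x⁻¹ * ρ x)) * ρ (x⁻¹ * z * x) * ρ x⁻¹ := by
        rw [e2, mul_one]; simp only [mul_assoc]
    _ = (ρ x * B * ρ x⁻¹) * (ρ x * ρ (x⁻¹ * z * x) * ρ x⁻¹) := by
        simp only [mul_assoc]
    _ = _ := by rw [← e1]

/-- The bound on a group acting on the commutant of an irreducible map. -/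
theorem card_le_of_comm {F W N : Type*} [Field F] [AddCommGroup W] [Module F W] [Finite F] [Finite W] [Nontrivial W]
    [_root_.Group N] [Finite N] (ρ : N →* Module.End F W) (z : N)
    (hirr : ∀ E : Submodule F W, (∀ v ∈ E, ρ z v ∈ E) → E = ⊥ ∨ E = ⊤)
    (T : Subgroup N)
    (hcomm : ∀ x : N, ρ z * ρ (x⁻¹ * z * x) = ρ (x⁻¹ * z * x) * ρ z)
    (hT : ∀ x : N, ρ (x * z * x⁻¹) = ρ z → x ∈ T) :
    Nat.card N ≤ Nat.card T * Module.finrank F W := by
  classical
  have hK := Kc_isField (ρ z) hirr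
  have hfinE : Finite (Module.End F W) := Finite.of_injective (fun f => (f : W → W)) DFunLike.coe_injective
  have hfinK : Finite (Kc (ρ z)) := inferInstance
  have hmem : ∀ (x : N) (B : Kc (ρ z)), ρ x * B.1 * ρ x⁻¹ ∈ Kc (ρ z) := by
    intro x B
    have h2 : ρ (x⁻¹ * z * x) ∈ Kc (ρ z) := (mem_Kc _).2 (hcomm x)
    have h3 := hK.mul_comm ⟨ρ (x⁻¹ * z * x), h2⟩ B
    have h4 : ρ (x⁻¹ * z * x) * B.1 = B.1 * ρ (x⁻¹ * z * x) := congrArg Subtype.val h3
    rw [mem_Kc]
    exact conj_comm ρ x z B.1 h4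
  let Θ := conjHom (Kc (ρ z)) ρ hmem
  have hΘ : ∀ (x : N) (B : Kc (ρ z)), ((Θ x B : Kc (ρ z)) : Module.End F W) = ρ x * B.1 * ρ x⁻¹ :=
    fun x B => rfl
  have hker : ∀ x : N, x ∈ Θ.ker → x ∈ T := by
    intro x hx
    rw [MonoidHom.mem_ker] at hx
    have h1 := hΘ x ⟨ρ z, (mem_Kc _).2 rfl⟩
    rw [hx] at h1
    have h2 : ρ z = ρ x * ρ z * ρ x⁻¹ := h1
    rw [← map_mul, ← map_mul] at h2
    exact hT x h2.symm
  have hcardker : Nat.card Θ.ker ≤ Nat.card T := by
    apply Nat.card_le_card_of_injective (fun x : Θ.ker => (⟨x.1, hker x.1 x.2⟩ : T))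
    intro x y hxy
    apply Subtype.ext
    exact congrArg (fun t : T => t.1) hxy
  have hrank : Module.finrank F (Kc (ρ z)) ≤ Module.finrank F W := by
    obtain ⟨v, hv⟩ := exists_ne (0 : W)
    have hfd : FiniteDimensional F W := Module.Finite.of_finite
    exact finrank_le_of_inj (Kc (ρ z)) (fun B hB hB0 => Kc_inj _ hirr hB hB0) hv
  have hgal : Nat.card (Kc (ρ z) ≃ₐ[F] Kc (ρ z)) ≤ Module.finrank F W :=
    le_trans (card_algEquiv_le hK) hrank
  have hrange : Nat.card Θ.range ≤ Module.finrank F W := by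
    refine le_trans ?_ hgal
    have : Finite (Kc (ρ z) ≃ₐ[F] Kc (ρ z)) :=
      Finite.of_injective (fun e => (e : Kc (ρ z) → Kc (ρ z))) DFunLike.coe_injective
    exact Nat.card_le_card_of_injective (fun x : Θ.range => x.1) Subtype.val_injective
  have hNcard : Nat.card N = Nat.card Θ.ker * Nat.card Θ.range := by
    rw [← Subgroup.index_ker, Subgroup.card_mul_index]
  rw [hNcard]
  exact Nat.mul_le_mul hcardker hrange

namespace Dat

variable {K G : Type*} [Field K] [Fintype K] [CharP K 3] [_root_.Group G] (D : Dat K G)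

theorem rho_pow_sub_mem (z : G) (m : ℕ) (v : Fin 7 → K) : D.rho (z ^ m) v - v ∈ D.Wz z := by
  induction m generalizing v with
  | zero => simp
  | succ m ih =>
    have e : D.rho (z ^ (m + 1)) v - v = (D.rho (z ^ m) (D.rho z v) - D.rho z v) + (D.rho z v - v) := by
      rw [pow_succ, map_mul]
      show D.rho (z ^ m) (D.rho z v) - v = _
      abel
    rw [e]
    exact Submodule.add_mem _ (ih _) ⟨v, rfl⟩

theorem rho_conj_Wz {x z : G} {m : ℕ} (h : x * z * x⁻¹ = z ^ m) {v : Fin 7 → K} (hv : v ∈ D.Wz z) :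
    D.rho x v ∈ D.Wz z := by
  obtain ⟨u, rfl⟩ := hv
  have e : D.rho x ((D.rho z - 1) u) = D.rho (z ^ m) (D.rho x u) - D.rho x u := by
    rw [← h]
    have e1 : D.rho (x * z * x⁻¹) (D.rho x u) = D.rho x (D.rho z u) := by
      rw [show x * z * x⁻¹ = x * z * x⁻¹ from rfl]
      show (D.rho (x * z * x⁻¹) * D.rho x) u = (D.rho x * D.rho z) u
      rw [← map_mul, ← map_mul, inv_mul_cancel_right]
    rw [e1]
    simp only [LinearMap.sub_apply, Module.End.one_apply, map_sub]
  rw [e]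
  exact D.rho_pow_sub_mem z m _

section

variable [Finite G] (hm : 1 ≤ D.m) {p : ℕ} [hp : Fact p.Prime] (hd : p ∣ D.Dd) {z : G} (hzo : orderOf z = p)
include hm hd hzo

theorem conj_mem_powers {x : G} (hx : x ∈ Subgroup.normalizer ((Subgroup.centralizer {z} : Subgroup G) : Set G)) :
    ∃ m : ℕ, x * z * x⁻¹ = z ^ m := by
  have hcyc := D.cent_cyclic_prime hm hd hzo
  have hself : z ∈ Subgroup.centralizer {z} := Subgroup.mem_centralizer_singleton_iff.2 rfl
  have h1 : x * z * x⁻¹ ∈ Subgroup.centralizer {z} := (Subgroup.mem_normalizer_iff.1 hx z).1 hself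
  have h2 : (⟨x * z * x⁻¹, h1⟩ : Subgroup.centralizer {z}) ^ p = 1 := by
    apply Subtype.ext
    show (x * z * x⁻¹) ^ p = 1
    rw [← hzo, ← orderOf_conj x⁻¹ z, inv_inv, pow_orderOf_eq_one]
  have h3 : orderOf (⟨z, hself⟩ : Subgroup.centralizer {z}) = p := by
    rw [← Subgroup.orderOf_coe]
    exact hzo
  have h4 := mem_zpowers_of_cyclic hp.out h3 h2
  rw [← mem_powers_iff_mem_zpowers] at h4
  obtain ⟨m, hm'⟩ := h4
  exact ⟨m, (congrArg Subtype.val hm').symm⟩

theorem normalizer_le_stabW :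
    Subgroup.normalizer ((Subgroup.centralizer {z} : Subgroup G) : Set G) ≤ D.stabW z := by
  intro x hx v hv
  obtain ⟨m, hm'⟩ := D.conj_mem_powers hm hd hzo hx
  obtain ⟨m2, hm2⟩ := D.conj_mem_powers hm hd hzo (Subgroup.inv_mem _ hx)
  exact ⟨D.rho_conj_Wz hm' hv, D.rho_conj_Wz (x := x⁻¹) hm2 hv⟩

/-- The bound for the normaliser. -/
theorem card_normalizer_prime :
    Nat.card (Subgroup.normalizer ((Subgroup.centralizer {z} : Subgroup G) : Set G)) ≤
      Nat.card (Subgroup.centralizer {z}) * 6 := by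
  classical
  obtain ⟨hz, hz1⟩ := D.z_facts hm hd hzo
  set C := Subgroup.centralizer {z} with hC
  set N := Subgroup.normalizer ((C : Subgroup G) : Set G) with hN
  have hle := D.normalizer_le_stabW hm hd hzo
  rw [← hN] at hle
  have hzN : z ∈ N := by
    apply Subgroup.le_normalizer
    exact Subgroup.mem_centralizer_singleton_iff.2 rfl
  let ρ : N →* Module.End K (D.Wz z) := (D.rhoW z).comp (Subgroup.inclusion hle)
  have hnt := D.Wz_nontrivial hd hz hz1
  have hcard : Nat.card ↥(C.subgroupOf N) = Nat.card C :=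
    Nat.card_congr (Subgroup.subgroupOfEquivOfLe Subgroup.le_normalizer).toEquiv
  rw [← hcard, ← D.finrank_Wz hd hz hz1]
  refine card_le_of_comm ρ ⟨z, hzN⟩ ?_ _ ?_ ?_
  · exact D.rhoW_irr hd hz hz1
  · intro x
    rw [← map_mul, ← map_mul]
    congr 1
    apply Subtype.ext
    -- the conjugate lies in the centraliser
    have h1 : x.1⁻¹ * z * x.1 ∈ C := by
      have := (Subgroup.mem_normalizer_iff.1 (N.inv_mem x.2) z).1 (Subgroup.mem_centralizer_singleton_iff.2 rfl)
      simpa using this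
    exact (Subgroup.mem_centralizer_singleton_iff.1 h1).symm
  · intro x hx
    rw [Subgroup.mem_subgroupOf]
    -- `x z x⁻¹` and `z` act the same on the complement
    have h1 : x.1 * z * x.1⁻¹ ∈ C := (Subgroup.mem_normalizer_iff.1 x.2 z).1 (Subgroup.mem_centralizer_singleton_iff.2 rfl)
    have hself : z ∈ C := Subgroup.mem_centralizer_singleton_iff.2 rfl
    have h2 : (x.1 * z * x.1⁻¹) * z⁻¹ = 1 := by
      apply D.rhoW_trivial hm hd hzo (C.mul_mem h1 (C.inv_mem hself))
      intro v hv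
      have h3 := congrArg Subtype.val (LinearMap.congr_fun hx ⟨D.rho z⁻¹ v, (hle hzN v hv).2⟩)
      have h4 : D.rho (x.1 * z * x.1⁻¹) (D.rho z⁻¹ v) = D.rho z (D.rho z⁻¹ v) := h3
      rw [map_mul]
      show D.rho (x.1 * z * x.1⁻¹) (D.rho z⁻¹ v) = v
      rw [h4]
      show (D.rho z * D.rho z⁻¹) v = v
      rw [← map_mul, mul_inv_cancel, map_one]
      rfl
    have h3 : x.1 * z * x.1⁻¹ = z := by
      calc x.1 * z * x.1⁻¹ = (x.1 * z * x.1⁻¹) * z⁻¹ * z := by group
        _ = z := by rw [h2, one_mul]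
    rw [Subgroup.mem_centralizer_singleton_iff]
    calc x.1 * z = (x.1 * z * x.1⁻¹) * x.1 := by group
      _ = z * x.1 := by rw [h3]

end

end Dat

end Cfsg.Agent.Lib.Ree.Abs
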