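import Cfsg.Agent.Lib.Ree.Abs15

/-!
# The abstract Ree group: the normaliser of the torus of order `q + 1`
-/

set_option autoImplicit false
set_option linter.unusedSectionVars false
set_option linter.unusedSimpArgs false
set_option linter.unnecessarySeqFocus false

namespace Cfsg.Agent.Lib.Ree.Abs

open Matrix Cfsg.Agent.Lib.Ree.Sigma Cfsg.Agent.Lib.Ree.Words Cfsg.Agent.Lib.Ree.Psi
open scoped MatrixGroups Pointwise

namespace Dat

variable {K G : Type*} [Field K] [Fintype K] [CharP K 3] [_root_.Group G] (D : Dat K G)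

theorem psi_conj_inv (c g : SL(2, K)) : D.psi (c * g * c⁻¹) = D.psi c * D.psi g * (D.psi c)⁻¹ := by
  rw [map_mul, map_mul, map_inv]

/-- The element `jj` inverts rotations. -/
theorem jj_mul_rot {g : SL(2, K)} (hg : g ∈ (T0 : Subgroup SL(2, K))) : jj * g = g⁻¹ * jj := by
  obtain ⟨e1, e2, e3, e4⟩ := sl_inv_apply g
  obtain ⟨j1, j2, j3, j4⟩ := jj_apply (K := K)
  apply sl_ext <;> simp only [sl_mul_apply, e1, e2, e3, e4, j1, j2, j3, j4, hg.1, hg.2] <;> ring

theorem vb_mul_psi {g : SL(2, K)} (hg : g ∈ (T0 : Subgroup SL(2, K))) : D.vb * D.psi g = D.psi g⁻¹ * D.vb := by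
  rw [vb, ← map_mul, ← map_mul, jj_mul_rot hg]

theorem vb_inv : D.vb⁻¹ = D.vb := inv_eq_of_mul_eq_one_left D.vb_sq

theorem vb_conj_mem {x : G} (hx : x ∈ D.A0) : D.vb * x * D.vb⁻¹ ∈ D.A0 := by
  have key : ∀ g ∈ (T0 : Subgroup SL(2, K)), D.vb * D.psi g * D.vb⁻¹ = D.psi g⁻¹ := by
    intro g hg
    rw [vb_mul_psi D hg, mul_inv_cancel_right]
  rcases hx with ⟨g, hg, rfl⟩ | ⟨_, ⟨g, hg, rfl⟩, rfl⟩
  · rw [key g hg]
    exact D.X1_le_A0 (D.psi_mem_X1 (T0.inv_mem hg))
  · have e : D.vb * (D.t0 * D.psi g) * D.vb⁻¹ = D.t0 * (D.vb * D.psi g * D.vb⁻¹) := by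
      have := D.t0_comm_vb
      calc D.vb * (D.t0 * D.psi g) * D.vb⁻¹ = (D.vb * D.t0) * D.psi g * D.vb⁻¹ := by group
        _ = (D.t0 * D.vb) * D.psi g * D.vb⁻¹ := by rw [this]
        _ = _ := by group
    rw [e, key g hg]
    exact Or.inr ⟨_, D.psi_mem_X1 (T0.inv_mem hg), rfl⟩

theorem vb_mem_norm : D.vb ∈ Subgroup.normalizer ((D.A0 : Subgroup G) : Set G) := by
  rw [Subgroup.mem_normalizer_iff]
  intro x
  constructor
  · exact D.vb_conj_mem
  · intro h
    have h1 := D.vb_conj_mem h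
    rw [vb_inv] at h1
    have e : D.vb * (D.vb * x * D.vb) * D.vb = x := by
      calc D.vb * (D.vb * x * D.vb) * D.vb = (D.vb * D.vb) * x * (D.vb * D.vb) := by group
        _ = x := by rw [D.vb_sq, one_mul, mul_one]
    rwa [e] at h1

theorem vb_not_mem : D.vb ∉ D.A0 := by
  have hj : (jj : SL(2, K)) ∉ (T0 : Subgroup SL(2, K)) := by
    intro h
    obtain ⟨j1, j2, j3, j4⟩ := jj_apply (K := K)
    have := h.1
    rw [j1, j4] at this
    exact D.neg_one_ne_one this
  rintro (⟨g, hg, he⟩ | ⟨_, ⟨g, hg, rfl⟩, he⟩)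
  · rw [vb, D.psi_eq_iff] at he
    rcases he with rfl | he
    · exact hj hg
    · apply hj
      have : jj = nI * g := by
        rw [he, ← mul_assoc, nI_sq, one_mul]
      rw [this]
      exact T0.mul_mem nI_mem_T0 hg
  · apply D.t0_not_mem (jj * g⁻¹)
    rw [map_mul, map_inv]
    rw [vb] at he
    rw [he]
    group

include D in
/-- Invariance of the trace for rotations. -/
theorem rot_conj_eq {c g g' : SL(2, K)} (hg : g ∈ (T0 : Subgroup SL(2, K))) (hg' : g' ∈ (T0 : Subgroup SL(2, K)))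
    (hc : c * g = g' * c) : g' 0 0 = g 0 0 ∧ (g' 0 1 = g 0 1 ∨ g' 0 1 = - g 0 1) := by
  have h3 := D.three
  have h00 := congrArg (fun x : SL(2, K) => x 0 0) hc
  have h01 := congrArg (fun x : SL(2, K) => x 0 1) hc
  have h10 := congrArg (fun x : SL(2, K) => x 1 0) hc
  have h11 := congrArg (fun x : SL(2, K) => x 1 1) hc
  simp only [sl_mul_apply, hg.1, hg.2, hg'.1, hg'.2] at h00 h01 h10 h11
  have hd := sl_det c
  have h2ne : (2 : K) ≠ 0 := by
    intro h
    have : (1 : K) = 0 := by linear_combination h3 - h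
    exact one_ne_zero this
  have e : g' 0 0 = g 0 0 := by
    apply mul_left_cancel₀ h2ne
    have h5 : 2 * (g 0 0 - g' 0 0) * (c 0 0 * c 1 1 - c 0 1 * c 1 0) = 0 := by
      linear_combination c 1 1 * h00 - c 1 0 * h01 + c 0 0 * h11 - c 0 1 * h10
    rw [hd, mul_one] at h5
    linear_combination -h5
  refine ⟨e, ?_⟩
  have h1 := T0_norm hg
  have h2 := T0_norm hg'
  rw [e] at h2
  have : (g' 0 1 - g 0 1) * (g' 0 1 + g 0 1) = 0 := by linear_combination h2 - h1
  rcases mul_eq_zero.1 this with h | h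
  · left
    linear_combination h
  · right
    linear_combination h

section

variable [Finite G] (hm : 1 ≤ D.m)

/-- A rotation of prime order. -/
theorem exists_prime_X1 (hm : 1 ≤ D.m) : ∃ (p : ℕ) (y : G), p.Prime ∧ p ∣ D.n0 ∧ y ∈ D.X1 ∧ orderOf y = p := by
  have h1 : D.n0 ≠ 1 := (D.n0_gt_one hm).ne'
  obtain ⟨p, hp, hpn⟩ := Nat.exists_prime_and_dvd h1
  haveI : Fact p.Prime := ⟨hp⟩
  have h2 := D.card_X1
  rw [← D.four_n0] at h2
  have h3 : Nat.card D.X1 = 2 * D.n0 := by omega
  have h4 : p ∣ Nat.card D.X1 := by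
    rw [h3]
    exact hpn.trans (Dvd.intro_left 2 rfl)
  obtain ⟨y, hy⟩ := exists_prime_orderOf_dvd_card' p h4
  exact ⟨p, y.1, hp, hpn, y.2, by rwa [Subgroup.orderOf_coe]⟩

theorem mem_norm_iff_map {x : G} {A : Subgroup G} (h : A.map (MulAut.conj x).toMonoidHom = A) :
    x ∈ Subgroup.normalizer (A : Set G) := by
  rw [Subgroup.mem_normalizer_iff_map_conj_eq] <;> first | exact h | skip

include hm

/-- An involution of the torus is conjugate to `t₀` under the normaliser of the torus. -/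
theorem exists_norm_conj {v : G} (hv : v ∈ D.A0) (h2 : v * v = 1) (h1 : v ≠ 1) :
    ∃ n ∈ Subgroup.normalizer ((D.A0 : Subgroup G) : Set G), v = n * D.t0 * n⁻¹ := by
  obtain ⟨p, y, hp, hpn, hy, hyo⟩ := D.exists_prime_X1 hm
  obtain ⟨hpq, hpq1, hpD, hp3, hp2⟩ := D.dvd_n0_facts hp hpn
  obtain ⟨h, rfl⟩ := D.inv_CT hm h2 h1
  have hcy := D.cent_rot hy hp hpn hyo
  have hvy : h * D.t0 * h⁻¹ ∈ Subgroup.centralizer {y} := by
    rw [hcy]
    exact hv
  have hcomm := Subgroup.mem_centralizer_singleton_iff.1 hvy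
  have hc' : D.t0 * (h⁻¹ * y * h) = (h⁻¹ * y * h) * D.t0 := by
    calc D.t0 * (h⁻¹ * y * h) = h⁻¹ * ((h * D.t0 * h⁻¹) * y) * h := by group
      _ = h⁻¹ * (y * (h * D.t0 * h⁻¹)) * h := by rw [hcomm]
      _ = _ := by group
  have hfree : ∀ α : D.Om, (h⁻¹ * y * h) • α ≠ α := by
    intro α hα
    have h1 := D.orderOf_dvd_of_fix hα
    rw [orderOf_conj, hyo] at h1
    rcases (Nat.Prime.dvd_mul hp).1 h1 with h2 | h2
    · exact hpq (hp.dvd_of_dvd_pow h2)
    · exact hpq1 h2
  obtain ⟨P, z, hz, he⟩ := D.conj_of_comm_t0 hc' hfree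
  set n := h * D.psi P with hn
  have hz' : z = n⁻¹ * y * n := by
    rw [hn]
    have : n⁻¹ * y * n = (D.psi P)⁻¹ * (h⁻¹ * y * h) * D.psi P := by
      rw [hn]
      group
    rw [hn] at this
    rw [this, he]
    group
  have hzo : orderOf z = p := by
    rw [hz', orderOf_conj, hyo]
  have hzX : z ∈ D.X1 := D.odd_mem_X1 hz (by
    rw [hzo]
    exact hp.odd_of_ne_two hp2)
  have hcz := D.cent_rot hzX hp hpn hzo
  have hmap : D.A0.map (MulAut.conj n).toMonoidHom = D.A0 := by
    have e2 : y = n * z * n⁻¹ := by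
      rw [hz']
      group
    calc D.A0.map (MulAut.conj n).toMonoidHom = (Subgroup.centralizer {z}).map (MulAut.conj n).toMonoidHom := by rw [hcz]
      _ = Subgroup.centralizer {n * z * n⁻¹} := (cent_conj n z).symm
      _ = Subgroup.centralizer {y} := by rw [← e2]
      _ = D.A0 := hcy
  refine ⟨n, ?_, ?_⟩
  · rw [Subgroup.mem_normalizer_iff]
    intro x
    constructor
    · intro hx
      rw [← hmap]
      rw [mem_map_conj]
      have e : n⁻¹ * (n * x * n⁻¹) * n = x := by group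
      rw [e]
      exact hx
    · intro hx
      rw [← hmap, mem_map_conj] at hx
      have e : n⁻¹ * (n * x * n⁻¹) * n = x := by group
      rwa [e] at hx
  · rw [hn]
    have : h * D.psi P * D.t0 * (h * D.psi P)⁻¹ = h * (D.psi P * D.t0 * (D.psi P)⁻¹) * h⁻¹ := by group
    rw [this, ← D.t0_comm_psi P]
    have e : D.t0 * D.psi P * (D.psi P)⁻¹ = D.t0 := by group
    rw [e]

/-- The involutions of the torus. -/
theorem inv_A0 {v : G} (hv : v ∈ D.A0) (h2 : v * v = 1) (h1 : v ≠ 1) : v = D.t0 ∨ v = D.w ∨ v = D.t0 * D.w := by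
  have key : ∀ g ∈ (T0 : Subgroup SL(2, K)), D.psi g * D.psi g = 1 → D.psi g = 1 ∨ D.psi g = D.w := by
    intro g hg h
    rw [← map_mul, D.psi_ker] at h
    have hn := T0_norm hg
    have h3 := D.three
    rcases h with h | h
    · left
      have e1 := congrArg (fun x : SL(2, K) => x 0 1) h
      have e2 : (1 : SL(2, K)) 0 1 = 0 := by simp
      simp only [sl_mul_apply, hg.1, hg.2, e2] at e1
      by_cases hb : g 0 1 = 0
      · exact D.psi_eq_one_of_T0 hg hb
      · exfalso
        have ha : g 0 0 = 0 := by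
          have : g 0 1 * (2 * g 0 0) = 0 := by linear_combination e1
          have h5 := (mul_eq_zero.1 this).resolve_left hb
          have h2ne : (2 : K) ≠ 0 := by
            intro h
            have : (1 : K) = 0 := by linear_combination h3 - h
            exact one_ne_zero this
          exact (mul_eq_zero.1 h5).resolve_left h2ne
        have e3 := congrArg (fun x : SL(2, K) => x 0 0) h
        have e4 : (1 : SL(2, K)) 0 0 = 1 := by simp
        simp only [sl_mul_apply, hg.1, hg.2, e4, ha] at e3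
        apply D.not_isSquare_neg_one
        rw [ha] at hn
        -- `b² = 1` and `- b² = 1`
        have h6 : (2 : K) = 0 := by linear_combination -hn - e3
        have : (1 : K) = 0 := by linear_combination h3 - h6
        exact absurd this one_ne_zero
    · right
      have e1 := congrArg (fun x : SL(2, K) => x 0 0) h
      have e2 := nI_apply (K := K)
      simp only [sl_mul_apply, hg.1, hg.2, e2.1] at e1
      apply D.psi_eq_w_of_T0 hg
      have : 2 * g 0 0 ^ 2 = 0 := by linear_combination e1 + hn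
      have h2ne : (2 : K) ≠ 0 := by
        intro h
        have : (1 : K) = 0 := by linear_combination h3 - h
        exact one_ne_zero this
      have h5 := (mul_eq_zero.1 this).resolve_left h2ne
      exact pow_eq_zero_iff (two_ne_zero) |>.1 h5
  rcases hv with ⟨g, hg, rfl⟩ | ⟨_, ⟨g, hg, rfl⟩, rfl⟩
  · rcases key g hg h2 with h | h
    · exact absurd h h1
    · exact Or.inr (Or.inl h)
  · have e : D.t0 * D.psi g * (D.t0 * D.psi g) = D.psi g * D.psi g := by
      calc D.t0 * D.psi g * (D.t0 * D.psi g) = D.t0 * (D.psi g * D.t0) * D.psi g := by group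
        _ = D.t0 * (D.t0 * D.psi g) * D.psi g := by rw [D.t0_comm_psi g]
        _ = (D.t0 * D.t0) * (D.psi g * D.psi g) := by group
        _ = _ := by rw [D.t0_sq, one_mul]
    rw [e] at h2
    rcases key g hg h2 with h | h
    · left
      rw [h, mul_one]
    · right
      right
      rw [h]

/-- The order of the normaliser of the torus. -/
theorem card_norm_A0 : Nat.card (Subgroup.normalizer ((D.A0 : Subgroup G) : Set G)) = 6 * (D.q + 1) := by
  classical
  set N := Subgroup.normalizer ((D.A0 : Subgroup G) : Set G) with hN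
  let X : Set G := {D.t0, D.w, D.t0 * D.w}
  have hw1 := D.w_ne_one
  have ht1 := D.t0_ne
  have hX : ∀ y, y ∈ X ↔ ∃ n ∈ N, y = n * D.t0 * n⁻¹ := by
    intro y
    constructor
    · intro hy
      have hw2 : D.w * D.w = 1 := D.w_mul_w
      have htw : D.t0 * D.w ∈ D.A0 := D.A0.mul_mem D.t0_mem_A0 D.w_mem_A0
      rcases hy with rfl | rfl | hy
      · exact ⟨1, N.one_mem, by group⟩
      · exact D.exists_norm_conj hm D.w_mem_A0 hw2 hw1
      · rw [Set.mem_singleton_iff] at hy
        subst hy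
        refine D.exists_norm_conj hm htw ?_ D.S0_ne_t0_w
        calc D.t0 * D.w * (D.t0 * D.w) = D.t0 * (D.w * D.t0) * D.w := by group
          _ = D.t0 * (D.t0 * D.w) * D.w := by rw [D.w_comm_t0]
          _ = (D.t0 * D.t0) * (D.w * D.w) := by group
          _ = 1 := by rw [D.t0_sq, hw2, one_mul]
    · rintro ⟨n, hn, rfl⟩
      have h1 : n * D.t0 * n⁻¹ ∈ D.A0 := (Subgroup.mem_normalizer_iff.1 hn _).1 D.t0_mem_A0
      have h2 : n * D.t0 * n⁻¹ * (n * D.t0 * n⁻¹) = 1 := by
        calc n * D.t0 * n⁻¹ * (n * D.t0 * n⁻¹) = n * (D.t0 * D.t0) * n⁻¹ := by group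
          _ = 1 := by rw [D.t0_sq]; group
      have h3 : n * D.t0 * n⁻¹ ≠ 1 := by
        intro h
        apply ht1
        have : D.t0 = n⁻¹ * (n * D.t0 * n⁻¹) * n := by group
        rw [this, h]
        group
      rcases D.inv_A0 hm h1 h2 h3 with h | h | h
      · exact Or.inl h
      · exact Or.inr (Or.inl h)
      · exact Or.inr (Or.inr h)
  have hXc : Nat.card X = 3 := by
    rw [Nat.card_coe_set_eq]
    have hne1 : D.t0 ≠ D.w := by
      intro h
      apply D.t0_not_mem_X1
      rw [h]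
      exact D.w_mem_X1
    have hne2 : D.t0 ≠ D.t0 * D.w := by
      intro h
      apply hw1
      exact (mul_eq_left).1 h.symm
    have hne3 : D.w ≠ D.t0 * D.w := by
      intro h
      apply ht1
      exact (mul_eq_right).1 h.symm
    rw [Set.ncard_eq_toFinset_card']
    simp [X, hne1, hne2, hne3, Finset.card_insert_of_notMem]
  have hY : Nat.card ↥(N ⊓ Subgroup.centralizer {D.t0}) = 2 * (D.q + 1) := by
    rw [← D.card_A0]
    refine card_double D.vb D.A0 _ D.vb_not_mem ?_
    intro x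
    constructor
    · rintro ⟨hxN, hxC⟩
      have hxt : D.t0 * x = x * D.t0 := (Subgroup.mem_centralizer_singleton_iff.1 hxC).symm
      obtain ⟨p, y, hp, hpn, hy, hyo⟩ := D.exists_prime_X1 hm
      obtain ⟨hpq, hpq1, hpD, hp3, hp2⟩ := D.dvd_n0_facts hp hpn
      obtain ⟨g, hg, rfl⟩ := hy
      have hy1 : D.psi g ≠ 1 := by
        intro h
        rw [h, orderOf_one] at hyo
        exact hp.one_lt.ne hyo
      have hb : g 0 1 ≠ 0 := fun h => hy1 (D.psi_eq_one_of_T0 hg h)
      have h1 : x * D.psi g * x⁻¹ ∈ D.A0 := (Subgroup.mem_normalizer_iff.1 hxN _).1 (D.X1_le_A0 (D.psi_mem_X1 hg))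
      have h2 : x * D.psi g * x⁻¹ ∈ D.X1 := D.odd_mem_X1 h1 (by
        have : orderOf (x * D.psi g * x⁻¹) = p := by
          rw [← hyo, ← orderOf_conj x⁻¹ (D.psi g), inv_inv]
        rw [this]
        exact hp.odd_of_ne_two hp2)
      obtain ⟨g', hg', he⟩ := h2
      obtain ⟨c, hc⟩ := D.cent_t0_form hxt
      have hpc : D.psi c * D.psi g * (D.psi c)⁻¹ = D.psi g' := by
        rw [he]
        rcases hc with rfl | rfl
        · rfl
        · have : D.t0 * D.psi c * D.psi g * (D.t0 * D.psi c)⁻¹ = D.t0 * (D.psi c * D.psi g * (D.psi c)⁻¹) * D.t0⁻¹ := by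
            group
          rw [this, ← D.psi_conj_inv, D.t0_inv, D.t0_comm_psi, mul_assoc (D.psi _), D.t0_sq, mul_one]
      rw [← D.psi_conj_inv, D.psi_eq_iff] at hpc
      -- in all cases `c g c⁻¹` is a rotation
      have hrot : ∃ g₃ ∈ (T0 : Subgroup SL(2, K)), c * g = g₃ * c := by
        rcases hpc with h | h
        · exact ⟨g', hg', by rw [← h]; group⟩
        · exact ⟨nI * g', T0.mul_mem nI_mem_T0 hg', by rw [← h]; group⟩
      obtain ⟨g₃, hg₃, hcg⟩ := hrot
      obtain ⟨e1, e2⟩ := D.rot_conj_eq hg hg₃ hcg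
      have hcase : c ∈ (T0 : Subgroup SL(2, K)) ∨ ∃ h ∈ (T0 : Subgroup SL(2, K)), c = jj * h := by
        rcases e2 with e2 | e2
        · left
          have : g₃ = g := by
            apply sl_ext e1 e2
            · rw [hg₃.2, hg.2, e2]
            · rw [hg₃.1, hg.1, e1]
          rw [this] at hcg
          exact mem_T0_of_comm hg hb hcg
        · right
          have hinv : g₃ = g⁻¹ := by
            obtain ⟨i1, i2, i3, i4⟩ := sl_inv_apply g
            apply sl_ext
            · rw [e1, i1, hg.1]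
            · rw [e2, i2]
            · rw [hg₃.2, e2, i3, hg.2]
            · rw [hg₃.1, e1, i4]
          refine ⟨jj⁻¹ * c, ?_, by group⟩
          apply mem_T0_of_comm hg hb
          rw [hinv] at hcg
          have h7 := jj_mul_rot hg
          calc jj⁻¹ * c * g = jj⁻¹ * (c * g) := by group
            _ = jj⁻¹ * (g⁻¹ * c) := by rw [hcg]
            _ = jj⁻¹ * (g⁻¹ * jj) * (jj⁻¹ * c) := by group
            _ = jj⁻¹ * (jj * g) * (jj⁻¹ * c) := by rw [h7]
            _ = g * (jj⁻¹ * c) := by group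
      rcases hcase with hT | ⟨h, hh, rfl⟩
      · left
        rcases hc with rfl | rfl
        · exact D.X1_le_A0 (D.psi_mem_X1 hT)
        · exact Or.inr ⟨_, D.psi_mem_X1 hT, rfl⟩
      · right
        rcases hc with rfl | rfl
        · exact ⟨D.psi h, D.X1_le_A0 (D.psi_mem_X1 hh), by rw [map_mul]; rfl⟩
        · refine ⟨D.t0 * D.psi h, Or.inr ⟨_, D.psi_mem_X1 hh, rfl⟩, ?_⟩
          rw [map_mul]
          show D.t0 * (D.vb * D.psi h) = D.vb * (D.t0 * D.psi h)
          rw [← mul_assoc, ← mul_assoc, D.t0_comm_vb]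
    · rintro (hx | ⟨z, hz, rfl⟩)
      · exact ⟨Subgroup.le_normalizer hx, Subgroup.mem_centralizer_singleton_iff.2 (D.A0_comm_t0 hx).symm⟩
      · refine ⟨N.mul_mem D.vb_mem_norm (Subgroup.le_normalizer hz), ?_⟩
        refine Subgroup.mem_centralizer_singleton_iff.2 ?_
        rw [mul_assoc, ← D.A0_comm_t0 hz, ← mul_assoc, ← mul_assoc, D.t0_comm_vb]
  have h := card_conj_orbit N D.t0 X hX
  rw [hXc, hY] at h
  rw [h]
  ring

end

end Dat

end Cfsg.Agent.Lib.Ree.Abs
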