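import Cfsg.Agent.Lib.Ree.Abs16

/-!
# The abstract Ree group: counting fixed-point-free elements
-/

set_option autoImplicit false
set_option linter.unusedSectionVars false
set_option linter.unusedSimpArgs false
set_option linter.unnecessarySeqFocus false

namespace Cfsg.Agent.Lib.Ree.Abs

open Matrix Cfsg.Agent.Lib.Ree.Sigma Cfsg.Agent.Lib.Ree.Words Cfsg.Agent.Lib.Ree.Psi
open scoped MatrixGroups Pointwise BigOperators

/-- Count of the union of the conjugates of a subset with trivial intersection properties. -/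
theorem card_ti {Γ : Type*} [_root_.Group Γ] [Finite Γ] (S : Set Γ) (N : Subgroup Γ)
    (hS1 : ∀ n ∈ N, ∀ s ∈ S, n * s * n⁻¹ ∈ S) (hS2 : ∀ g, ∀ s ∈ S, g * s * g⁻¹ ∈ S → g ∈ N)
    (U : Set Γ) (hU : ∀ x, x ∈ U ↔ ∃ g, ∃ s ∈ S, x = g * s * g⁻¹) :
    Nat.card U * Nat.card N = Nat.card Γ * Nat.card S := by
  classical
  have : Fintype U := Fintype.ofFinite _
  let f : Γ × S → U := fun p => ⟨p.1 * p.2.1 * p.1⁻¹, (hU _).2 ⟨p.1, p.2.1, p.2.2, rfl⟩⟩
  have hfib : ∀ u : U, Nat.card {p : Γ × S // f p = u} = Nat.card N := by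
    intro u
    obtain ⟨g₀, s₀, hs₀, hu⟩ := (hU u.1).1 u.2
    have hcomp : ∀ p : {p : Γ × S // f p = u}, g₀⁻¹ * p.1.1 ∈ N := by
      rintro ⟨⟨g, s⟩, hp⟩
      have h1 : g * s.1 * g⁻¹ = u.1 := congrArg Subtype.val hp
      have h2 : g₀⁻¹ * g * s.1 * (g₀⁻¹ * g)⁻¹ = s₀ := by
        have : g₀⁻¹ * g * s.1 * (g₀⁻¹ * g)⁻¹ = g₀⁻¹ * (g * s.1 * g⁻¹) * g₀ := by group
        rw [this, h1, hu]
        group
      apply hS2 _ s.1 s.2
      rw [h2]
      exact hs₀
    apply Nat.card_congr
    refine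
      { toFun := fun p => ⟨g₀⁻¹ * p.1.1, hcomp p⟩
        invFun := fun n => ⟨(g₀ * n.1, ⟨n.1⁻¹ * s₀ * n.1, by
            have := hS1 _ (N.inv_mem n.2) s₀ hs₀
            rwa [inv_inv] at this⟩), by
            apply Subtype.ext
            show g₀ * n.1 * (n.1⁻¹ * s₀ * n.1) * (g₀ * n.1)⁻¹ = u.1
            rw [hu]
            group⟩
        left_inv := ?_
        right_inv := ?_ }
    · rintro ⟨⟨g, s⟩, hp⟩
      have h1 : g * s.1 * g⁻¹ = u.1 := congrArg Subtype.val hp
      apply Subtype.ext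
      apply Prod.ext
      · show g₀ * (g₀⁻¹ * g) = g
        group
      · apply Subtype.ext
        show (g₀⁻¹ * g)⁻¹ * s₀ * (g₀⁻¹ * g) = s.1
        have : s₀ = g₀⁻¹ * (g * s.1 * g⁻¹) * g₀ := by
          rw [h1, hu]
          group
        rw [this]
        group
    · rintro ⟨n, hn⟩
      apply Subtype.ext
      show g₀⁻¹ * (g₀ * n) = n
      group
  have hsig := Nat.card_congr (Equiv.sigmaFiberEquiv f).symm
  rw [Nat.card_sigma, Nat.card_prod] at hsig
  rw [hsig]
  simp only [hfib, Finset.sum_const, Finset.card_univ, smul_eq_mul]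
  rw [Nat.card_eq_fintype_card]

theorem card_emb_fixed {Γ X : Type*} [_root_.Group Γ] [MulAction Γ X] [Fintype X] (g : Γ) :
    Nat.card (MulAction.fixedBy (Fin 2 ↪ X) g) =
      Nat.card (MulAction.fixedBy X g) * (Nat.card (MulAction.fixedBy X g) - 1) := by
  classical
  have e : MulAction.fixedBy (Fin 2 ↪ X) g ≃ (Fin 2 ↪ MulAction.fixedBy X g) :=
    { toFun := fun φ =>
        { toFun := fun i => ⟨φ.1 i, by
            have := congrArg (fun ψ : Fin 2 ↪ X => ψ i) φ.2
            exact this⟩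
          inj' := fun i j hij => φ.1.injective (congrArg Subtype.val hij) }
      invFun := fun ψ => ⟨⟨fun i => (ψ i).1, fun i j hij => ψ.injective (Subtype.ext hij)⟩, by
        apply Function.Embedding.ext
        intro i
        exact (ψ i).2⟩
      left_inv := fun φ => by
        apply Subtype.ext
        apply Function.Embedding.ext
        intro i
        rfl
      right_inv := fun ψ => by
        apply Function.Embedding.ext
        intro i
        rfl }
  rw [Nat.card_congr e, Nat.card_eq_fintype_card, Fintype.card_embedding_eq, Fintype.card_fin,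
    Nat.card_eq_fintype_card, Nat.descFactorial_succ, Nat.descFactorial_one]
  ring

/-- Burnside for a transitive action. -/
theorem sum_fixed_trans {Γ X : Type*} [_root_.Group Γ] [Fintype Γ] [MulAction Γ X] [Finite X] [Nonempty X]
    [MulAction.IsPretransitive Γ X] :
    (∑ g : Γ, Nat.card (MulAction.fixedBy X g)) = Fintype.card Γ := by
  classical
  have : Fintype X := Fintype.ofFinite X
  have hQ : Subsingleton (Quotient (MulAction.orbitRel Γ X)) := by
    constructor
    intro a b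
    induction a using Quotient.inductionOn with | _ a => ?_
    induction b using Quotient.inductionOn with | _ b => ?_
    apply Quotient.sound
    exact MulAction.orbitRel_apply.mpr (MulAction.exists_smul_eq Γ b a)
  have hQ' : Unique (Quotient (MulAction.orbitRel Γ X)) :=
    { default := Quotient.mk _ (Classical.arbitrary X)
      uniq := fun _ => Subsingleton.elim _ _ }
  have hb := MulAction.sum_card_fixedBy_eq_card_orbits_mul_card_group Γ X
  rw [Fintype.card_unique, one_mul] at hb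
  rw [← hb]
  exact Finset.sum_congr rfl (fun g _ => Nat.card_eq_fintype_card)

namespace Dat

variable {K G : Type*} [Field K] [Fintype K] [CharP K 3] [_root_.Group G] (D : Dat K G)

/-- Fixed-point-free elements. -/
def Fpf (x : G) : Prop := ∀ α : D.Om, x • α ≠ α

theorem fx_eq_zero_iff [Finite G] {x : G} : D.fx x = 0 ↔ D.Fpf x := by
  rw [fx, Nat.card_eq_zero]
  constructor
  · rintro (h1 | h1)
    · intro w hw
      exact h1.false ⟨w, hw⟩
    · exact absurd h1 (not_infinite_iff_finite.mpr inferInstance)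
  · intro hg
    left
    exact ⟨fun w => hg w.1 w.2⟩

theorem Fpf.conj {D : Dat K G} {x : G} (h : D.Fpf x) (g : G) : D.Fpf (g * x * g⁻¹) := by
  intro α hα
  apply h (g⁻¹ • α)
  rw [← mul_smul]
  have e : x * g⁻¹ = g⁻¹ * (g * x * g⁻¹) := by group
  rw [e, mul_smul, hα]

theorem Fpf.ne_one {D : Dat K G} {x : G} (h : D.Fpf x) : x ≠ 1 := by
  rintro rfl
  exact h D.p0 (one_smul _ _)

theorem CT_not_fpf [Finite G] {x : G} (h : D.CT x) : ¬ D.Fpf x := by
  intro hf
  have h1 := D.fx_CT h
  rw [D.fx_eq_zero_iff.2 hf] at h1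
  omega

/-- Pairs of points are permuted transitively. -/
instance pretrans2 : MulAction.IsPretransitive G (Fin 2 ↪ D.Om) := by
  constructor
  have key : ∀ e : Fin 2 ↪ D.Om, ∃ g : G, g • e 0 = D.p0 ∧ g • e 1 = D.pw := by
    intro e
    exact D.two_trans (fun h => by simpa using e.injective h)
  intro e₁ e₂
  obtain ⟨g₁, h1, h2⟩ := key e₁
  obtain ⟨g₂, h3, h4⟩ := key e₂
  refine ⟨g₂⁻¹ * g₁, ?_⟩
  apply Function.Embedding.ext
  intro i
  show (g₂⁻¹ * g₁) • e₁ i = e₂ i
  fin_cases i
  · show (g₂⁻¹ * g₁) • e₁ 0 = e₂ 0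
    rw [mul_smul, h1, ← h3, inv_smul_smul]
  · show (g₂⁻¹ * g₁) • e₁ 1 = e₂ 1
    rw [mul_smul, h2, ← h4, inv_smul_smul]

instance pretrans1 : MulAction.IsPretransitive G D.Om := by
  constructor
  intro α β
  obtain ⟨a, rfl⟩ := QuotientGroup.mk_surjective α
  obtain ⟨b, rfl⟩ := QuotientGroup.mk_surjective β
  refine ⟨b * a⁻¹, ?_⟩
  rw [D.smul_mk]
  congr 1
  group

/-- The basic count of fixed-point-free elements. -/
theorem two_fpf [Finite G] (hm : 1 ≤ D.m) :
    (2 * Nat.card {x : G // D.Fpf x} + Nat.card (invSet G) * (D.q * (D.q - 1)) + D.q ^ 3 * (D.q ^ 3 - 1) : ℕ) =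
      Nat.card G := by
  classical
  have : Fintype G := Fintype.ofFinite _
  have : Fintype D.Om := Fintype.ofFinite _
  have hne : Nonempty D.Om := ⟨D.p0⟩
  have hne2 : Nonempty (Fin 2 ↪ D.Om) := by
    refine ⟨⟨![D.p0, D.pw], ?_⟩⟩
    intro i j hij
    fin_cases i <;> fin_cases j <;> simp_all [D.pw_ne_p0, D.pw_ne_p0.symm]
  have s1 := sum_fixed_trans (Γ := G) (X := D.Om)
  have s2 := sum_fixed_trans (Γ := G) (X := Fin 2 ↪ D.Om)
  simp only [card_emb_fixed] at s2
  set f : G → ℕ := fun g => D.fx g with hf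
  have hq3 : 1 ≤ D.q ^ 3 := Nat.one_le_pow _ _ D.q_pos
  have hq1 : 1 ≤ D.q := D.q_pos
  have key : ∀ g : G, ((f g : ℤ) * ((f g : ℤ) - 1)) - 2 * (f g : ℤ) + 2 =
      2 * (if D.Fpf g then 1 else 0) + (if D.CT g then (D.q : ℤ) * ((D.q : ℤ) - 1) else 0) +
        (if g = 1 then ((D.q : ℤ) ^ 3) * (((D.q : ℤ) ^ 3) - 1) else 0) := by
    intro g
    by_cases hg : g = 1
    · subst hg
      have h1 : ¬ D.Fpf (1 : G) := fun hc => hc.ne_one rfl
      have h2 : ¬ D.CT (1 : G) := fun hc => D.CT_ne hc rfl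
      rw [if_neg h1, if_neg h2, if_pos rfl]
      show ((D.fx 1 : ℤ) * ((D.fx 1 : ℤ) - 1)) - 2 * (D.fx 1 : ℤ) + 2 = _
      rw [D.fx_one]
      push_cast
      ring
    · rw [if_neg hg]
      by_cases hc : D.CT g
      · rw [if_pos hc, if_neg (D.CT_not_fpf hc)]
        show ((D.fx g : ℤ) * ((D.fx g : ℤ) - 1)) - 2 * (D.fx g : ℤ) + 2 = _
        rw [D.fx_CT hc]
        push_cast
        ring
      · rw [if_neg hc]
        have hle := D.fx_le_two hg hc
        by_cases h0 : f g = 0
        · rw [if_pos (D.fx_eq_zero_iff.1 h0), h0]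
          norm_num
        · have h1 : ¬ D.Fpf g := fun hc' => h0 (D.fx_eq_zero_iff.2 hc')
          rw [if_neg h1]
          have : f g = 1 ∨ f g = 2 := by
            have : f g ≤ 2 := hle
            omega
          rcases this with e | e <;> rw [e] <;> norm_num
  have s3 : (∑ g : G, ((f g : ℤ) * ((f g : ℤ) - 1))) = Fintype.card G := by
    have h : ∑ g : G, (f g * (f g - 1) : ℕ) = Fintype.card G := s2
    rw [← h, Nat.cast_sum]
    apply Finset.sum_congr rfl
    intro g _
    rcases Nat.eq_zero_or_pos (f g) with e | e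
    · rw [e]
      simp
    · push_cast [Nat.cast_sub e]
      ring
  have s4 : (∑ g : G, (f g : ℤ)) = Fintype.card G := by
    rw [← s1]
    push_cast
    rfl
  have s5 := Finset.sum_congr (rfl : (Finset.univ : Finset G) = Finset.univ) (fun g _ => key g)
  rw [Finset.sum_add_distrib, Finset.sum_add_distrib, Finset.sum_sub_distrib, Finset.sum_add_distrib, s3,
    ← Finset.mul_sum, s4, ← Finset.mul_sum, Finset.sum_ite_eq' Finset.univ (1 : G)] at s5
  simp only [Finset.sum_const, Finset.card_univ, Finset.mem_univ, if_true, smul_eq_mul, nsmul_eq_mul] at s5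
  have hfp : (∑ g : G, (if D.Fpf g then (1 : ℤ) else 0)) = Nat.card {g : G // D.Fpf g} := by
    rw [Finset.sum_boole, Nat.card_eq_fintype_card, Fintype.card_subtype]
  have hct : (∑ g : G, (if D.CT g then (D.q : ℤ) * ((D.q : ℤ) - 1) else 0)) =
      (Nat.card (invSet G) : ℤ) * ((D.q : ℤ) * ((D.q : ℤ) - 1)) := by
    have e1 : (Nat.card (invSet G) : ℤ) = ∑ g : G, (if D.CT g then (1 : ℤ) else 0) := by
      have e2 : Nat.card (invSet G) = Nat.card {g : G // D.CT g} :=
        Nat.card_congr (Equiv.subtypeEquivRight (fun g => D.mem_invSet_iff hm))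
      rw [e2, Finset.sum_boole, Nat.card_eq_fintype_card, Fintype.card_subtype]
    rw [e1, Finset.sum_mul]
    apply Finset.sum_congr rfl
    intro g _
    split_ifs <;> simp
  rw [hfp, hct] at s5
  zify [hq1, hq3]
  rw [Nat.card_eq_fintype_card (α := G)]
  push_cast at s5
  linarith

end Dat

end Cfsg.Agent.Lib.Ree.Abs
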