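import Cfsg.Agent.Lib.Ree.Abs17

/-!
# The abstract Ree group: the classification of fixed-point-free elements
-/

set_option autoImplicit false
set_option linter.unusedSectionVars false
set_option linter.unusedSimpArgs false
set_option linter.unnecessarySeqFocus false

namespace Cfsg.Agent.Lib.Ree.Abs

open Matrix Cfsg.Agent.Lib.Ree.Sigma Cfsg.Agent.Lib.Ree.Words Cfsg.Agent.Lib.Ree.Psi
open scoped MatrixGroups Pointwise BigOperators

namespace Dat

variable {K G : Type*} [Field K] [Fintype K] [CharP K 3] [_root_.Group G] (D : Dat K G)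

/-- The elements of the torus of order different from one and two. -/
def A0c : Set G := {x | x ∈ D.A0 ∧ x * x ≠ 1}

section

variable [Finite G]

/-- A prime factor of the order of an element of the core. -/
theorem A0c_prime {s : G} (hs : s ∈ D.A0c) : ∃ p : ℕ, p.Prime ∧ p ∣ D.n0 ∧ p ∣ orderOf s := by
  obtain ⟨h1, h2⟩ := hs
  have ho := orderOf_dvd_of_pow_eq_one (D.A0_exp h1)
  have hne2 : ¬ orderOf s ∣ 2 := by
    intro h
    apply h2
    rw [← pow_two]
    exact orderOf_dvd_iff_pow_eq_one.1 h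
  by_cases hev : 2 ∣ orderOf s
  · obtain ⟨o, ho'⟩ := hev
    have h3 : o ∣ D.n0 := by
      rw [ho'] at ho
      exact (Nat.mul_dvd_mul_iff_left (by norm_num)).1 ho
    have h4 : o ≠ 1 := by
      rintro rfl
      apply hne2
      rw [ho']
    obtain ⟨p, hp, hpo⟩ := Nat.exists_prime_and_dvd h4
    exact ⟨p, hp, hpo.trans h3, by
      rw [ho']
      exact hpo.trans (Dvd.intro_left 2 rfl)⟩
  · have h4 : orderOf s ≠ 1 := by
      intro h
      apply hne2
      rw [h]
      exact one_dvd _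
    obtain ⟨p, hp, hpo⟩ := Nat.exists_prime_and_dvd h4
    have hp2 : p ≠ 2 := by
      rintro rfl
      exact hev hpo
    refine ⟨p, hp, ?_, hpo⟩
    have h5 := hpo.trans ho
    rcases (Nat.Prime.dvd_mul hp).1 h5 with h6 | h6
    · exact absurd ((Nat.prime_dvd_prime_iff_eq hp Nat.prime_two).1 h6) hp2
    · exact h6

/-- The centraliser of an element of the core. -/
theorem cent_A0c {s : G} (hs : s ∈ D.A0c) : Subgroup.centralizer {s} = D.A0 := by
  obtain ⟨p, hp, hpn, hps⟩ := D.A0c_prime hs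
  obtain ⟨hpq, hpq1, hpD, hp3, hp2⟩ := D.dvd_n0_facts hp hpn
  have hne : orderOf s ≠ 0 := (orderOf_pos s).ne'
  set y := s ^ (orderOf s / p) with hy
  have hyo : orderOf y = p := orderOf_pow_orderOf_div hne hps
  have hyA : y ∈ D.A0 := D.A0.pow_mem hs.1 _
  have hyX : y ∈ D.X1 := D.odd_mem_X1 hyA (by
    rw [hyo]
    exact hp.odd_of_ne_two hp2)
  have hc := D.cent_rot hyX hp hpn hyo
  apply le_antisymm
  · rw [← hc]
    intro x hx
    rw [Subgroup.mem_centralizer_singleton_iff] at hx ⊢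
    exact (Commute.pow_right (show Commute x s from hx) _).eq
  · intro x hx
    exact D.A0_le_cent hs.1 hx

theorem A0c_fpf {s : G} (hs : s ∈ D.A0c) : D.Fpf s := by
  obtain ⟨p, hp, hpn, hps⟩ := D.A0c_prime hs
  obtain ⟨hpq, hpq1, hpD, hp3, hp2⟩ := D.dvd_n0_facts hp hpn
  intro α hα
  have h1 := hps.trans (D.orderOf_dvd_of_fix hα)
  rcases (Nat.Prime.dvd_mul hp).1 h1 with h2 | h2
  · exact hpq (hp.dvd_of_dvd_pow h2)
  · exact hpq1 h2

/-- The conjugates of the core. -/
def Aset : Set G := {x | ∃ g, ∃ s ∈ D.A0c, x = g * s * g⁻¹}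

theorem Aset_fpf {x : G} (hx : x ∈ D.Aset) : D.Fpf x := by
  obtain ⟨g, s, hs, rfl⟩ := hx
  exact (D.A0c_fpf hs).conj g

theorem A0c_card (hm : 1 ≤ D.m) : Nat.card D.A0c + 4 = D.q + 1 := by
  classical
  have hw1 := D.w_ne_one
  have ht1 := D.t0_ne
  have htw1 := D.S0_ne_t0_w
  have hne1 : D.t0 ≠ D.w := by
    intro h
    apply D.t0_not_mem_X1
    rw [h]
    exact D.w_mem_X1
  have hne2 : D.t0 ≠ D.t0 * D.w := by
    intro h
    apply hw1
    exact (mul_eq_left).1 h.symm
  have hne3 : D.w ≠ D.t0 * D.w := by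
    intro h
    apply ht1
    exact (mul_eq_right).1 h.symm
  let V : Set G := {1, D.t0, D.w, D.t0 * D.w}
  have hV : V.ncard = 4 := by
    rw [Set.ncard_eq_toFinset_card']
    simp [V, hne1, hne2, hne3, ht1.symm, hw1.symm, htw1.symm, Finset.card_insert_of_notMem]
  have hU : ((D.A0 : Subgroup G) : Set G) = D.A0c ∪ V := by
    ext x
    constructor
    · intro hx
      by_cases h2 : x * x = 1
      · right
        by_cases h1 : x = 1
        · exact Or.inl h1
        · rcases D.inv_A0 hm hx h2 h1 with h | h | h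
          · exact Or.inr (Or.inl h)
          · exact Or.inr (Or.inr (Or.inl h))
          · exact Or.inr (Or.inr (Or.inr h))
      · exact Or.inl ⟨hx, h2⟩
    · rintro (hx | hx)
      · exact hx.1
      · rcases hx with rfl | rfl | rfl | hx
        · exact D.A0.one_mem
        · exact D.t0_mem_A0
        · exact D.w_mem_A0
        · rw [Set.mem_singleton_iff] at hx
          subst hx
          exact D.A0.mul_mem D.t0_mem_A0 D.w_mem_A0
  have hdis : Disjoint D.A0c V := by
    rw [Set.disjoint_left]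
    rintro x ⟨-, h2⟩ hx
    apply h2
    have hw2 : D.w * D.w = 1 := D.w_mul_w
    rcases hx with rfl | rfl | rfl | hx
    · simp
    · exact D.t0_sq
    · exact hw2
    · rw [Set.mem_singleton_iff] at hx
      subst hx
      calc D.t0 * D.w * (D.t0 * D.w) = D.t0 * (D.w * D.t0) * D.w := by group
        _ = D.t0 * (D.t0 * D.w) * D.w := by rw [D.w_comm_t0]
        _ = (D.t0 * D.t0) * (D.w * D.w) := by group
        _ = 1 := by rw [D.t0_sq, hw2, one_mul]
  have h1 := Set.ncard_union_eq hdis (Set.toFinite _) (Set.toFinite _)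
  rw [← hU, hV] at h1
  have h2 := D.card_A0
  rw [← Nat.card_coe_set_eq, ← Nat.card_coe_set_eq] at h1
  have h3 : Nat.card ↥((D.A0 : Subgroup G) : Set G) = Nat.card D.A0 := rfl
  omega

/-- The number of conjugates of core elements. -/
theorem card_Aset (hm : 1 ≤ D.m) :
    Nat.card D.Aset * (6 * (D.q + 1)) = Nat.card G * (D.q - 3) := by
  have h1 := card_ti D.A0c (Subgroup.normalizer ((D.A0 : Subgroup G) : Set G)) ?_ ?_ D.Aset (fun x => Iff.rfl)
  · rw [D.card_norm_A0 hm] at h1
    have h2 := D.A0c_card hm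
    have h3 : Nat.card D.A0c = D.q - 3 := by omega
    rw [h3] at h1
    exact h1
  · rintro n hn s ⟨h1, h2⟩
    refine ⟨(Subgroup.mem_normalizer_iff.1 hn _).1 h1, ?_⟩
    intro h
    apply h2
    have e : n * s * n⁻¹ * (n * s * n⁻¹) = n * (s * s) * n⁻¹ := by group
    rw [e] at h
    have : s * s = n⁻¹ * (n * (s * s) * n⁻¹) * n := by group
    rw [this, h]
    group
  · intro g s hs hgs
    have h1 := D.cent_A0c hs
    have h2 := D.cent_A0c hgs
    rw [cent_conj, h1] at h2
    rw [Subgroup.mem_normalizer_iff]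
    intro x
    constructor
    · intro hx
      rw [← h2]
      rw [mem_map_conj]
      have e : g⁻¹ * (g * x * g⁻¹) * g = x := by group
      rw [e]
      exact hx
    · intro hx
      rw [← h2, mem_map_conj] at hx
      have e : g⁻¹ * (g * x * g⁻¹) * g = x := by group
      rwa [e] at hx

/-- A fixed-point-free element of odd order or even order. -/
theorem fpf_cases (hm : 1 ≤ D.m) {x : G} (hx : D.Fpf x) : D.IsX x ∨ x ∈ D.Aset := by
  classical
  have hx1 := hx.ne_one
  have hne : orderOf x ≠ 0 := (orderOf_pos x).ne'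
  have hxx : x * x ≠ 1 := by
    intro h
    exact D.CT_not_fpf (D.inv_CT hm h hx1) hx
  -- conjugate into the core
  have hA : ∀ n : G, n⁻¹ * x * n ∈ D.A0 → x ∈ D.Aset := by
    intro n hn
    refine ⟨n, n⁻¹ * x * n, ⟨hn, ?_⟩, by group⟩
    intro h
    apply hxx
    have e : n⁻¹ * x * n * (n⁻¹ * x * n) = n⁻¹ * (x * x) * n := by group
    rw [e] at h
    have : x * x = n * (n⁻¹ * (x * x) * n) * n⁻¹ := by group
    rw [this, h]
    group
  by_cases hev : 2 ∣ orderOf x
  · right
    set i := x ^ (orderOf x / 2) with hi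
    have hio : orderOf i = 2 := orderOf_pow_orderOf_div hne hev
    have hi2 : i * i = 1 := by
      rw [← pow_two, ← hio, pow_orderOf_eq_one]
    have hi1 : i ≠ 1 := by
      intro h
      rw [h, orderOf_one] at hio
      omega
    obtain ⟨h, hh⟩ := D.inv_CT hm hi2 hi1
    have hcomm : x * i = i * x := (Commute.pow_right (Commute.refl x) _).eq
    rw [hh] at hcomm
    have hc' : D.t0 * (h⁻¹ * x * h) = (h⁻¹ * x * h) * D.t0 := by
      calc D.t0 * (h⁻¹ * x * h) = h⁻¹ * ((h * D.t0 * h⁻¹) * x) * h := by group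
        _ = h⁻¹ * (x * (h * D.t0 * h⁻¹)) * h := by rw [hcomm]
        _ = _ := by group
    have hfree : ∀ α : D.Om, (h⁻¹ * x * h) • α ≠ α := by
      have := hx.conj h⁻¹
      rwa [inv_inv] at this
    obtain ⟨P, z, hz, he⟩ := D.conj_of_comm_t0 hc' hfree
    apply hA (h * D.psi P)
    have : (h * D.psi P)⁻¹ * x * (h * D.psi P) = (D.psi P)⁻¹ * (h⁻¹ * x * h) * D.psi P := by group
    rw [this, he]
    have e : (D.psi P)⁻¹ * (D.psi P * z * (D.psi P)⁻¹) * D.psi P = z := by group
    rw [e]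
    exact hz
  · -- odd order
    have hodd : Odd (orderOf x) := by
      rw [← Nat.not_even_iff_odd]
      exact fun h => hev (even_iff_two_dvd.1 h)
    by_cases hcop : Nat.Coprime (orderOf x) D.Q1
    · exact Or.inl ⟨hx1, hcop⟩
    · right
      obtain ⟨r, hr, hrx, hrQ⟩ := Nat.Prime.not_coprime_iff_dvd.1 hcop
      have hr2 : r ≠ 2 := by
        rintro rfl
        exact hev hrx
      set y := x ^ (orderOf x / r) with hy
      have hyo : orderOf y = r := orderOf_pow_orderOf_div hne hrx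
      have hyr : y ^ r = 1 := by rw [← hyo, pow_orderOf_eq_one]
      have hy1 : y ≠ 1 := by
        intro h
        rw [h, orderOf_one] at hyo
        exact hr.one_lt.ne hyo
      have hcomm : x * y = y * x := (Commute.pow_right (Commute.refl x) _).eq
      have hCT : ¬ D.CT y := by
        intro h
        have h1 : orderOf y ∣ 2 := orderOf_dvd_of_pow_eq_one (by rw [pow_two, D.CT_sq h])
        rw [hyo] at h1
        exact hr2 ((Nat.prime_dvd_prime_iff_eq hr Nat.prime_two).1 h1)
      have hfix : r ∣ D.q ∨ r ∣ D.q - 1 → False := by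
        intro h
        obtain ⟨α, hα⟩ := D.exists_fix_of_prime hr hyr (D.odd_prime_not_dvd_cube hr hr2 h)
        exact hx α (D.fix_of_comm_odd hy1 hCT hcomm hodd hα)
      rcases D.prime_dvd_Q1 hr hrQ with h | h | h
      · exact absurd (Or.inl h) (fun h' => hfix h')
      · exact absurd (Or.inr h) (fun h' => hfix h')
      · have hrn := D.prime_dvd_n0_of hr hr2 h
        obtain ⟨n, -, hn⟩ := D.cent_of_prime hm hr hrn hyo
        apply hA n
        have : x ∈ Subgroup.centralizer {y} := Subgroup.mem_centralizer_singleton_iff.2 hcomm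
        rw [hn, mem_map_conj] at this
        exact this

theorem Aset_not_X {x : G} (hx : x ∈ D.Aset) : ¬ D.IsX x := by
  obtain ⟨g, s, hs, rfl⟩ := hx
  intro h
  have h1 := h.conj g
  have e : g⁻¹ * (g * s * g⁻¹) * g = s := by group
  rw [e] at h1
  have h2 := orderOf_dvd_of_pow_eq_one (D.A0_exp hs.1)
  have h3 : 2 * D.n0 ∣ D.Q1 := by
    have h4 : 2 * D.n0 ∣ D.q + 1 := ⟨2, by rw [← D.four_n0]; ring⟩
    exact h4.trans D.q_add_dvd_Q1
  have h5 := Nat.eq_one_of_dvd_coprimes h1.2 (dvd_refl _) (h2.trans h3)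
  exact h1.1 (orderOf_eq_one_iff.1 h5)

/-- The number of elements of the small tori. -/
theorem three_X (hm : 1 ≤ D.m) :
    3 * Nat.card {x : G // D.IsX x} * D.Dd = Nat.card G * (D.q * (D.q - 2)) := by
  classical
  have h1 := D.two_fpf hm
  have h2 := D.card_Aset hm
  rw [D.card_invSet hm] at h1
  have hun : {x : G | D.Fpf x} = {x : G | D.IsX x} ∪ D.Aset := by
    ext x
    constructor
    · exact D.fpf_cases hm
    · rintro (h | h)
      · exact h.free
      · exact D.Aset_fpf h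
  have hdis : Disjoint {x : G | D.IsX x} D.Aset := by
    rw [Set.disjoint_left]
    intro x h3 h4
    exact D.Aset_not_X h4 h3
  have h3 := Set.ncard_union_eq hdis (Set.toFinite _) (Set.toFinite _)
  rw [← hun, ← Nat.card_coe_set_eq, ← Nat.card_coe_set_eq, ← Nat.card_coe_set_eq] at h3
  have h3' : Nat.card {x : G // D.Fpf x} = Nat.card {x : G // D.IsX x} + Nat.card D.Aset := h3
  rw [h3'] at h1
  set X := Nat.card {x : G // D.IsX x}
  set A := Nat.card D.Aset
  have hG := D.card_G'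
  rw [hG] at h1 h2 ⊢
  have hDd := D.Dd_add
  have hcube := D.cube_eq
  have hq27 := D.q_ge' hm
  set q := D.q with hq
  set Dd := D.Dd with hDdef
  have hzD : (Dd : ℤ) = (q : ℤ) ^ 2 - q + 1 := by
    have : ((Dd + q : ℕ) : ℤ) = ((q ^ 2 + 1 : ℕ) : ℤ) := by rw [hDd]
    push_cast at this
    linarith
  have hq1 : 1 ≤ q := by omega
  have hq2 : 2 ≤ q := by omega
  have hq3' : 3 ≤ q := by omega
  have hq3 : 1 ≤ q ^ 3 := Nat.one_le_pow _ _ (by omega)
  have z1 : (2 * ((X : ℤ) + A) + (q : ℤ) ^ 2 * Dd * ((q : ℤ) * ((q : ℤ) - 1)) + (q : ℤ) ^ 3 * ((q : ℤ) ^ 3 - 1)) =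
      (q : ℤ) ^ 3 * ((q : ℤ) - 1) * ((q : ℤ) ^ 3 + 1) := by
    have := congrArg (fun n : ℕ => (n : ℤ)) h1
    beta_reduce at this
    push_cast [Nat.cast_sub hq1, Nat.cast_sub hq3] at this
    linarith
  have z2 : (A : ℤ) * (6 * ((q : ℤ) + 1)) = (q : ℤ) ^ 3 * ((q : ℤ) - 1) * ((q : ℤ) ^ 3 + 1) * ((q : ℤ) - 3) := by
    have := congrArg (fun n : ℕ => (n : ℤ)) h2
    beta_reduce at this
    push_cast [Nat.cast_sub hq1, Nat.cast_sub hq3'] at this
    linarith
  have hpos : ((q : ℤ) + 1) ≠ 0 := by positivity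
  have z3 : (A : ℤ) * 6 = (q : ℤ) ^ 3 * ((q : ℤ) - 1) * ((q : ℤ) ^ 2 - q + 1) * ((q : ℤ) - 3) := by
    apply mul_right_cancel₀ hpos
    linear_combination z2
  have z4 : 6 * (X : ℤ) = 2 * (q : ℤ) ^ 4 * ((q : ℤ) - 1) * ((q : ℤ) + 1) * ((q : ℤ) - 2) := by
    rw [hzD] at z1
    linear_combination 3 * z1 - z3
  have goal : (3 * (X : ℤ) * Dd) * 2 = ((q : ℤ) ^ 3 * ((q : ℤ) - 1) * ((q : ℤ) ^ 3 + 1) * ((q : ℤ) * ((q : ℤ) - 2))) * 2 := by
    rw [hzD]
    linear_combination ((q : ℤ) ^ 2 - q + 1) * z4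
  have goal2 : (3 * (X : ℤ) * Dd) = ((q : ℤ) ^ 3 * ((q : ℤ) - 1) * ((q : ℤ) ^ 3 + 1) * ((q : ℤ) * ((q : ℤ) - 2))) :=
    mul_right_cancel₀ (by norm_num) goal
  zify [hq1, hq2]
  exact goal2

end

end Dat

end Cfsg.Agent.Lib.Ree.Abs
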