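import Mathlib

/-! The arithmetic at the heart of the count of the tori of the Ree groups. -/

set_option autoImplicit false
set_option linter.unusedSectionVars false
set_option linter.deprecated false
set_option linter.unusedSimpArgs false

namespace Cfsg.Agent.Lib.Ree.Arith

open scoped BigOperators

theorem q_mod_five (m : ℕ) : 3 ^ (2 * m + 1) % 5 = 2 ∨ 3 ^ (2 * m + 1) % 5 = 3 := by
  induction m with
  | zero => norm_num
  | succ n ih =>
    have : 3 ^ (2 * (n + 1) + 1) = 9 * 3 ^ (2 * n + 1) := by ring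
    rw [this]
    omega

theorem q_mod_eight (m : ℕ) : 3 ^ (2 * m + 1) % 8 = 3 := by
  induction m with
  | zero => norm_num
  | succ n ih =>
    have : 3 ^ (2 * (n + 1) + 1) = 9 * 3 ^ (2 * n + 1) := by ring
    rw [this]
    omega

theorem q_mod_three (m : ℕ) : 3 ^ (2 * m + 1) % 3 = 0 := by
  rw [pow_succ]
  omega

section

variable {m q Dd : ℕ} (hq : q = 3 ^ (2 * m + 1)) (hDd : Dd + q = q ^ 2 + 1)
include hq hDd

theorem Dd_mod_two : Dd % 2 = 1 := by
  have h1 := q_mod_eight m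
  rw [← hq] at h1
  have h2 : q ^ 2 % 2 = 1 := by
    rw [Nat.pow_mod]
    have : q % 2 = 1 := by omega
    rw [this]
  omega

theorem Dd_mod_three : Dd % 3 = 1 := by
  have h1 := q_mod_three m
  rw [← hq] at h1
  have h2 : q ^ 2 % 3 = 0 := by
    rw [Nat.pow_mod, h1]
  omega

theorem Dd_mod_five : Dd % 5 ≠ 0 := by
  have h1 := q_mod_five m
  rw [← hq] at h1
  have h2 : q ^ 2 % 5 = (q % 5) ^ 2 % 5 := by
    rw [Nat.pow_mod]
  rcases h1 with h1 | h1 <;> rw [h1] at h2 <;> norm_num at h2 <;> omega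

/-- An element `a > 1` dividing `q² - q + 1` is at least `7`. -/
theorem seven_le_of_dvd {a : ℕ} (hd : a ∣ Dd) (ha : 1 < a) : 7 ≤ a := by
  have h2 := Dd_mod_two hq hDd
  have h3 := Dd_mod_three hq hDd
  have h5 := Dd_mod_five hq hDd
  by_contra hcon
  have : a = 2 ∨ a = 3 ∨ a = 4 ∨ a = 5 ∨ a = 6 := by omega
  obtain ⟨k, rfl⟩ := hd
  rcases this with rfl | rfl | rfl | rfl | rfl <;> omega

theorem coprime_Dd (hq2 : 2 ≤ q) : Nat.Coprime Dd (2 * (q + 1)) := by
  apply Nat.Coprime.mul_right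
  · rw [Nat.coprime_two_right]
    exact Nat.odd_iff.2 (Dd_mod_two hq hDd)
  · have e : Dd = (q + 1) * (q - 2) + 3 := by
      obtain ⟨k, rfl⟩ : ∃ k, q = k + 2 := ⟨q - 2, by omega⟩
      simp only [Nat.add_sub_cancel]
      have : (k + 2) ^ 2 + 1 = (k + 2 + 1) * k + 3 + (k + 2) := by ring
      omega
    set g := Nat.gcd Dd (q + 1) with hg
    have h1 : g ∣ Dd := Nat.gcd_dvd_left _ _
    have h2 : g ∣ q + 1 := Nat.gcd_dvd_right _ _
    have h3 : g ∣ 3 := by
      have h4 : g ∣ (q + 1) * (q - 2) := Dvd.dvd.mul_right h2 _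
      rw [e] at h1
      exact (Nat.dvd_add_right h4).1 h1
    rcases (Nat.dvd_prime Nat.prime_three).1 h3 with h5 | h5
    · exact h5
    · exfalso
      rw [h5] at h1
      have h6 := Dd_mod_three hq hDd
      omega

end

/-- Solving the quadratic equation. -/
theorem solve_quad (m q Dd ax ay : ℕ) (hq : q = 3 ^ (2 * m + 1)) (hDd : Dd + q = q ^ 2 + 1)
    (hprod : ax * ay = Dd) (hsum : ax + ay = 2 * (q + 1)) :
    (ax = q + 3 ^ (m + 1) + 1 ∧ ay = q - 3 ^ (m + 1) + 1) ∨
      (ay = q + 3 ^ (m + 1) + 1 ∧ ax = q - 3 ^ (m + 1) + 1) := by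
  obtain ⟨r, hr⟩ : ∃ r, r = 3 ^ (m + 1) := ⟨_, rfl⟩
  rw [← hr]
  have hr2 : r ^ 2 = 3 * q := by
    rw [hr, hq]
    ring
  have hrq : r ≤ q := by
    have h1 : 3 ^ (m + 1) ≤ 3 ^ (2 * m + 1) := Nat.pow_le_pow_right (by norm_num) (by omega)
    rw [hr, hq]
    exact h1
  have e0 : (ax : ℤ) + ay = 2 * ((q : ℤ) + 1) := by
    have : ((ax + ay : ℕ) : ℤ) = ((2 * (q + 1) : ℕ) : ℤ) := by rw [hsum]
    push_cast at this
    linarith
  have eD : (Dd : ℤ) = (q : ℤ) ^ 2 + 1 - q := by
    have : ((Dd + q : ℕ) : ℤ) = ((q ^ 2 + 1 : ℕ) : ℤ) := by rw [hDd]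
    push_cast at this
    linarith
  have e2 : (ax : ℤ) * ay = (q : ℤ) ^ 2 + 1 - q := by
    have : ((ax * ay : ℕ) : ℤ) = ((Dd : ℕ) : ℤ) := by rw [hprod]
    push_cast at this
    linarith
  have e3 : (r : ℤ) ^ 2 = 3 * (q : ℤ) := by
    have : ((r ^ 2 : ℕ) : ℤ) = ((3 * q : ℕ) : ℤ) := by rw [hr2]
    push_cast at this
    linarith
  have e1 : (ay : ℤ) = 2 * ((q : ℤ) + 1) - ax := by linarith
  have hx2 : ((ax : ℤ) - ((q : ℤ) + 1)) ^ 2 = (r : ℤ) ^ 2 := by
    rw [e1] at e2
    rw [e3]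
    linarith
  have hsubz : ((q - r : ℕ) : ℤ) = (q : ℤ) - r := by
    rw [Nat.cast_sub hrq]
  rcases sq_eq_sq_iff_eq_or_eq_neg.mp hx2 with h3 | h3
  · left
    constructor
    · zify
      linarith
    · zify
      rw [hsubz]
      linarith
  · right
    constructor
    · zify
      linarith
    · zify
      rw [hsubz]
      linarith

set_option maxHeartbeats 1500000 in
/-- The main arithmetic statement. -/
theorem arith {Ω : Type*} [Fintype Ω] {m : ℕ} (hm : 1 ≤ m) (a e o : Ω → ℕ) (q Dd G : ℕ)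
    (hq : q = 3 ^ (2 * m + 1)) (hDd : Dd + q = q ^ 2 + 1) (hG : G = q ^ 3 * (q - 1) * (q ^ 3 + 1))
    (hdvd : ∀ ω, a ω ∣ Dd) (ha1 : ∀ ω, 1 < a ω)
    (he : ∀ ω, e ω = 1 ∨ e ω = 2 ∨ e ω = 3 ∨ e ω = 4 ∨ e ω = 6)
    (ho : ∀ ω, o ω * (a ω * e ω) = G)
    (X : ℕ) (hX : X = ∑ ω, o ω * (a ω - 1)) (h3X : 3 * X * Dd = G * (q * (q - 2)))
    (hcop : ∀ ω ω', ω ≠ ω' → Nat.Coprime (a ω) (a ω')) :
    ∃ ω₁ ω₂, ω₁ ≠ ω₂ ∧ (∀ ω, ω = ω₁ ∨ ω = ω₂) ∧ e ω₁ = 6 ∧ e ω₂ = 6 ∧
      a ω₁ = q + 3 ^ (m + 1) + 1 ∧ a ω₂ = q - 3 ^ (m + 1) + 1 := by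
  classical
  have hq27 : 27 ≤ q := by
    rw [hq]
    calc 27 = 3 ^ 3 := by norm_num
      _ ≤ 3 ^ (2 * m + 1) := Nat.pow_le_pow_right (by norm_num) (by omega)
  have ha7 : ∀ ω, 7 ≤ a ω := fun ω => seven_le_of_dvd hq hDd (hdvd ω) (ha1 ω)
  have he0 : ∀ ω, 0 < e ω := by
    intro ω
    rcases he ω with h | h | h | h | h <;> omega
  have hq1 : 1 ≤ q := by omega
  have hq2 : 2 ≤ q := by omega
  -- rational quantities
  set Q : ℚ := (q : ℚ) with hQ
  have hQ27 : (27 : ℚ) ≤ Q := by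
    rw [hQ]
    exact_mod_cast hq27
  set D : ℚ := Q ^ 2 - Q + 1 with hD
  have hDq : (Dd : ℚ) = D := by
    have : ((Dd + q : ℕ) : ℚ) = ((q ^ 2 + 1 : ℕ) : ℚ) := by rw [hDd]
    push_cast at this
    rw [hD, ← hQ] at *
    linarith
  have hDpos : 0 < D := by
    rw [hD]
    nlinarith
  set t : Ω → ℚ := fun ω => ((a ω : ℚ) - 1) / ((a ω : ℚ) * (e ω : ℚ)) with ht
  set GG : ℚ := Q ^ 3 * (Q - 1) * (Q ^ 3 + 1) with hGG
  have hGq : (G : ℚ) = GG := by
    rw [hG]
    push_cast [Nat.cast_sub hq1]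
    rfl
  have hGGpos : 0 < GG := by
    apply mul_pos (mul_pos (by positivity) (by linarith))
    positivity
  have hoq : ∀ ω, (o ω : ℚ) * ((a ω : ℚ) - 1) = GG * t ω := by
    intro ω
    have h2 : (o ω : ℚ) * ((a ω : ℚ) * (e ω : ℚ)) = GG := by
      have := congrArg (fun n : ℕ => (n : ℚ)) (ho ω)
      beta_reduce at this
      push_cast at this
      rw [this, hGq]
    have hapos : (0 : ℚ) < a ω := by
      have := ha7 ω
      exact_mod_cast (by omega : 0 < a ω)
    have hepos : (0 : ℚ) < e ω := by exact_mod_cast he0 ω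
    rw [ht, ← h2]
    simp only
    field_simp
  have hXq : (X : ℚ) = GG * ∑ ω, t ω := by
    rw [hX, Finset.mul_sum]
    push_cast
    apply Finset.sum_congr rfl
    intro ω _
    rw [Nat.cast_sub (by have := ha7 ω; omega)]
    push_cast
    exact hoq ω
  have h3Xq : 3 * (X : ℚ) * D = GG * (Q * (Q - 2)) := by
    have := congrArg (fun n : ℕ => (n : ℚ)) h3X
    beta_reduce at this
    push_cast [Nat.cast_sub hq2] at this
    rw [hDq, hGq] at this
    exact this
  -- the value of the sum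
  have hsum : ∑ ω, t ω = 1 / 3 - (Q + 1) / (3 * D) := by
    rw [hXq] at h3Xq
    have h4 : (3 * D) * (∑ ω, t ω) = Q * (Q - 2) := by
      have h5 : GG * ((3 * D) * (∑ ω, t ω)) = GG * (Q * (Q - 2)) := by linarith
      exact mul_left_cancel₀ hGGpos.ne' h5
    have h6 : 3 * D ≠ 0 := by positivity
    rw [eq_sub_iff_add_eq, ← sub_eq_zero]
    have h7 : (∑ ω, t ω) + (Q + 1) / (3 * D) - 1 / 3 = ((3 * D) * (∑ ω, t ω) - Q * (Q - 2)) / (3 * D) := by
      field_simp
      rw [hD]
      ring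
    rw [h7, h4, sub_self, zero_div]
  have hsmall : (Q + 1) / (3 * D) ≤ 1 / 75 := by
    rw [div_le_div_iff₀ (by positivity) (by norm_num)]
    rw [hD]
    nlinarith
  have hsmallpos : 0 < (Q + 1) / (3 * D) := by positivity
  -- lower bounds on the terms
  have hta : ∀ ω, ((a ω : ℚ) - 1) / (a ω : ℚ) ≥ 6 / 7 := by
    intro ω
    have h5 : (7 : ℚ) ≤ a ω := by exact_mod_cast ha7 ω
    rw [ge_iff_le, div_le_div_iff₀ (by norm_num) (by linarith)]
    linarith
  have htform : ∀ ω, t ω = (((a ω : ℚ) - 1) / (a ω : ℚ)) / (e ω : ℚ) := by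
    intro ω
    rw [ht]
    simp only
    rw [div_div]
  have hta1 : ∀ ω, ((a ω : ℚ) - 1) / (a ω : ℚ) < 1 := by
    intro ω
    have h5 : (0 : ℚ) < a ω := by
      have := ha7 ω
      exact_mod_cast (by omega : 0 < a ω)
    rw [div_lt_one h5]
    linarith
  have ht7 : ∀ ω, t ω ≥ 1 / 7 := by
    intro ω
    rw [htform]
    have := hta ω
    rcases he ω with h | h | h | h | h <;> rw [h] <;> norm_num <;> linarith
  have htlow : ∀ ω, e ω ≠ 6 → t ω ≥ 3 / 14 := by
    intro ω h6
    rw [htform]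
    have := hta ω
    rcases he ω with h | h | h | h | h
    · rw [h]; norm_num; linarith
    · rw [h]; norm_num; linarith
    · rw [h]; norm_num; linarith
    · rw [h]; norm_num; linarith
    · exact absurd h h6
  have hthigh : ∀ ω, e ω = 4 ∨ e ω = 6 → t ω < 1 / 4 := by
    intro ω h
    rw [htform]
    have := hta1 ω
    rcases h with h | h <;> rw [h] <;> norm_num <;> linarith
  have ht12 : ∀ ω, e ω = 1 ∨ e ω = 2 → t ω ≥ 3 / 7 := by
    intro ω h
    rw [htform]
    have := hta ω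
    rcases h with h | h <;> rw [h] <;> norm_num <;> linarith
  -- at most two classes
  have hcard : Fintype.card Ω ≤ 2 := by
    have h1 : (Finset.univ : Finset Ω).card • (1 / 7 : ℚ) ≤ ∑ ω, t ω :=
      Finset.card_nsmul_le_sum _ _ _ (fun ω _ => ht7 ω)
    rw [hsum, Finset.card_univ, nsmul_eq_mul] at h1
    by_contra hcon
    have h3 : (3 : ℚ) ≤ Fintype.card Ω := by
      exact_mod_cast (by omega : 3 ≤ Fintype.card Ω)
    nlinarith
  have hcases : Fintype.card Ω = 0 ∨ Fintype.card Ω = 1 ∨ Fintype.card Ω = 2 := by omega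
  rcases hcases with h0 | h1 | h2
  · exfalso
    rw [Fintype.card_eq_zero_iff] at h0
    rw [Fintype.sum_empty] at hsum
    linarith
  · exfalso
    obtain ⟨x, hx⟩ := Fintype.card_eq_one_iff.mp h1
    have h3 : ∑ ω, t ω = t x := by
      apply Fintype.sum_eq_single
      intro ω hω
      exact absurd (hx ω) hω
    rw [h3] at hsum
    rcases he x with h | h | h | h | h
    · have := ht12 x (Or.inl h)
      linarith
    · have := ht12 x (Or.inr h)
      linarith
    · -- the interesting case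
      have hax : (0 : ℚ) < a x := by
        have := ha7 x
        exact_mod_cast (by omega : 0 < a x)
      have h4 : (a x : ℚ) * (Q + 1) = D := by
        have h5 : ((a x : ℚ) - 1) / ((a x : ℚ) * 3) = 1 / 3 - (Q + 1) / (3 * D) := by
          rw [← hsum, ht]
          simp only
          rw [h]
          norm_num
        field_simp at h5
        linarith
      have h6 : a x * (q + 1) = Dd := by
        have : ((a x * (q + 1) : ℕ) : ℚ) = ((Dd : ℕ) : ℚ) := by
          push_cast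
          rw [← hQ, hDq]
          linarith
        exact_mod_cast this
      have h7 := coprime_Dd hq hDd hq2
      have h8 : q + 1 ∣ Dd := ⟨a x, by rw [← h6]; ring⟩
      have h9 : q + 1 ∣ Nat.gcd Dd (2 * (q + 1)) := Nat.dvd_gcd h8 (Dvd.intro_left 2 rfl)
      rw [h7] at h9
      have := Nat.le_of_dvd (by norm_num) h9
      omega
    · have := hthigh x (Or.inl h)
      linarith
    · have := hthigh x (Or.inr h)
      linarith
  · obtain ⟨x, y, hxy, huniv⟩ := Finset.card_eq_two.mp (by rw [Finset.card_univ]; exact h2 :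
        (Finset.univ : Finset Ω).card = 2)
    have hall : ∀ ω, ω = x ∨ ω = y := by
      intro ω
      have := Finset.mem_univ ω
      rw [huniv] at this
      simpa using this
    have hsum2 : ∑ ω, t ω = t x + t y := by
      rw [← Finset.sum_pair hxy]
      apply Finset.sum_congr _ (fun _ _ => rfl)
      ext ω
      simp [hall ω]
    rw [hsum2] at hsum
    have hex : e x = 6 := by
      by_contra hne
      have := htlow x hne
      have := ht7 y
      linarith
    have hey : e y = 6 := by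
      by_contra hne
      have := htlow y hne
      have := ht7 x
      linarith
    have hax : (0 : ℚ) < a x := by
      have := ha7 x
      exact_mod_cast (by omega : 0 < a x)
    have hay : (0 : ℚ) < a y := by
      have := ha7 y
      exact_mod_cast (by omega : 0 < a y)
    have hq' : ((a x : ℚ) + a y) * D = 2 * (Q + 1) * ((a x : ℚ) * a y) := by
      rw [ht] at hsum
      simp only at hsum
      rw [hex, hey] at hsum
      push_cast at hsum
      field_simp at hsum
      linarith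
    have hnat : (a x + a y) * Dd = 2 * (q + 1) * (a x * a y) := by
      have : (((a x + a y) * Dd : ℕ) : ℚ) = ((2 * (q + 1) * (a x * a y) : ℕ) : ℚ) := by
        push_cast
        rw [← hQ, hDq]
        linarith
      exact_mod_cast this
    have hco := hcop x y hxy
    have hdv1 : a x * a y ∣ Dd := Nat.Coprime.mul_dvd_of_dvd_of_dvd hco (hdvd x) (hdvd y)
    have hcoD := coprime_Dd hq hDd hq2
    have hdv2 : Dd ∣ a x * a y := by
      apply hcoD.dvd_of_dvd_mul_left
      exact ⟨a x + a y, by rw [← hnat]; ring⟩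
    have hprod : a x * a y = Dd := Nat.dvd_antisymm hdv1 hdv2
    have hDdpos : 0 < Dd := by
      have := hDpos
      rw [← hDq] at this
      exact_mod_cast this
    have hsumxy : a x + a y = 2 * (q + 1) := by
      rw [hprod] at hnat
      exact Nat.eq_of_mul_eq_mul_right hDdpos hnat
    rcases solve_quad m q Dd (a x) (a y) hq hDd hprod hsumxy with ⟨h3, h4⟩ | ⟨h3, h4⟩
    · exact ⟨x, y, hxy, hall, hex, hey, h3, h4⟩
    · exact ⟨y, x, hxy.symm, fun ω => (hall ω).symm, hey, hex, h3, h4⟩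

end Cfsg.Agent.Lib.Ree.Arith
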