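import Cfsg.Agent.Lib.Ree.Abs18
import Cfsg.Agent.Lib.Ree.Arith

/-!
# The abstract Ree group: classification of the tori of order dividing `q² - q + 1`
-/

set_option autoImplicit false
set_option linter.unusedSectionVars false
set_option linter.unusedSimpArgs false
set_option linter.unnecessarySeqFocus false

namespace Cfsg.Agent.Lib.Ree.Abs

open Matrix Cfsg.Agent.Lib.Ree.Sigma Cfsg.Agent.Lib.Ree.Words Cfsg.Agent.Lib.Ree.Psi
open scoped MatrixGroups Pointwise BigOperators

theorem sum_orbits {Γ X R : Type*} [_root_.Group Γ] [MulAction Γ X] [Fintype X]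
    [Fintype (MulAction.orbitRel.Quotient Γ X)] [AddCommMonoid R] (f : X → R)
    (hf : ∀ (x : Γ) (a : X), f (x • a) = f a) :
    (∑ a, f a) = ∑ ω : MulAction.orbitRel.Quotient Γ X,
      (Nat.card (MulAction.orbit Γ (Quotient.out ω))) • f (Quotient.out ω) := by
  classical
  have hmem : ∀ (ω : MulAction.orbitRel.Quotient Γ X) (a : X),
      a ∈ Finset.univ.filter (fun a : X => (Quotient.mk _ a : MulAction.orbitRel.Quotient Γ X) = ω) ↔
        a ∈ MulAction.orbit Γ (Quotient.out ω) := by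
    intro ω a
    rw [Finset.mem_filter, ← MulAction.orbitRel_apply]
    constructor
    · rintro ⟨-, h1⟩
      exact Quotient.exact (h1.trans (Quotient.out_eq ω).symm)
    · intro h1
      exact ⟨Finset.mem_univ _, (Quotient.sound h1).trans (Quotient.out_eq ω)⟩
  have hfib : ∀ ω : MulAction.orbitRel.Quotient Γ X,
      ∑ a ∈ Finset.univ.filter (fun a : X => (Quotient.mk _ a : MulAction.orbitRel.Quotient Γ X) = ω), f a =
        (Nat.card (MulAction.orbit Γ (Quotient.out ω))) • f (Quotient.out ω) := by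
    intro ω
    have hconst : ∀ a ∈ Finset.univ.filter (fun a : X => (Quotient.mk _ a : MulAction.orbitRel.Quotient Γ X) = ω),
        f a = f (Quotient.out ω) := by
      intro a ha
      obtain ⟨x, rfl⟩ := (hmem ω a).mp ha
      exact hf x _
    rw [Finset.sum_congr rfl hconst, Finset.sum_const]
    congr 1
    exact (Nat.subtype_card _ (hmem ω)).symm
  rw [← Finset.sum_fiberwise (s := Finset.univ) (g := fun a : X => (Quotient.mk _ a : MulAction.orbitRel.Quotient Γ X))]
  exact Finset.sum_congr rfl (fun ω _ => hfib ω)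

theorem card_ne_one {H : Type*} [_root_.Group H] [Finite H] :
    Nat.card {y : H // y ≠ 1} = Nat.card H - 1 := by
  classical
  have : Fintype H := Fintype.ofFinite H
  rw [Nat.card_eq_fintype_card, Nat.card_eq_fintype_card, Fintype.card_subtype_compl]
  simp

namespace Dat

variable {K G : Type*} [Field K] [Fintype K] [CharP K 3] [_root_.Group G] (D : Dat K G)

/-- The type of tori of the third kind. -/
def Tor : Type _ := {A : Subgroup G // ∃ x, D.IsX x ∧ A = Subgroup.centralizer {x}}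

instance : MulAction G D.Tor where
  smul x A := ⟨A.1.map (MulAut.conj x).toMonoidHom, by
    obtain ⟨g, hg, hA⟩ := A.2
    refine ⟨x * g * x⁻¹, ?_, ?_⟩
    · have := hg.conj x⁻¹
      rwa [inv_inv] at this
    · rw [hA, cent_conj]⟩
  one_smul A := by
    apply Subtype.ext
    change A.1.map (MulAut.conj (1 : G)).toMonoidHom = A.1
    ext y
    simp
  mul_smul x y A := by
    apply Subtype.ext
    change A.1.map (MulAut.conj (x * y)).toMonoidHom =
      (A.1.map (MulAut.conj y).toMonoidHom).map (MulAut.conj x).toMonoidHom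
    rw [Subgroup.map_map]
    congr 1
    ext z
    simp [MulAut.conj_apply]

theorem coe_smul (x : G) (A : D.Tor) :
    ((x • A : D.Tor).1 : Subgroup G) = A.1.map (MulAut.conj x).toMonoidHom := rfl

theorem mem_stabilizer_iff_normalizer (x : G) (A : D.Tor) :
    x ∈ MulAction.stabilizer G A ↔ x ∈ Subgroup.normalizer ((A.1 : Subgroup G) : Set G) := by
  rw [MulAction.mem_stabilizer_iff, Subgroup.mem_normalizer_iff_map_conj_eq]
  constructor
  · intro hx
    exact congrArg Subtype.val hx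
  · intro hx
    exact Subtype.ext hx

theorem card_smul (x : G) (A : D.Tor) : Nat.card (x • A : D.Tor).1 = Nat.card A.1 := by
  rw [coe_smul]
  exact card_map_conj A.1 x

theorem stabilizer_eq (A : D.Tor) : MulAction.stabilizer G A =
    Subgroup.normalizer ((A.1 : Subgroup G) : Set G) := by
  ext x
  exact D.mem_stabilizer_iff_normalizer x A

section

variable [Finite G]

instance : Finite D.Tor := by
  have : Finite (Subgroup G) := inferInstance
  exact Subtype.finite

variable (hm : 1 ≤ D.m)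
include hm

/-- The count of elements via tori. -/
theorem X_eq_sum [Fintype D.Tor] :
    Nat.card {x : G // D.IsX x} = ∑ A : D.Tor, (Nat.card A.1 - 1) := by
  classical
  have : Fintype {g : G // D.IsX g} := Fintype.ofFinite _
  let c : {g : G // D.IsX g} → D.Tor := fun g => ⟨Subgroup.centralizer {g.1}, g.1, g.2, rfl⟩
  have hself : ∀ g : G, g ∈ Subgroup.centralizer {g} := fun g => Subgroup.mem_centralizer_singleton_iff.2 rfl
  have hfib : ∀ A : D.Tor, Nat.card {g : {g : G // D.IsX g} // c g = A} = Nat.card A.1 - 1 := by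
    rintro ⟨A, g₀, hg₀, rfl⟩
    have e : {g : {g : G // D.IsX g} // c g = ⟨Subgroup.centralizer {g₀}, g₀, hg₀, rfl⟩} ≃
        {y : Subgroup.centralizer {g₀} // y ≠ 1} :=
      { toFun := fun g => ⟨⟨g.1.1, by
            have h1 : Subgroup.centralizer {g.1.1} = Subgroup.centralizer {g₀} := congrArg Subtype.val g.2
            have h2 := hself g.1.1
            rwa [h1] at h2⟩, fun hc => g.1.2.1 (congrArg Subtype.val hc)⟩
        invFun := fun y => ⟨⟨y.1.1, hg₀.of_mem hm y.1.2 (fun hc => y.2 (Subtype.ext hc))⟩, by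
            apply Subtype.ext
            exact hg₀.cent_eq hm y.1.2 (fun hc => y.2 (Subtype.ext hc))⟩
        left_inv := fun g => by
          apply Subtype.ext
          apply Subtype.ext
          rfl
        right_inv := fun y => by
          apply Subtype.ext
          apply Subtype.ext
          rfl }
    rw [Nat.card_congr e]
    exact card_ne_one
  have hsig := Nat.card_congr (Equiv.sigmaFiberEquiv c).symm
  rw [Nat.card_sigma] at hsig
  rw [hsig]
  exact Finset.sum_congr rfl (fun A _ => hfib A)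

theorem five_not_dvd : ¬ 5 ∣ Nat.card G := by
  have h1 := Arith.q_mod_five D.m
  change D.q % 5 = 2 ∨ D.q % 5 = 3 at h1
  rw [D.card_G']
  have h5 : Nat.Prime 5 := by norm_num
  intro h
  rcases (Nat.Prime.dvd_mul h5).1 h with h2 | h2
  · rcases (Nat.Prime.dvd_mul h5).1 h2 with h3 | h3
    · have := h5.dvd_of_dvd_pow h3
      omega
    · have := D.q_pos
      omega
  · have h3 : (D.q ^ 3 + 1) % 5 = 0 := Nat.mod_eq_zero_of_dvd h2
    rw [Nat.add_mod, Nat.pow_mod] at h3
    rcases h1 with h1 | h1 <;> rw [h1] at h3 <;> omega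

/-- The index `e`. -/
theorem normalizer_index (A : D.Tor) :
    ∃ e : ℕ, (e = 1 ∨ e = 2 ∨ e = 3 ∨ e = 4 ∨ e = 6) ∧
      Nat.card (Subgroup.normalizer ((A.1 : Subgroup G) : Set G)) = Nat.card A.1 * e := by
  obtain ⟨g, hg, hA⟩ := A.2
  have hle : A.1 ≤ Subgroup.normalizer ((A.1 : Subgroup G) : Set G) := Subgroup.le_normalizer
  obtain ⟨e, he⟩ := Subgroup.card_dvd_of_le hle
  refine ⟨e, ?_, he⟩
  have h6 : Nat.card (Subgroup.normalizer ((A.1 : Subgroup G) : Set G)) ≤ Nat.card A.1 * 6 := by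
    obtain ⟨p, z, hp, hd, hzo, -, hez⟩ := hg.cent_prime hm
    haveI : Fact p.Prime := ⟨hp⟩
    rw [hA, hez]
    exact D.card_normalizer_prime hm hd hzo
  have hpos : 0 < Nat.card A.1 := Nat.card_pos
  have hNpos : 0 < Nat.card (Subgroup.normalizer ((A.1 : Subgroup G) : Set G)) := Nat.card_pos
  have he6 : e ≤ 6 := by
    rw [he] at h6
    exact Nat.le_of_mul_le_mul_left h6 hpos
  have he0 : e ≠ 0 := by
    rintro rfl
    rw [he] at hNpos
    simp at hNpos
  have he5 : e ≠ 5 := by
    rintro rfl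
    apply D.five_not_dvd hm
    calc 5 ∣ Nat.card (Subgroup.normalizer ((A.1 : Subgroup G) : Set G)) := ⟨Nat.card A.1, by rw [he]; ring⟩
      _ ∣ Nat.card G := Subgroup.card_subgroup_dvd_card _
  omega

/-- Tori whose orders have a common prime factor are conjugate. -/
theorem tori_conj_of_prime (A B : D.Tor) {p : ℕ} (hp : p.Prime) (hA : p ∣ Nat.card A.1)
    (hB : p ∣ Nat.card B.1) : ∃ x : G, B = x • A := by
  have : Fact p.Prime := ⟨hp⟩
  obtain ⟨z₁, hz₁⟩ := exists_prime_orderOf_dvd_card' p hA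
  obtain ⟨z₂, hz₂⟩ := exists_prime_orderOf_dvd_card' p hB
  have hz₁' : orderOf (z₁ : G) = p := by rwa [Subgroup.orderOf_coe]
  have hz₂' : orderOf (z₂ : G) = p := by rwa [Subgroup.orderOf_coe]
  obtain ⟨g₁, hg₁, hA₁⟩ := A.2
  obtain ⟨g₂, hg₂, hB₂⟩ := B.2
  have hpD : p ∣ D.Dd := by
    have h1 := hg₁.card_dvd hm
    rw [← hA₁] at h1
    exact hA.trans h1
  obtain ⟨-, -, -, hp2, hp3⟩ := D.dvd_Dd_facts hp hpD
  have hp3' : 3 < p := by
    have := hp.two_le
    omega
  -- Sylow subgroups containing them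
  have hz₁P : IsPGroup p (Subgroup.zpowers (z₁ : G)) := by
    apply IsPGroup.of_card (n := 1)
    rw [Nat.card_zpowers, hz₁', pow_one]
  have hz₂P : IsPGroup p (Subgroup.zpowers (z₂ : G)) := by
    apply IsPGroup.of_card (n := 1)
    rw [Nat.card_zpowers, hz₂', pow_one]
  obtain ⟨P₁, hP₁⟩ := hz₁P.exists_le_sylow
  obtain ⟨P₂, hP₂⟩ := hz₂P.exists_le_sylow
  obtain ⟨x, hx⟩ := MulAction.exists_smul_eq G P₁ P₂
  have hxz : x * (z₁ : G) * x⁻¹ ∈ (P₂ : Subgroup G) := by
    rw [← hx, Sylow.coe_subgroup_smul]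
    have : MulAut.conj x • (z₁ : G) ∈ MulAut.conj x • (P₁ : Subgroup G) :=
      Subgroup.smul_mem_pointwise_smul _ _ _ (hP₁ (Subgroup.mem_zpowers _))
    simpa [MulAut.smul_def, MulAut.conj_apply] using this
  have hz2P : (z₂ : G) ∈ (P₂ : Subgroup G) := hP₂ (Subgroup.mem_zpowers _)
  have hcyc : IsCyclic (P₂ : Subgroup G) := D.sylow_cyclic hm hp3' P₂
  have hord : orderOf (⟨x * (z₁ : G) * x⁻¹, hxz⟩ : (P₂ : Subgroup G)) = p := by
    rw [← Subgroup.orderOf_coe]
    change orderOf (MulAut.conj x (z₁ : G)) = p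
    rw [MulEquiv.orderOf_eq, hz₁']
  have hv : (⟨(z₂ : G), hz2P⟩ : (P₂ : Subgroup G)) ^ p = 1 := by
    apply Subtype.ext
    change (z₂ : G) ^ p = 1
    rw [← hz₂', pow_orderOf_eq_one]
  obtain ⟨k, hk⟩ := mem_zpowers_of_cyclic hp hord hv
  have hk' : (x * (z₁ : G) * x⁻¹) ^ k = (z₂ : G) := congrArg Subtype.val hk
  -- centralisers
  have hz₁ne : (z₁ : G) ≠ 1 := by
    intro hc
    rw [hc, orderOf_one] at hz₁'
    exact hp.one_lt.ne hz₁'
  have hz₂ne : (z₂ : G) ≠ 1 := by
    intro hc
    rw [hc, orderOf_one] at hz₂'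
    exact hp.one_lt.ne hz₂'
  have hz₁g : (z₁ : G) ∈ Subgroup.centralizer {g₁} := hA₁ ▸ z₁.2
  have hz₂g : (z₂ : G) ∈ Subgroup.centralizer {g₂} := hB₂ ▸ z₂.2
  have hA' : A.1 = Subgroup.centralizer {(z₁ : G)} := hA₁.trans (hg₁.cent_eq hm hz₁g hz₁ne).symm
  have hB' : B.1 = Subgroup.centralizer {(z₂ : G)} := hB₂.trans (hg₂.cent_eq hm hz₂g hz₂ne).symm
  have hXc : D.IsX (x * (z₁ : G) * x⁻¹) := by
    have := (D.isX_of_prime hp hpD hz₁').conj x⁻¹
    rwa [inv_inv] at this
  have hz₂c : (z₂ : G) ∈ Subgroup.centralizer {x * (z₁ : G) * x⁻¹} := by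
    rw [← hk']
    rw [Subgroup.mem_centralizer_singleton_iff]
    exact (Commute.zpow_left (Commute.refl _) k).eq
  have hfin : Subgroup.centralizer {(z₂ : G)} = Subgroup.centralizer {x * (z₁ : G) * x⁻¹} :=
    hXc.cent_eq hm hz₂c hz₂ne
  refine ⟨x, Subtype.ext ?_⟩
  rw [coe_smul, hB', hfin, cent_conj, ← hA']

/-- Non-conjugate tori have coprime orders. -/
theorem tori_coprime (A B : D.Tor) (hne : ¬ ∃ x : G, B = x • A) :
    Nat.Coprime (Nat.card A.1) (Nat.card B.1) := by
  apply Nat.coprime_of_dvd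
  intro p hp hA hB
  exact hne (D.tori_conj_of_prime hm A B hp hA hB)

/-- The order of the normaliser times the size of the orbit. -/
theorem tori_main : ∃ A₁ A₂ : D.Tor, (∀ A : D.Tor, (∃ x : G, A = x • A₁) ∨ (∃ x : G, A = x • A₂)) ∧
    Nat.card (Subgroup.normalizer ((A₁.1 : Subgroup G) : Set G)) = 6 * Nat.card A₁.1 ∧
    Nat.card (Subgroup.normalizer ((A₂.1 : Subgroup G) : Set G)) = 6 * Nat.card A₂.1 ∧
    Nat.card A₁.1 = D.q + 3 ^ (D.m + 1) + 1 ∧ Nat.card A₂.1 = D.q - 3 ^ (D.m + 1) + 1 := by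
  classical
  have : Fintype G := Fintype.ofFinite _
  have : Fintype D.Tor := Fintype.ofFinite _
  have : Fintype (MulAction.orbitRel.Quotient G D.Tor) := Fintype.ofFinite _
  let Ω := MulAction.orbitRel.Quotient G D.Tor
  choose e he1 he2 using fun A : D.Tor => D.normalizer_index hm A
  let a : Ω → ℕ := fun ω => Nat.card (Quotient.out ω : D.Tor).1
  let e' : Ω → ℕ := fun ω => e (Quotient.out ω)
  let o : Ω → ℕ := fun ω => Nat.card (MulAction.orbit G (Quotient.out ω : D.Tor))
  have hcardG := D.card_G'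
  obtain ⟨ω₁, ω₂, hne, hall, he₁, he₂, ha₁, ha₂⟩ := Arith.arith (Ω := Ω) hm a e' o D.q D.Dd (Nat.card G) rfl D.Dd_add hcardG
    (fun ω => by
      obtain ⟨g, hg, hA⟩ := (Quotient.out ω : D.Tor).2
      change Nat.card (Quotient.out ω : D.Tor).1 ∣ _
      rw [hA]
      exact hg.card_dvd hm)
    (fun ω => by
      obtain ⟨g, hg, hA⟩ := (Quotient.out ω : D.Tor).2
      change 1 < Nat.card (Quotient.out ω : D.Tor).1
      rw [hA]
      apply Finite.one_lt_card_iff_nontrivial.mpr
      exact ⟨⟨⟨g, Subgroup.mem_centralizer_singleton_iff.2 rfl⟩, 1, fun hc => hg.1 (congrArg Subtype.val hc)⟩⟩)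
    (fun ω => he1 _)
    (fun ω => by
      change Nat.card (MulAction.orbit G (Quotient.out ω : D.Tor)) *
        (Nat.card (Quotient.out ω : D.Tor).1 * e (Quotient.out ω)) = _
      rw [← he2, ← D.stabilizer_eq]
      have := MulAction.card_orbit_mul_card_stabilizer_eq_card_group G (Quotient.out ω : D.Tor)
      rw [← Nat.card_eq_fintype_card, ← Nat.card_eq_fintype_card, ← Nat.card_eq_fintype_card] at this
      exact this)
    (Nat.card {g : G // D.IsX g})
    (by
      rw [D.X_eq_sum hm, sum_orbits (fun A : D.Tor => Nat.card A.1 - 1)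
        (fun x A => by rw [D.card_smul])]
      simp only [smul_eq_mul, o, a]
      rfl)
    (D.three_X hm)
    (fun ω ω' hne => by
      apply D.tori_coprime hm
      rintro ⟨x, hx⟩
      apply hne
      rw [← Quotient.out_eq ω, ← Quotient.out_eq ω']
      apply Quotient.sound
      exact (MulAction.orbitRel G D.Tor).symm (MulAction.orbitRel_apply.mpr ⟨x, hx.symm⟩))
  refine ⟨Quotient.out ω₁, Quotient.out ω₂, ?_, ?_, ?_, ?_, ?_⟩
  · intro A
    have hA : (⟦A⟧ : Ω) = ω₁ ∨ (⟦A⟧ : Ω) = ω₂ := hall _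
    rcases hA with hA | hA
    · left
      have : (MulAction.orbitRel G D.Tor) A (Quotient.out ω₁) := by
        apply Quotient.exact
        rw [Quotient.out_eq, hA]
      obtain ⟨x, hx⟩ := MulAction.orbitRel_apply.mp this
      exact ⟨x, hx.symm⟩
    · right
      have : (MulAction.orbitRel G D.Tor) A (Quotient.out ω₂) := by
        apply Quotient.exact
        rw [Quotient.out_eq, hA]
      obtain ⟨x, hx⟩ := MulAction.orbitRel_apply.mp this
      exact ⟨x, hx.symm⟩
  · rw [he2]
    change _ * e' ω₁ = _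
    rw [he₁, mul_comm]
  · rw [he2]
    change _ * e' ω₂ = _
    rw [he₂, mul_comm]
  · exact ha₁
  · exact ha₂

end

end Dat

end Cfsg.Agent.Lib.Ree.Abs
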