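import Cfsg.Agent.Lib.Ree.Abs1

/-!
# The abstract Ree group: the centraliser of the torus involution
-/

set_option autoImplicit false
set_option linter.unusedSectionVars false
set_option linter.unusedSimpArgs false
set_option linter.unnecessarySeqFocus false

namespace Cfsg.Agent.Lib.Ree.Abs

open Matrix Cfsg.Agent.Lib.Ree.Sigma Cfsg.Agent.Lib.Ree.Words Cfsg.Agent.Lib.Ree.Psi
open scoped MatrixGroups

namespace Dat

variable {K G : Type*} [Field K] [Fintype K] [CharP K 3] [_root_.Group G] (D : Dat K G)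

theorem psi_up (β : K) : D.psi (up β) = D.u 0 (D.f.φ (-β)) 0 := by
  apply D.rep_inj
  apply Units.ext
  rw [D.rep_psi, D.rep_u, psiMat_up]
  simp [D.f.θφ]

theorem psi_g0 : D.psi g0 = D.w := by
  apply D.rep_inj
  apply Units.ext
  rw [D.rep_psi, D.rep_w, psiMat_g0]

/-- The torus parameter as a unit. -/
noncomputable def kapU (l : Kˣ) : Kˣ := Units.mk0 (kap D.f l) (kap_ne D.f l)

theorem psi_dg (l : Kˣ) : D.psi (dg l) = D.d (D.kapU l) := by
  apply D.rep_inj
  apply Units.ext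
  rw [D.rep_psi, D.rep_d, psiMat_dg]
  rfl

/-- The image of a unit under the twist. -/
noncomputable def phiU (ν : Kˣ) : Kˣ := Units.map (D.f.φ : K →* K) ν

theorem phiU_val (ν : Kˣ) : ((D.phiU ν : Kˣ) : K) = D.f.φ ν := rfl

theorem kapU_sq (ν : Kˣ) : D.kapU (ν * D.phiU ν) = ν ^ 2 := by
  apply Units.ext
  show kap D.f (ν * D.phiU ν) = ((ν ^ 2 : Kˣ) : K)
  have hν : (ν : K) ≠ 0 := ν.ne_zero
  have hφ : D.f.φ (ν : K) ≠ 0 := (map_ne_zero _).2 hν
  rw [kap, Units.val_mul, phiU_val, map_mul, D.f.φφ, Units.val_pow_eq_pow_val]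
  field_simp

theorem d_sq (ν : Kˣ) : D.d (ν ^ 2) = D.psi (dg (ν * D.phiU ν)) := by
  rw [psi_dg, kapU_sq]

theorem t0_comm_d (κ : Kˣ) : D.t0 * D.d κ = D.d κ * D.t0 := by
  rw [t0, ← map_mul, ← map_mul, mul_comm]

theorem t0_comm_u0 (a : K) : D.t0 * D.u 0 a 0 = D.u 0 a 0 * D.t0 := by
  have h := D.t0_conj_u 0 a 0
  have e : D.u (-0) a (-0) = D.u 0 a 0 := by simp
  rw [e] at h
  calc D.t0 * D.u 0 a 0 = (D.t0 * D.u 0 a 0 * D.t0) * D.t0 := by
        rw [mul_assoc _ D.t0 D.t0, D.t0_sq, mul_one]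
    _ = _ := by rw [h]

theorem t0_comm_psi (g : SL(2, K)) : D.t0 * D.psi g = D.psi g * D.t0 := by
  rcases sl_form g with ⟨l, c, rfl⟩ | ⟨l, c, c', rfl⟩
  · rw [map_mul, psi_up, psi_dg, ← mul_assoc, t0_comm_d, mul_assoc, t0_comm_u0, mul_assoc]
  · simp only [map_mul]
    rw [psi_up, psi_up, psi_dg, psi_g0]
    have h1 := D.t0_comm_u0 (D.f.φ (-c))
    have h2 := D.t0_comm_d (D.kapU l)
    have h3 := D.w_comm_t0
    have h4 := D.t0_comm_u0 (D.f.φ (-c'))
    calc D.t0 * (D.u 0 (D.f.φ (-c)) 0 * D.d (D.kapU l) * D.w * D.u 0 (D.f.φ (-c')) 0)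
        = (D.t0 * D.u 0 (D.f.φ (-c)) 0) * D.d (D.kapU l) * D.w * D.u 0 (D.f.φ (-c')) 0 := by group
      _ = D.u 0 (D.f.φ (-c)) 0 * (D.t0 * D.d (D.kapU l)) * D.w * D.u 0 (D.f.φ (-c')) 0 := by
          rw [h1]
          group
      _ = D.u 0 (D.f.φ (-c)) 0 * D.d (D.kapU l) * (D.t0 * D.w) * D.u 0 (D.f.φ (-c')) 0 := by
          rw [h2]
          group
      _ = D.u 0 (D.f.φ (-c)) 0 * D.d (D.kapU l) * D.w * (D.t0 * D.u 0 (D.f.φ (-c')) 0) := by
          rw [← h3]
          group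
      _ = _ := by
          rw [h4]
          group

/-- The entries of `psi` at the identity. -/
theorem eq_of_psi_eq_one {g : SL(2, K)} (h : D.psi g = 1) : g 0 1 = 0 ∧ g 1 0 = 0 ∧ g 0 0 = g 1 1 := by
  have h1 : psiMat D.f g = 1 := by
    rw [← D.rep_psi, h, map_one]
    rfl
  have e15 := congrFun (congrFun h1 1) 5
  have e51 := congrFun (congrFun h1 5) 1
  have e11 := congrFun (congrFun h1 1) 1
  have e33 := congrFun (congrFun h1 3) 3
  simp [psiMat, PsiMat] at e15 e51 e33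
  simp only [psiMat, PsiMat] at e11
  simp at e11
  rw [e15, e51] at e33
  simp at e33
  refine ⟨e15, e51, ?_⟩
  have h2 : g 0 0 * (g 0 0 * g 1 1) = g 0 0 := by rw [e33, mul_one]
  have h3 : (g 0 0) ^ 2 * g 1 1 = g 0 0 := by linear_combination h2
  have h4 : (g 0 0) ^ 2 = 1 := by
    rcases e11 with h5 | h5 <;> rw [h5] <;> ring
  rw [h4, one_mul] at h3
  exact h3.symm

theorem psi_eq_one_of {g : SL(2, K)} (h01 : g 0 1 = 0) (h10 : g 1 0 = 0) (h : g 0 0 = g 1 1) :
    D.psi g = 1 := by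
  have hd := sl_det g
  rw [h01, h10, ← h] at hd
  have h2 : (g 0 0 - 1) * (g 0 0 + 1) = 0 := by linear_combination hd
  have hφ : D.f.φ (g 0 0) = g 0 0 := by
    rcases mul_eq_zero.1 h2 with h3 | h3
    · rw [sub_eq_zero.1 h3, map_one]
    · rw [eq_neg_of_add_eq_zero_left h3, map_neg, map_one]
  apply D.rep_inj
  apply Units.ext
  rw [D.rep_psi, map_one, psiMat, h01, h10, ← h, hφ]
  have h5 : g 0 0 * g 0 0 = 1 := by linear_combination hd
  apply ext_mulVec
  intro v
  rw [PsiMat_mulVec]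
  show _ = (1 : Matrix (Fin 7) (Fin 7) K) *ᵥ v
  rw [Matrix.one_mulVec]
  funext i
  fin_cases i <;> simp <;> simp [sq, h5]

theorem psi_eq_one_iff {g : SL(2, K)} : D.psi g = 1 ↔ g 0 1 = 0 ∧ g 1 0 = 0 ∧ g 0 0 = g 1 1 :=
  ⟨D.eq_of_psi_eq_one, fun h => D.psi_eq_one_of h.1 h.2.1 h.2.2⟩

/-- The scalar `-1`. -/
noncomputable def nI : SL(2, K) := dg (-1)

theorem nI_apply : (nI : SL(2, K)) 0 0 = -1 ∧ (nI : SL(2, K)) 0 1 = 0 ∧
    (nI : SL(2, K)) 1 0 = 0 ∧ (nI : SL(2, K)) 1 1 = -1 := by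
  obtain ⟨h1, h2, h3, h4⟩ := dg_apply (-1 : Kˣ)
  refine ⟨?_, h2, h3, ?_⟩
  · rw [nI, h1]
    simp
  · rw [nI, h4]
    simp

theorem nI_mul (g : SL(2, K)) (i j : Fin 2) : (nI * g : SL(2, K)) i j = - g i j := by
  obtain ⟨h1, h2, h3, h4⟩ := nI_apply (K := K)
  rw [sl_mul_apply]
  fin_cases i <;> simp [h1, h2, h3, h4]

theorem nI_sq : (nI : SL(2, K)) * nI = 1 := by
  obtain ⟨h1, h2, h3, h4⟩ := nI_apply (K := K)
  apply sl_ext <;> rw [nI_mul] <;> simp [h1, h2, h3, h4]

theorem nI_comm (g : SL(2, K)) : nI * g = g * nI := by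
  obtain ⟨h1, h2, h3, h4⟩ := nI_apply (K := K)
  apply sl_ext <;> rw [nI_mul, sl_mul_apply] <;> simp [h1, h2, h3, h4]

theorem psi_ker {g : SL(2, K)} : D.psi g = 1 ↔ g = 1 ∨ g = nI := by
  constructor
  · intro h
    obtain ⟨h01, h10, h00⟩ := D.eq_of_psi_eq_one h
    have hd := sl_det g
    rw [h01, h10, ← h00] at hd
    have h5 : (g 0 0 - 1) * (g 0 0 + 1) = 0 := by linear_combination hd
    rcases mul_eq_zero.1 h5 with h6 | h6
    · left
      have h7 := sub_eq_zero.1 h6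
      apply sl_ext <;> simp [h01, h10, ← h00, h7]
    · right
      have h7 := eq_neg_of_add_eq_zero_left h6
      obtain ⟨h1, h2, h3, h4⟩ := nI_apply (K := K)
      apply sl_ext <;> simp [h01, h10, ← h00, h7, h1, h2, h3, h4]
  · rintro (rfl | rfl)
    · exact map_one _
    · obtain ⟨h1, h2, h3, h4⟩ := nI_apply (K := K)
      exact D.psi_eq_one_of h2 h3 (h1.trans h4.symm)

theorem psi_nI : D.psi nI = 1 := D.psi_ker.2 (Or.inr rfl)

theorem psi_eq_iff {g h : SL(2, K)} : D.psi g = D.psi h ↔ g = h ∨ g = nI * h := by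
  constructor
  · intro e
    have h1 : D.psi (g * h⁻¹) = 1 := by rw [map_mul, map_inv, e, mul_inv_cancel]
    rcases D.psi_ker.1 h1 with h2 | h2
    · left
      exact mul_inv_eq_one.1 h2
    · right
      exact mul_inv_eq_iff_eq_mul.1 h2
  · rintro (rfl | rfl)
    · rfl
    · rw [map_mul, psi_nI, one_mul]

/-- A torus element is an element of the image of `psi`, up to the involution. -/
theorem d_form (κ : Kˣ) : ∃ g, D.d κ = D.psi g ∨ D.d κ = D.t0 * D.psi g := by
  rcases D.sq_or_neg (κ : K) κ.ne_zero with ⟨r, hr⟩ | ⟨r, hr⟩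
  · have hr0 : r ≠ 0 := by
      rintro rfl
      apply κ.ne_zero
      simpa using hr
    refine ⟨dg (Units.mk0 r hr0 * D.phiU (Units.mk0 r hr0)), Or.inl ?_⟩
    rw [← d_sq]
    congr 1
    apply Units.ext
    simp [hr, sq]
  · have hr0 : r ≠ 0 := by
      rintro rfl
      apply κ.ne_zero
      have : -(κ : K) = 0 := by simpa using hr
      simpa using this
    refine ⟨dg (Units.mk0 r hr0 * D.phiU (Units.mk0 r hr0)), Or.inr ?_⟩
    rw [← d_sq, t0, ← map_mul]
    congr 1
    apply Units.ext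
    simp only [Units.val_mul, Units.val_neg, Units.val_one, Units.val_pow_eq_pow_val, Units.val_mk0]
    linear_combination -hr

/-- The unique form in the big cell. -/
theorem C_unique {t a b s c e t' a' b' s' c' e' : K} {κ l : Kˣ}
    (h : D.u t a b * D.d κ * D.w * D.u t' a' b' = D.u s c e * D.d l * D.w * D.u s' c' e') :
    t = s ∧ a = c ∧ b = e ∧ κ = l ∧ t' = s' ∧ a' = c' ∧ b' = e' := by
  obtain ⟨A, B, C, hABC⟩ : ∃ A B C, D.u t' a' b' * (D.u s' c' e')⁻¹ = D.u A B C :=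
    ⟨_, _, _, by rw [u_inv, D.u_mul]⟩
  have h1 : D.w * D.u A B C * D.w ∈ D.B := by
    have e1 : D.w * D.u A B C * D.w = ((D.u t a b * D.d κ)⁻¹ * (D.u s c e * D.d l)) := by
      rw [← hABC]
      have e2 : D.u t a b * D.d κ = (D.u s c e * D.d l) * (D.w * D.u s' c' e' * (D.u t' a' b')⁻¹ * D.w) := by
        have e3 : (D.u s c e * D.d l) * (D.w * D.u s' c' e' * (D.u t' a' b')⁻¹ * D.w) =
            (D.u s c e * D.d l * D.w * D.u s' c' e') * (D.u t' a' b')⁻¹ * D.w := by group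
        rw [e3, ← h]
        have e4 : D.u t a b * D.d κ * D.w * D.u t' a' b' * (D.u t' a' b')⁻¹ * D.w =
            D.u t a b * D.d κ * (D.w * D.w) := by group
        rw [e4, D.w_mul_w, mul_one]
      rw [e2]
      have e5 : (D.w * D.u s' c' e' * (D.u t' a' b')⁻¹ * D.w)⁻¹ = D.w * (D.u t' a' b' * (D.u s' c' e')⁻¹) * D.w := by
        simp only [_root_.mul_inv_rev, inv_inv, w_inv]
        group
      rw [_root_.mul_inv_rev, e5]
      group
    rw [e1]
    exact Subgroup.mul_mem _ (Subgroup.inv_mem _ ⟨t, a, b, κ, rfl⟩) ⟨s, c, e, l, rfl⟩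
  obtain ⟨rfl, rfl, rfl⟩ := D.wuw_mem h1
  rw [D.u_zero] at hABC
  have h2 : D.u t' a' b' = D.u s' c' e' := mul_inv_eq_one.1 hABC
  rw [h2] at h
  have h3 := mul_right_cancel (mul_right_cancel h)
  obtain ⟨rfl, rfl, rfl, rfl⟩ := D.B_unique h3
  obtain ⟨rfl, rfl, rfl⟩ := D.u_inj h2
  exact ⟨rfl, rfl, rfl, rfl, rfl, rfl, rfl⟩

include D in
theorem eq_zero_of_neg_eq {x : K} (h : -x = x) : x = 0 := by
  have h3 : (3 : K) = 0 := three_eq_zero
  have h2 : 2 * x = 0 := by linear_combination -h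
  linear_combination (-x) * h3 + h2 * 2

/-- The elements centralising the involution. -/
theorem cent_t0_form {x : G} (hx : D.t0 * x = x * D.t0) :
    ∃ g, x = D.psi g ∨ x = D.t0 * D.psi g := by
  have hu : ∀ a : K, D.u 0 a 0 = D.psi (up (-D.f.θ a)) := by
    intro a
    rw [psi_up, neg_neg, D.f.φθ]
  have hdform : ∀ (κ : Kˣ) (g : SL(2, K)), ∃ g', D.psi g * D.d κ = D.psi g' ∨ D.psi g * D.d κ = D.t0 * D.psi g' := by
    intro κ g
    obtain ⟨g₁, h | h⟩ := D.d_form κ
    · exact ⟨g * g₁, Or.inl (by rw [h, map_mul])⟩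
    · exact ⟨g * g₁, Or.inr (by rw [h, map_mul, ← mul_assoc, ← mul_assoc, ← t0_comm_psi])⟩
  rcases D.cases x with ⟨t, a, b, κ, rfl⟩ | ⟨t, a, b, κ, t', a', b', rfl⟩
  · have h1 : D.u (-t) a (-b) * D.d κ = D.u t a b * D.d κ := by
      rw [← D.t0_conj_u]
      have e1 : D.t0 * D.u t a b * D.t0 * D.d κ = (D.t0 * (D.u t a b * D.d κ)) * D.t0⁻¹ := by
        calc D.t0 * D.u t a b * D.t0 * D.d κ = D.t0 * D.u t a b * (D.t0 * D.d κ) := by group
          _ = D.t0 * D.u t a b * (D.d κ * D.t0) := by rw [D.t0_comm_d]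
          _ = _ := by
            rw [D.t0_inv]
            group
      rw [e1, hx, mul_assoc, D.t0_inv, D.t0_sq, mul_one]
    obtain ⟨h2, -, h3, -⟩ := D.B_unique h1
    obtain rfl := D.eq_zero_of_neg_eq h2
    obtain rfl := D.eq_zero_of_neg_eq h3
    rw [hu]
    exact hdform κ _
  · have h1 : D.u (-t) a (-b) * D.d κ * D.w * D.u (-t') a' (-b') = D.u t a b * D.d κ * D.w * D.u t' a' b' := by
      rw [← D.t0_conj_u, ← D.t0_conj_u]
      have e1 : D.t0 * D.u t a b * D.t0 * D.d κ * D.w * (D.t0 * D.u t' a' b' * D.t0) =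
          (D.t0 * (D.u t a b * D.d κ * D.w * D.u t' a' b')) * D.t0⁻¹ := by
        calc D.t0 * D.u t a b * D.t0 * D.d κ * D.w * (D.t0 * D.u t' a' b' * D.t0)
            = D.t0 * D.u t a b * (D.t0 * D.d κ) * D.w * (D.t0 * D.u t' a' b' * D.t0) := by group
          _ = D.t0 * D.u t a b * (D.d κ * D.t0) * D.w * (D.t0 * D.u t' a' b' * D.t0) := by rw [D.t0_comm_d]
          _ = D.t0 * D.u t a b * D.d κ * (D.t0 * D.w) * (D.t0 * D.u t' a' b' * D.t0) := by group
          _ = D.t0 * D.u t a b * D.d κ * (D.w * D.t0) * (D.t0 * D.u t' a' b' * D.t0) := by rw [D.w_comm_t0]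
          _ = D.t0 * D.u t a b * D.d κ * D.w * (D.t0 * D.t0) * D.u t' a' b' * D.t0 := by group
          _ = _ := by
            rw [D.t0_sq, D.t0_inv]
            group
      rw [e1, hx, mul_assoc, D.t0_inv, D.t0_sq, mul_one]
    obtain ⟨h2, -, h3, -, h4, -, h5⟩ := D.C_unique h1
    obtain rfl := D.eq_zero_of_neg_eq h2
    obtain rfl := D.eq_zero_of_neg_eq h3
    obtain rfl := D.eq_zero_of_neg_eq h4
    obtain rfl := D.eq_zero_of_neg_eq h5
    rw [hu, hu, ← D.psi_g0]
    obtain ⟨g, h | h⟩ := hdform κ (up (-D.f.θ a))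
    · refine ⟨g * g0 * up (-D.f.θ a'), Or.inl ?_⟩
      rw [h, map_mul, map_mul]
    · refine ⟨g * g0 * up (-D.f.θ a'), Or.inr ?_⟩
      rw [h, map_mul, map_mul]
      group

theorem t0_not_mem (g : SL(2, K)) : D.psi g ≠ D.t0 := by
  intro h
  have h1 : psiMat D.f g = ((D.rep (D.d (-1)) : GL (Fin 7) K) : Matrix (Fin 7) (Fin 7) K) := by
    rw [← D.rep_psi, h]
    rfl
  rw [D.rep_d] at h1
  have e11 := congrFun (congrFun h1 1) 1
  have e00 := congrFun (congrFun h1 0) 0
  simp only [psiMat, PsiMat, d7] at e11 e00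
  simp at e11 e00
  rcases e11 with h5 | h5 <;> rw [h5] at e00 <;> simp at e00 <;> exact D.neg_one_ne_one e00.symm

/-- The involution of a two element group. -/
def z2Hom {H : Type*} [_root_.Group H] (x : H) (hx : x * x = 1) : Multiplicative (ZMod 2) →* H :=
  MonoidHom.mk' (fun a => if a = 1 then 1 else x) (by
    have key : ∀ a : Multiplicative (ZMod 2), a = 1 ∨ a = Multiplicative.ofAdd 1 := by decide
    have h1 : (Multiplicative.ofAdd (1 : ZMod 2)) ≠ 1 := by decide
    have h2 : (Multiplicative.ofAdd (1 : ZMod 2)) * Multiplicative.ofAdd 1 = 1 := by decide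
    intro a b
    rcases key a with rfl | rfl <;> rcases key b with rfl | rfl
    · simp
    · simp [h1]
    · simp [h1]
    · rw [h2]
      simp [h1, hx])

/-- The map from `PSL₂` to the group. -/
noncomputable def psiBar : PSL(2, K) →* G :=
  QuotientGroup.lift _ D.psi (by
    intro g hg
    obtain ⟨r, hr, hg⟩ := Matrix.SpecialLinearGroup.mem_center_iff.1 hg
    have e : ∀ i j, (g : Matrix (Fin 2) (Fin 2) K) i j = Matrix.scalar (Fin 2) r i j := by
      intro i j
      rw [← hg]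
    apply D.psi_eq_one_of
    · rw [e]
      simp
    · rw [e]
      simp
    · rw [e, e]
      simp)

theorem psiBar_mk (g : SL(2, K)) : D.psiBar (QuotientGroup.mk g) = D.psi g := rfl

theorem psiBar_inj : Function.Injective D.psiBar := by
  rw [injective_iff_map_eq_one]
  intro x hx
  obtain ⟨g, rfl⟩ := QuotientGroup.mk_surjective x
  rw [psiBar_mk] at hx
  obtain ⟨h01, h10, h00⟩ := D.eq_of_psi_eq_one hx
  have hd := sl_det g
  rw [h01, h10, ← h00] at hd
  rw [QuotientGroup.eq_one_iff]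
  apply Matrix.SpecialLinearGroup.mem_center_iff.2
  refine ⟨g 0 0, ?_, ?_⟩
  · simp only [Fintype.card_fin]
    linear_combination hd
  · ext i j
    fin_cases i <;> fin_cases j <;> simp [h01, h10, ← h00, Matrix.scalar_apply]

/-- The map from the product to the centraliser. -/
noncomputable def centHom : Multiplicative (ZMod 2) × PSL(2, K) →* G :=
  MonoidHom.noncommCoprod (z2Hom D.t0 D.t0_sq) D.psiBar (by
    have key : ∀ a : Multiplicative (ZMod 2), a = 1 ∨ a = Multiplicative.ofAdd 1 := by decide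
    intro a x
    obtain ⟨g, rfl⟩ := QuotientGroup.mk_surjective x
    rcases key a with rfl | rfl
    · simp
    · have h1 : (Multiplicative.ofAdd (1 : ZMod 2)) ≠ 1 := by decide
      show Commute (if Multiplicative.ofAdd (1 : ZMod 2) = 1 then 1 else D.t0) _
      rw [if_neg h1]
      exact D.t0_comm_psi g)

theorem centHom_one (x : PSL(2, K)) : D.centHom (1, x) = D.psiBar x := by
  simp [centHom, z2Hom]

theorem centHom_t0 (x : PSL(2, K)) : D.centHom (Multiplicative.ofAdd 1, x) = D.t0 * D.psiBar x := by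
  have h1 : (Multiplicative.ofAdd (1 : ZMod 2)) ≠ 1 := by decide
  simp [centHom, z2Hom, h1]

/-- The centraliser of the involution is a direct product. -/
theorem cent_t0_equiv : Nonempty (↥(Subgroup.centralizer {D.t0}) ≃* Multiplicative (ZMod 2) × PSL(2, K)) := by
  have key : ∀ a : Multiplicative (ZMod 2), a = 1 ∨ a = Multiplicative.ofAdd 1 := by decide
  have hmem : ∀ p, D.centHom p ∈ Subgroup.centralizer {D.t0} := by
    rintro ⟨a, x⟩
    obtain ⟨g, rfl⟩ := QuotientGroup.mk_surjective x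
    rw [Subgroup.mem_centralizer_singleton_iff]
    rcases key a with rfl | rfl
    · rw [centHom_one, psiBar_mk]
      exact (D.t0_comm_psi g).symm
    · rw [centHom_t0, psiBar_mk, mul_assoc, ← D.t0_comm_psi g]
  let F : Multiplicative (ZMod 2) × PSL(2, K) →* ↥(Subgroup.centralizer {D.t0}) := D.centHom.codRestrict _ hmem
  have hF : Function.Bijective F := by
    constructor
    · rw [injective_iff_map_eq_one]
      rintro ⟨a, x⟩ h
      have h1 : D.centHom (a, x) = 1 := congrArg Subtype.val h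
      obtain ⟨g, rfl⟩ := QuotientGroup.mk_surjective x
      rcases key a with rfl | rfl
      · rw [centHom_one] at h1
        have h2 := D.psiBar_inj (h1.trans (map_one _).symm)
        rw [h2]
        rfl
      · rw [centHom_t0, psiBar_mk] at h1
        exfalso
        apply D.t0_not_mem g
        have := inv_eq_of_mul_eq_one_right h1
        rw [D.t0_inv] at this
        exact this.symm
    · rintro ⟨x, hx⟩
      rw [Subgroup.mem_centralizer_singleton_iff] at hx
      obtain ⟨g, h | h⟩ := D.cent_t0_form hx.symm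
      · exact ⟨(1, QuotientGroup.mk g), Subtype.ext (by
          show D.centHom _ = x
          rw [centHom_one, psiBar_mk, h])⟩
      · exact ⟨(Multiplicative.ofAdd 1, QuotientGroup.mk g), Subtype.ext (by
          show D.centHom _ = x
          rw [centHom_t0, psiBar_mk, h])⟩
  exact ⟨(MulEquiv.ofBijective F hF).symm⟩

end Dat

end Cfsg.Agent.Lib.Ree.Abs
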