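import Cfsg.Agent.Lib.Ree.Abs19

/-!
# The abstract Ree group: the Borel subgroup and the orders of elements
-/

set_option autoImplicit false
set_option linter.unusedSectionVars false
set_option linter.unusedSimpArgs false
set_option linter.unnecessarySeqFocus false

namespace Cfsg.Agent.Lib.Ree.Abs

open Matrix Cfsg.Agent.Lib.Ree.Sigma Cfsg.Agent.Lib.Ree.Words Cfsg.Agent.Lib.Ree.Psi
open scoped MatrixGroups Pointwise BigOperators

namespace Dat

variable {K G : Type*} [Field K] [Fintype K] [CharP K 3] [_root_.Group G] (D : Dat K G)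

/-! ### The unipotent subgroup -/

theorem u_cube (t a b : K) : D.u t a b ^ 3 = D.u 0 0 (- D.f.φ t * t ^ 2) := by
  have h3 : (3 : K) = 0 := D.three
  rw [pow_succ, pow_two, D.u_mul, D.u_mul]
  congr 1
  · linear_combination t * h3
  · linear_combination (a - t * D.f.φ t) * h3
  · linear_combination (b - t * a) * h3

theorem u_ne_one_iff {t a b : K} : D.u t a b ≠ 1 ↔ t ≠ 0 ∨ a ≠ 0 ∨ b ≠ 0 := by
  constructor
  · intro h
    by_contra hc
    push Not at hc
    obtain ⟨rfl, rfl, rfl⟩ := hc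
    exact h D.u_zero
  · intro h h1
    obtain ⟨h2, h3, h4⟩ := D.u_eq_one h1
    rcases h with h | h | h
    · exact h h2
    · exact h h3
    · exact h h4

theorem orderOf_u_three {t a b : K} (ht : t = 0) (h : a ≠ 0 ∨ b ≠ 0) : orderOf (D.u t a b) = 3 := by
  subst ht
  apply orderOf_eq_prime
  · rw [u_cube]
    simp [D.u_zero]
  · exact D.u_ne_one_iff.2 (Or.inr h)

theorem u_cube_ne {t a b : K} (ht : t ≠ 0) : D.u t a b ^ 3 ≠ 1 := by
  rw [u_cube, ← D.u_zero]
  intro h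
  obtain ⟨-, -, h⟩ := D.u_inj h
  have h3 : D.f.φ t ≠ 0 := (map_ne_zero _).2 ht
  have h4 : D.f.φ t * t ^ 2 ≠ 0 := mul_ne_zero h3 (pow_ne_zero _ ht)
  apply h4
  linear_combination -h

theorem orderOf_u_nine {t a b : K} (ht : t ≠ 0) : orderOf (D.u t a b) = 9 := by
  have hp : Nat.Prime 3 := Nat.prime_three
  haveI : Fact (Nat.Prime 3) := ⟨hp⟩
  have := orderOf_eq_prime_pow (p := 3) (n := 1) (x := D.u t a b) (by simpa using D.u_cube_ne ht) (by
    have e : (3 : ℕ) ^ (1 + 1) = 3 * 3 := by norm_num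
    rw [e, pow_mul, u_cube, u_cube]
    simp [D.u_zero])
  rw [this]
  norm_num

/-- Elements of `U` have order dividing nine. -/
theorem u_pow_nine (t a b : K) : D.u t a b ^ 9 = 1 := by
  have e : (9 : ℕ) = 3 * 3 := by norm_num
  rw [e, pow_mul, u_cube, u_cube]
  simp [D.u_zero]

theorem u_inter_d {t a b : K} {κ : Kˣ} (h : D.u t a b = D.d κ) : t = 0 ∧ a = 0 ∧ b = 0 ∧ κ = 1 := by
  have h1 : D.u t a b * D.d 1 = D.u 0 0 0 * D.d κ := by
    rw [map_one, mul_one, D.u_zero, one_mul, h]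
  obtain ⟨h2, h3, h4, h5⟩ := D.B_unique h1
  exact ⟨h2, h3, h4, h5.symm⟩

/-- Non-trivial elements of `U` fix only the base point. -/
theorem U_fix {x : G} (hx : x ∈ D.U) (hx1 : x ≠ 1) {α : D.Om} (hα : x • α = α) : α = D.p0 := by
  rcases D.point_form α with rfl | ⟨t, a, b, rfl⟩
  · rfl
  · exfalso
    apply hx1
    set v := D.u t a b with hv
    have hvp : v • D.pw = D.pu t a b := by
      rw [pw, D.smul_mk]
      rfl
    have hvU : v ∈ D.U := D.u_mem_U t a b
    have hc : v⁻¹ * x * v ∈ D.U := D.U.mul_mem (D.U.mul_mem (D.U.inv_mem hvU) hx) hvU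
    have h0 : (v⁻¹ * x * v) • D.p0 = D.p0 := D.smul_p0_iff.2 (D.U_le_B hc)
    have h1 : (v⁻¹ * x * v) • D.pw = D.pw := by
      rw [mul_smul, mul_smul, hvp, hα, ← hvp, inv_smul_smul]
    obtain ⟨κ, hκ⟩ := D.fix_p0_pw h0 h1
    obtain ⟨t', a', b', he⟩ := hc
    rw [he] at hκ
    obtain ⟨rfl, rfl, rfl, rfl⟩ := D.u_inter_d hκ
    have : v⁻¹ * x * v = 1 := by rw [he, D.u_zero]
    have e : x = v * (v⁻¹ * x * v) * v⁻¹ := by group
    rw [e, this]
    group

/-- A regular torus element centralises no non-trivial element of `U`. -/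
theorem U_comm_d {κ : Kˣ} (hκ : κ ^ 2 ≠ 1) {v : G} (hv : v ∈ D.U) (hc : v * D.d κ = D.d κ * v) : v = 1 := by
  obtain ⟨t, a, b, rfl⟩ := hv
  by_contra hne
  have h1 : D.d κ • D.pu t a b = D.pu t a b := by
    have hvp : D.u t a b • D.pw = D.pu t a b := by
      rw [pw, D.smul_mk]
      rfl
    rw [← hvp, ← mul_smul, ← hc, mul_smul, D.d_smul_pw]
  obtain ⟨h2, h3⟩ := D.d_sq_ne hκ
  rcases D.fix_three (D.d_smul_p0 κ) (D.d_smul_pw κ) h1 hne with h | h
  · exact h2 h
  · exact h3 h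

/-- Elements of the coset of a regular torus element are conjugate to it. -/
theorem conj_d_of_coset [Finite G] {κ : Kˣ} (hκ : κ ^ 2 ≠ 1) (t a b : K) :
    ∃ v ∈ D.U, D.u t a b * D.d κ = v * D.d κ * v⁻¹ := by
  have hmem : ∀ v : D.U, v.1 * (D.d κ * v.1⁻¹ * (D.d κ)⁻¹) ∈ D.U := by
    intro v
    exact D.U.mul_mem v.2 (D.B_norm_U (D.d_mem_B κ) (D.U.inv_mem v.2))
  let f : D.U → D.U := fun v => ⟨_, hmem v⟩
  have hf : Function.Injective f := by
    intro v v' h
    have h1 : v.1 * (D.d κ * v.1⁻¹ * (D.d κ)⁻¹) = v'.1 * (D.d κ * v'.1⁻¹ * (D.d κ)⁻¹) := congrArg Subtype.val h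
    have h2 : v.1 * D.d κ * v.1⁻¹ = v'.1 * D.d κ * v'.1⁻¹ := by
      have := congrArg (fun y => y * D.d κ) h1
      beta_reduce at this
      calc v.1 * D.d κ * v.1⁻¹ = v.1 * (D.d κ * v.1⁻¹ * (D.d κ)⁻¹) * D.d κ := by group
        _ = v'.1 * (D.d κ * v'.1⁻¹ * (D.d κ)⁻¹) * D.d κ := this
        _ = _ := by group
    have h3 : (v'.1⁻¹ * v.1) * D.d κ = D.d κ * (v'.1⁻¹ * v.1) := by
      calc (v'.1⁻¹ * v.1) * D.d κ = v'.1⁻¹ * (v.1 * D.d κ * v.1⁻¹) * v.1 := by group
        _ = v'.1⁻¹ * (v'.1 * D.d κ * v'.1⁻¹) * v.1 := by rw [h2]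
        _ = _ := by group
    have h4 := D.U_comm_d hκ (D.U.mul_mem (D.U.inv_mem v'.2) v.2) h3
    apply Subtype.ext
    calc v.1 = v'.1 * (v'.1⁻¹ * v.1) := by group
      _ = v'.1 := by rw [h4, mul_one]
  have hs := Finite.injective_iff_surjective.1 hf
  obtain ⟨v, hv⟩ := hs ⟨D.u t a b, D.u_mem_U t a b⟩
  have hv' : v.1 * (D.d κ * v.1⁻¹ * (D.d κ)⁻¹) = D.u t a b := congrArg Subtype.val hv
  refine ⟨v.1, v.2, ?_⟩
  rw [← hv']
  group

/-! ### The coset of the involution -/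

theorem u_t0_sq (t a b : K) : (D.u t a b * D.t0) * (D.u t a b * D.t0) =
    D.u 0 (a + a - t * D.f.φ (-t)) (D.f.φ (-t) * (-t) * t - D.f.φ (-t) * t ^ 2 + t * a) := by
  have e : (D.u t a b * D.t0) * (D.u t a b * D.t0) = D.u t a b * (D.t0 * D.u t a b * D.t0) := by group
  rw [e, D.t0_conj_u, D.u_mul]
  congr 1
  · ring
  · ring

theorem u_t0_pow_six (t a b : K) : (D.u t a b * D.t0) ^ 6 = 1 := by
  have e : (6 : ℕ) = 2 * 3 := by norm_num
  rw [e, pow_mul, pow_two, u_t0_sq, u_cube]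
  simp [D.u_zero]

theorem u_t0_sq_eq_one_iff {t a b : K} : (D.u t a b * D.t0) * (D.u t a b * D.t0) = 1 ↔ a = t * D.f.φ t := by
  have h3 : (3 : K) = 0 := D.three
  rw [u_t0_sq, ← D.u_zero, map_neg]
  constructor
  · intro h
    obtain ⟨-, h1, -⟩ := D.u_inj h
    linear_combination (a * h3 - h1)
  · intro h
    subst h
    congr 1
    · linear_combination (-(t * D.f.φ t) : K) * h3 * (-1)
    · linear_combination (D.f.φ t * t ^ 2) * h3

/-! ### Orders of elements fixing a point -/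

section

variable [Finite G]

theorem orderOf_of_mem_B {x : G} (hx : x ∈ D.B) : orderOf x ∣ 6 ∨ orderOf x ∣ 9 ∨ orderOf x ∣ D.q - 1 := by
  obtain ⟨t, a, b, κ, rfl⟩ := hx
  by_cases hκ : κ ^ 2 = 1
  · have h2 : κ = 1 ∨ κ = -1 := by
      have h3 : ((κ : K) - 1) * ((κ : K) + 1) = 0 := by
        have : ((κ ^ 2 : Kˣ) : K) = 1 := by rw [hκ]; rfl
        rw [Units.val_pow_eq_pow_val] at this
        linear_combination this
      rcases mul_eq_zero.1 h3 with h4 | h4
      · left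
        apply Units.ext
        rw [Units.val_one]
        linear_combination h4
      · right
        apply Units.ext
        rw [Units.val_neg, Units.val_one]
        linear_combination h4
    rcases h2 with rfl | rfl
    · right
      left
      rw [map_one, mul_one]
      exact orderOf_dvd_of_pow_eq_one (D.u_pow_nine t a b)
    · left
      exact orderOf_dvd_of_pow_eq_one (D.u_t0_pow_six t a b)
  · right
    right
    obtain ⟨v, -, hv⟩ := D.conj_d_of_coset hκ t a b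
    rw [hv]
    have h1 : orderOf (v * D.d κ * v⁻¹) = orderOf (D.d κ) := by
      have := orderOf_conj v⁻¹ (D.d κ)
      rwa [inv_inv] at this
    rw [h1]
    have h2 := Subgroup.orderOf_dvd_natCard D.H0 (D.d_mem_H0 κ)
    rwa [D.card_H0] at h2

theorem orderOf_of_fix {x : G} {α : D.Om} (h : x • α = α) : orderOf x ∣ 6 ∨ orderOf x ∣ 9 ∨ orderOf x ∣ D.q - 1 := by
  obtain ⟨g, rfl⟩ := QuotientGroup.mk_surjective α
  have h1 : g⁻¹ * x * g ∈ D.B := by
    have h2 : ((QuotientGroup.mk (x * g)) : D.Om) = QuotientGroup.mk g := h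
    have h3 := QuotientGroup.eq.1 h2.symm
    have e : g⁻¹ * x * g = g⁻¹ * (x * g) := by group
    rw [e]
    exact h3
  have h2 := D.orderOf_of_mem_B h1
  rwa [orderOf_conj] at h2

variable (hm : 1 ≤ D.m)
include hm

/-- The orders of the elements. -/
theorem order_cases (x : G) : orderOf x ∣ 6 ∨ orderOf x ∣ 9 ∨ orderOf x ∣ D.q - 1 ∨ orderOf x ∣ 2 * D.n0 ∨
    orderOf x ∣ D.q - 3 ^ (D.m + 1) + 1 ∨ orderOf x ∣ D.q + 3 ^ (D.m + 1) + 1 := by
  by_cases hf : D.Fpf x
  · rcases D.fpf_cases hm hf with h | h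
    · obtain ⟨A₁, A₂, hall, -, -, h1, h2⟩ := D.tori_main hm
      have hmem : x ∈ Subgroup.centralizer {x} := Subgroup.mem_centralizer_singleton_iff.2 rfl
      have h3 := Subgroup.orderOf_dvd_natCard _ hmem
      have ht : Subgroup.centralizer {x} = (⟨_, x, h, rfl⟩ : D.Tor).1 := rfl
      rcases hall ⟨_, x, h, rfl⟩ with ⟨y, hy⟩ | ⟨y, hy⟩
      · have h4 : Nat.card (Subgroup.centralizer {x}) = D.q + 3 ^ (D.m + 1) + 1 := by
          rw [ht, hy, D.card_smul, h1]
        rw [h4] at h3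
        exact Or.inr (Or.inr (Or.inr (Or.inr (Or.inr h3))))
      · have h4 : Nat.card (Subgroup.centralizer {x}) = D.q - 3 ^ (D.m + 1) + 1 := by
          rw [ht, hy, D.card_smul, h2]
        rw [h4] at h3
        exact Or.inr (Or.inr (Or.inr (Or.inr (Or.inl h3))))
    · obtain ⟨g, s, hs, rfl⟩ := h
      right
      right
      right
      left
      have h1 := orderOf_conj g⁻¹ s
      rw [inv_inv] at h1
      rw [h1]
      exact orderOf_dvd_of_pow_eq_one (D.A0_exp hs.1)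
  · unfold Fpf at hf
    push Not at hf
    obtain ⟨α, hα⟩ := hf
    rcases D.orderOf_of_fix hα with h | h | h
    · exact Or.inl h
    · exact Or.inr (Or.inl h)
    · exact Or.inr (Or.inr (Or.inl h))

omit hm in
theorem exists_orderOf_of_dvd {n d : ℕ} (h : ∃ y : G, orderOf y = n) (hd : d ∣ n) : ∃ g : G, orderOf g = d := by
  obtain ⟨y, rfl⟩ := h
  exact ⟨y ^ (orderOf y / d), orderOf_pow_orderOf_div (orderOf_pos y).ne' hd⟩

omit hm in
theorem exists_orderOf_of_cyclic (H : Subgroup G) (hH : IsCyclic H) : ∃ y : G, orderOf y = Nat.card H := by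
  obtain ⟨g, hg⟩ := IsCyclic.exists_ofOrder_eq_natCard (α := H)
  exact ⟨g.1, by rw [Subgroup.orderOf_coe, hg]⟩

theorem exists_order_six : ∃ y : G, orderOf y = 6 := by
  have h3 := D.orderOf_u_three (t := 0) (a := 1) (b := 0) rfl (Or.inl one_ne_zero)
  have h2 : orderOf D.t0 = 2 := by
    apply orderOf_eq_prime
    · rw [pow_two, D.t0_sq]
    · exact D.t0_ne
  have hc : Commute D.t0 (D.u 0 1 0) := D.t0_comm_u0 1
  refine ⟨D.t0 * D.u 0 1 0, ?_⟩
  rw [hc.orderOf_mul_eq_mul_orderOf_of_coprime, h2, h3]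
  · rw [h2, h3]
    norm_num

/-- The orders of the elements of the group. -/
theorem order_iff (d : ℕ) : (∃ g : G, orderOf g = d) ↔
    (d ∣ 6 ∨ d ∣ 9 ∨ d ∣ D.q - 1 ∨ d ∣ (D.q + 1) / 2 ∨ d ∣ D.q - 3 ^ (D.m + 1) + 1 ∨ d ∣ D.q + 3 ^ (D.m + 1) + 1) := by
  have h2n : (D.q + 1) / 2 = 2 * D.n0 := by
    have := D.four_n0
    omega
  rw [h2n]
  constructor
  · rintro ⟨g, rfl⟩
    exact D.order_cases hm g
  · obtain ⟨A₁, A₂, -, -, -, h1, h2⟩ := D.tori_main hm
    have hcyc : ∀ A : D.Tor, IsCyclic A.1 := by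
      rintro ⟨_, x, hx, rfl⟩
      exact hx.cyclic hm
    have hX : Nat.card D.X1 = 2 * D.n0 := by
      have h3 := D.card_X1
      rw [← D.four_n0] at h3
      omega
    rintro (h | h | h | h | h | h)
    · exact exists_orderOf_of_dvd (D.exists_order_six hm) h
    · exact exists_orderOf_of_dvd ⟨D.u 1 0 0, D.orderOf_u_nine one_ne_zero⟩ h
    · refine exists_orderOf_of_dvd ?_ h
      have := exists_orderOf_of_cyclic D.H0 D.H0_cyclic
      rwa [D.card_H0] at this
    · refine exists_orderOf_of_dvd ?_ h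
      have := exists_orderOf_of_cyclic D.X1 D.X1_cyclic
      rwa [hX] at this
    · refine exists_orderOf_of_dvd ?_ h
      have := exists_orderOf_of_cyclic A₂.1 (hcyc A₂)
      rwa [h2] at this
    · refine exists_orderOf_of_dvd ?_ h
      have := exists_orderOf_of_cyclic A₁.1 (hcyc A₁)
      rwa [h1] at this

end

end Dat

end Cfsg.Agent.Lib.Ree.Abs
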