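import Cfsg.Agent.Lib.Ree.Abs20

/-!
# The abstract Ree group: the Hall subgroups and their normalisers
-/

set_option autoImplicit false
set_option linter.unusedSectionVars false
set_option linter.unusedSimpArgs false
set_option linter.unnecessarySeqFocus false

namespace Cfsg.Agent.Lib.Ree.Abs

open Matrix Cfsg.Agent.Lib.Ree.Sigma Cfsg.Agent.Lib.Ree.Words Cfsg.Agent.Lib.Ree.Psi
open scoped MatrixGroups Pointwise BigOperators

section Generic

variable {Γ : Type*} [_root_.Group Γ]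

theorem cyclic_sub_eq' [Finite Γ] [IsCyclic Γ] (R S : Subgroup Γ) (h : Nat.card R = Nat.card S) : R = S := by
  classical
  haveI : Fintype Γ := Fintype.ofFinite _
  set n := Nat.card R with hn
  have hn0 : 0 < n := Nat.card_pos
  have hT := IsCyclic.card_pow_eq_one_le (α := Γ) hn0
  have key : ∀ W : Subgroup Γ, Nat.card W = n →
      (W : Set Γ) = ((Finset.univ.filter (fun a : Γ => a ^ n = 1) : Finset Γ) : Set Γ) := by
    intro W hW
    have hsub : (W : Set Γ) ⊆ ((Finset.univ.filter (fun a : Γ => a ^ n = 1) : Finset Γ) : Set Γ) := by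
      intro x hx
      have h1 : (⟨x, hx⟩ : W) ^ Nat.card W = 1 := pow_card_eq_one'
      have h2 : x ^ Nat.card W = 1 := congrArg Subtype.val h1
      rw [hW] at h2
      simpa using h2
    apply Set.eq_of_subset_of_ncard_le hsub _ (Set.toFinite _)
    rw [Set.ncard_coe_finset]
    have : (W : Set Γ).ncard = Nat.card W := Nat.card_coe_set_eq _ |>.symm
    rw [this, hW]
    exact hT
  apply SetLike.coe_injective
  rw [key R rfl, key S h.symm]

theorem cyclic_sub_eq {H P Q : Subgroup Γ} [Finite H] (hH : IsCyclic H) (hP : P ≤ H) (hQ : Q ≤ H)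
    (h : Nat.card P = Nat.card Q) : P = Q := by
  have e1 : Nat.card (P.subgroupOf H) = Nat.card P := Nat.card_congr (Subgroup.subgroupOfEquivOfLe hP).toEquiv
  have e2 : Nat.card (Q.subgroupOf H) = Nat.card Q := Nat.card_congr (Subgroup.subgroupOfEquivOfLe hQ).toEquiv
  have := cyclic_sub_eq' (P.subgroupOf H) (Q.subgroupOf H) (by rw [e1, e2, h])
  rw [Subgroup.subgroupOf_inj, inf_eq_left.2 hP, inf_eq_left.2 hQ] at this
  exact this

theorem mem_norm_of_cyclic {H P : Subgroup Γ} [Finite H] (hH : IsCyclic H) (hP : P ≤ H) {g : Γ}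
    (hg : g ∈ Subgroup.normalizer (H : Set Γ)) : g ∈ Subgroup.normalizer (P : Set Γ) := by
  rw [Subgroup.mem_normalizer_iff_map_conj_eq] at hg ⊢
  apply cyclic_sub_eq hH (P := P.map (MulAut.conj g).toMonoidHom) (Q := P)
  · calc P.map (MulAut.conj g).toMonoidHom ≤ H.map (MulAut.conj g).toMonoidHom := Subgroup.map_mono hP
      _ = H := hg
  · exact hP
  · exact card_map_conj P g

theorem mem_norm_cent {A : Subgroup Γ} {g : Γ} (hg : g ∈ Subgroup.normalizer (A : Set Γ)) :
    g ∈ Subgroup.normalizer ((Subgroup.centralizer (A : Set Γ) : Subgroup Γ) : Set Γ) := by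
  rw [Subgroup.mem_normalizer_iff_map_conj_eq] at hg ⊢
  calc (Subgroup.centralizer (A : Set Γ)).map (MulAut.conj g).toMonoidHom
      = Subgroup.centralizer ((A.map (MulAut.conj g).toMonoidHom : Subgroup Γ) : Set Γ) := (centralizer_map_conj A g).symm
    _ = Subgroup.centralizer (A : Set Γ) := by rw [show A.map (MulAut.conj g).toMonoidHom = A from hg]

theorem exists_sub_of_dvd {H : Subgroup Γ} [Finite H] (hH : IsCyclic H) {n : ℕ} (hn : n ∣ Nat.card H) :
    ∃ P : Subgroup Γ, P ≤ H ∧ IsCyclic P ∧ Nat.card P = n := by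
  obtain ⟨g, hg⟩ := IsCyclic.exists_ofOrder_eq_natCard (α := H)
  refine ⟨Subgroup.zpowers ((g ^ (Nat.card H / n) : H) : Γ), ?_, inferInstance, ?_⟩
  · rw [Subgroup.zpowers_le]
    exact (g ^ (Nat.card H / n)).2
  · rw [Nat.card_zpowers, Subgroup.orderOf_coe, ← hg]
    rw [← hg] at hn
    exact orderOf_pow_orderOf_div (orderOf_pos g).ne' hn

theorem norm_eq_of_cent {A C A₀ : Subgroup Γ} [Finite A] (hA : IsCyclic A)
    (hC : Subgroup.centralizer (A₀ : Set Γ) = C)
    (hNC : Subgroup.normalizer (C : Set Γ) ≤ Subgroup.normalizer (A : Set Γ)) (h₀ : A₀ ≤ A) :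
    Subgroup.normalizer (A₀ : Set Γ) = Subgroup.normalizer (A : Set Γ) := by
  apply le_antisymm
  · intro g hg
    apply hNC
    rw [← hC]
    exact mem_norm_cent hg
  · intro g hg
    exact mem_norm_of_cyclic hA h₀ hg

theorem conj_of_sub_cyclic {R A B : Subgroup Γ} [Finite R] (hR : IsCyclic R) {g g' : Γ}
    (hA : A.map (MulAut.conj g).toMonoidHom ≤ R) (hB : B.map (MulAut.conj g').toMonoidHom ≤ R)
    (h : Nat.card A = Nat.card B) : ∃ x : Γ, B = A.map (MulAut.conj x).toMonoidHom := by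
  have e := cyclic_sub_eq hR hA hB (by rw [card_map_conj, card_map_conj, h])
  refine ⟨g'⁻¹ * g, ?_⟩
  ext x
  rw [mem_map_conj]
  have e2 : (g'⁻¹ * g)⁻¹ * x * (g'⁻¹ * g) = g⁻¹ * (g' * x * g'⁻¹) * g := by group
  rw [e2, ← mem_map_conj, e]
  rw [mem_map_conj]
  have e3 : g'⁻¹ * (g' * x * g'⁻¹) * g' = x := by group
  rw [e3]

end Generic

namespace Dat

variable {K G : Type*} [Field K] [Fintype K] [CharP K 3] [_root_.Group G] (D : Dat K G)

section

variable [Finite G]

variable (hm : 1 ≤ D.m)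
include hm

include D in
theorem exists_sq_ne : ∃ κ : Kˣ, κ ^ 2 ≠ 1 := by
  classical
  have hc : Nat.card Kˣ = D.q - 1 := by
    rw [Nat.card_eq_fintype_card, Fintype.card_units, D.card_K']
  obtain ⟨g, hg⟩ := IsCyclic.exists_ofOrder_eq_natCard (α := Kˣ)
  refine ⟨g, fun h => ?_⟩
  have h1 := orderOf_dvd_of_pow_eq_one h
  rw [hg, hc] at h1
  have h2 := Nat.le_of_dvd (by norm_num) h1
  have h3 := D.q_ge' hm
  omega

/-- The normaliser of the split torus. -/
theorem mem_norm_H0 {x : G} : x ∈ Subgroup.normalizer ((D.H0 : Subgroup G) : Set G) ↔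
    x ∈ D.H0 ∨ ∃ z ∈ D.H0, x = D.w * z := by
  constructor
  · intro hx
    obtain ⟨κ, hκ⟩ := D.exists_sq_ne hm
    rw [Subgroup.mem_normalizer_iff] at hx
    have h1 : x * D.d κ * x⁻¹ ∈ D.H0 := (hx _).1 (D.d_mem_H0 κ)
    obtain ⟨κ', hκ'⟩ := h1
    have hκ2 : κ' ^ 2 ≠ 1 := by
      intro h2
      apply hκ
      apply D.d_inj
      rw [map_pow, map_one]
      have h3 : (x * D.d κ * x⁻¹) ^ 2 = 1 := by
        rw [← hκ', ← map_pow, h2, map_one]
      have h4 : x * D.d κ ^ 2 * x⁻¹ = 1 := by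
        rw [← conj_pow]
        exact h3
      have h5 : D.d κ ^ 2 = x⁻¹ * (x * D.d κ ^ 2 * x⁻¹) * x := by group
      rw [h5, h4]
      group
    have hfix : ∀ α : D.Om, D.d κ • α = α → D.d κ' • (x • α) = x • α := by
      intro α hα
      rw [hκ', ← mul_smul]
      have e : x * D.d κ * x⁻¹ * x = x * D.d κ := by group
      rw [e, mul_smul, hα]
    have h0 := D.d_fix hκ2 (hfix _ (D.d_smul_p0 κ))
    have hw := D.d_fix hκ2 (hfix _ (D.d_smul_pw κ))
    have hinj : x • D.p0 ≠ x • D.pw := fun h => D.pw_ne_p0 (smul_left_cancel x h).symm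
    rcases h0 with h0 | h0
    · rcases hw with hw | hw
      · rw [h0, hw] at hinj
        exact absurd rfl hinj
      · left
        obtain ⟨κ₂, rfl⟩ := D.fix_p0_pw h0 hw
        exact D.d_mem_H0 _
    · rcases hw with hw | hw
      · right
        have h1 : (D.w * x) • D.p0 = D.p0 := by
          rw [mul_smul, h0, D.w_smul_pw]
        have h2 : (D.w * x) • D.pw = D.pw := by
          rw [mul_smul, hw, D.w_smul_p0]
        obtain ⟨κ₂, hκ₂⟩ := D.fix_p0_pw h1 h2
        refine ⟨D.d κ₂, D.d_mem_H0 _, ?_⟩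
        rw [← hκ₂, ← mul_assoc, D.w_mul_w, one_mul]
      · rw [h0, hw] at hinj
        exact absurd rfl hinj
  · have hw : D.w ∈ Subgroup.normalizer ((D.H0 : Subgroup G) : Set G) := by
      rw [Subgroup.mem_normalizer_iff]
      intro y
      constructor
      · rintro ⟨κ, rfl⟩
        exact ⟨κ⁻¹, by rw [D.w_inv, D.w_conj_d]⟩
      · rintro ⟨κ, hκ⟩
        refine ⟨κ⁻¹, ?_⟩
        change D.d κ⁻¹ = y
        rw [← D.w_conj_d]
        change D.d κ = _ at hκ
        rw [hκ, D.w_inv]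
        have e : D.w * (D.w * y * D.w) * D.w = (D.w * D.w) * y * (D.w * D.w) := by group
        rw [e, D.w_mul_w, one_mul, mul_one]
    rintro (hx | ⟨z, hz, rfl⟩)
    · exact Subgroup.le_normalizer hx
    · exact Subgroup.mul_mem _ hw (Subgroup.le_normalizer hz)

theorem card_norm_H0 : Nat.card (Subgroup.normalizer ((D.H0 : Subgroup G) : Set G)) = 2 * (D.q - 1) := by
  rw [card_double D.w D.H0 _ ?_ (fun x => D.mem_norm_H0 hm), D.card_H0]
  rintro ⟨κ, hκ⟩
  have h1 := D.d_smul_p0 κ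
  change D.d κ • D.p0 = D.p0 at h1
  rw [hκ, D.w_smul_p0] at h1
  exact D.pw_ne_p0 h1

end

section

variable [Finite G] (hm : 1 ≤ D.m)
include hm

theorem exists_m0 : ∃ A : Subgroup G, IsCyclic A ∧ Nat.card A = D.m0 ∧
    Nat.card (Subgroup.normalizer (A : Set G)) = 2 * (D.q - 1) ∧
    ∀ A₀ : Subgroup G, A₀ ≤ A → A₀ ≠ ⊥ →
      Subgroup.normalizer (A₀ : Set G) = Subgroup.normalizer (A : Set G) := by
  have hdv : D.m0 ∣ Nat.card D.H0 := by
    rw [D.card_H0, ← D.two_m0]
    exact Dvd.intro_left _ rfl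
  obtain ⟨A, hAH, hAc, hAd⟩ := exists_sub_of_dvd D.H0_cyclic hdv
  obtain ⟨h1, h2, h3⟩ := D.cent_m0 hm A hAc hAd
  have hC : Subgroup.centralizer (A : Set G) = D.H0 := by
    symm
    apply Subgroup.eq_of_le_of_card_ge
    · intro x hx
      rw [Subgroup.mem_centralizer_iff]
      intro y hy
      exact D.H0_comm (hAH hy) hx
    · rw [h2, D.card_H0]
  have hN : Subgroup.normalizer ((D.H0 : Subgroup G) : Set G) ≤ Subgroup.normalizer (A : Set G) :=
    fun g hg => mem_norm_of_cyclic D.H0_cyclic hAH hg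
  have hNA : Subgroup.normalizer (A : Set G) = Subgroup.normalizer ((D.H0 : Subgroup G) : Set G) := by
    apply le_antisymm
    · intro g hg
      rw [← hC]
      exact mem_norm_cent hg
    · exact hN
  refine ⟨A, hAc, hAd, ?_, ?_⟩
  · rw [hNA, D.card_norm_H0 hm]
  · intro A₀ hA₀ hne
    exact norm_eq_of_cent hAc ((h3 A₀ hA₀ hne).trans hC) hN hA₀

theorem exists_n0 : ∃ A : Subgroup G, IsCyclic A ∧ Nat.card A = D.n0 ∧
    Nat.card (Subgroup.normalizer (A : Set G)) = 6 * (D.q + 1) ∧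
    ∀ A₀ : Subgroup G, A₀ ≤ A → A₀ ≠ ⊥ →
      Subgroup.normalizer (A₀ : Set G) = Subgroup.normalizer (A : Set G) := by
  have hX : Nat.card D.X1 = 2 * D.n0 := by
    have h3 := D.card_X1
    rw [← D.four_n0] at h3
    omega
  have hdv : D.n0 ∣ Nat.card D.X1 := by
    rw [hX]
    exact Dvd.intro_left _ rfl
  obtain ⟨A, hAX, hAc, hAd⟩ := exists_sub_of_dvd D.X1_cyclic hdv
  obtain ⟨h1, h2, -, h3⟩ := D.cent_n0 hm A hAc hAd
  have hC : Subgroup.centralizer (A : Set G) = D.A0 := by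
    symm
    apply Subgroup.eq_of_le_of_card_ge
    · intro x hx
      rw [Subgroup.mem_centralizer_iff]
      intro y hy
      exact D.A0_comm (D.X1_le_A0 (hAX hy)) hx
    · rw [h2, D.card_A0]
  have hN : Subgroup.normalizer ((D.A0 : Subgroup G) : Set G) ≤ Subgroup.normalizer (A : Set G) := by
    intro g hg
    rw [Subgroup.mem_normalizer_iff_map_conj_eq] at hg ⊢
    have hodd : Odd D.n0 := Nat.odd_iff.2 D.n0_odd
    apply cyclic_sub_eq D.X1_cyclic (P := A.map (MulAut.conj g).toMonoidHom) (Q := A)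
    · rintro _ ⟨a, ha, rfl⟩
      have h4 : (MulAut.conj g).toMonoidHom a ∈ D.A0 := by
        rw [← hg]
        exact ⟨a, D.X1_le_A0 (hAX ha), rfl⟩
      apply D.odd_mem_X1 h4
      have h5 : orderOf ((MulAut.conj g).toMonoidHom a) = orderOf a :=
        orderOf_injective (MulAut.conj g).toMonoidHom (MulAut.conj g).injective a
      rw [h5]
      have h6 : orderOf a ∣ D.n0 := by
        rw [← hAd]
        exact Subgroup.orderOf_dvd_natCard _ ha
      exact Odd.of_dvd_nat hodd h6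
    · exact hAX
    · exact card_map_conj A g
  have hNA : Subgroup.normalizer (A : Set G) = Subgroup.normalizer ((D.A0 : Subgroup G) : Set G) := by
    apply le_antisymm
    · intro g hg
      rw [← hC]
      exact mem_norm_cent hg
    · exact hN
  refine ⟨A, hAc, hAd, ?_, ?_⟩
  · rw [hNA, D.card_norm_A0 hm]
  · intro A₀ hA₀ hne
    exact norm_eq_of_cent hAc ((h3 A₀ hA₀ hne).trans hC) hN hA₀

theorem torus_props (A : D.Tor) : IsCyclic A.1 ∧ ∀ A₀ : Subgroup G, A₀ ≤ A.1 → A₀ ≠ ⊥ →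
    Subgroup.normalizer (A₀ : Set G) = Subgroup.normalizer ((A.1 : Subgroup G) : Set G) := by
  obtain ⟨x, hx, hA⟩ := A.2
  have hc : IsCyclic A.1 := by
    rw [hA]
    exact hx.cyclic hm
  refine ⟨hc, ?_⟩
  intro A₀ hA₀ hne
  obtain ⟨y, hy, hy1⟩ := (Subgroup.bot_or_exists_ne_one A₀).resolve_left hne
  have hyA : y ∈ Subgroup.centralizer {x} := by
    rw [← hA]
    exact hA₀ hy
  have h3 := hx.cent_eq hm hyA hy1
  have h4 : Subgroup.centralizer (A₀ : Set G) = Subgroup.centralizer {y} := by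
    apply cent_eq_of_abelian A₀ _ hy
    · rw [h3]
      intro a ha b hb
      exact hx.comm hm ha hb
    · intro a ha b hb
      have ha' : a ∈ Subgroup.centralizer {x} := by
        rw [← hA]
        exact hA₀ ha
      have hb' : b ∈ Subgroup.centralizer {x} := by
        rw [← hA]
        exact hA₀ hb
      exact hx.comm hm ha' hb'
  exact norm_eq_of_cent hc (h4.trans (h3.trans hA.symm)) le_rfl hA₀

/-- The Hall subgroups of the abstract Ree group. -/
theorem hall_main : ∀ kn ∈ ({((D.q - 1) / 2, 2 * (D.q - 1)), ((D.q + 1) / 4, 6 * (D.q + 1)),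
        (D.q - 3 ^ (D.m + 1) + 1, 6 * (D.q - 3 ^ (D.m + 1) + 1)),
        (D.q + 3 ^ (D.m + 1) + 1, 6 * (D.q + 3 ^ (D.m + 1) + 1))} : Set (ℕ × ℕ)),
      ∃ A : Subgroup G, IsCyclic A ∧ Nat.card A = kn.1 ∧
        Nat.card (Subgroup.normalizer (A : Set G)) = kn.2 ∧
        ∀ A₀ : Subgroup G, A₀ ≤ A → A₀ ≠ ⊥ →
          Subgroup.normalizer (A₀ : Set G) = Subgroup.normalizer (A : Set G) := by
  obtain ⟨A₁, A₂, -, hN1, hN2, h1, h2⟩ := D.tori_main hm
  rintro kn (rfl | rfl | rfl | rfl)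
  · exact D.exists_m0 hm
  · exact D.exists_n0 hm
  · obtain ⟨hc, hn⟩ := D.torus_props hm A₂
    exact ⟨A₂.1, hc, h2, by rw [hN2, h2], hn⟩
  · obtain ⟨hc, hn⟩ := D.torus_props hm A₁
    exact ⟨A₁.1, hc, h1, by rw [hN1, h1], hn⟩

end

end Dat

end Cfsg.Agent.Lib.Ree.Abs
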