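import Cfsg.Agent.Lib.Ree.Abs21

/-!
# The abstract Ree group: conjugacy of cyclic subgroups
-/

set_option autoImplicit false
set_option linter.unusedSectionVars false
set_option linter.unusedSimpArgs false
set_option linter.unnecessarySeqFocus false

namespace Cfsg.Agent.Lib.Ree.Abs

open Matrix Cfsg.Agent.Lib.Ree.Sigma Cfsg.Agent.Lib.Ree.Words Cfsg.Agent.Lib.Ree.Psi
open scoped MatrixGroups Pointwise BigOperators

theorem map_conj_le_of {Γ : Type*} [_root_.Group Γ] {A R : Subgroup Γ} {g : Γ}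
    (h : ∀ a ∈ A, g * a * g⁻¹ ∈ R) : A.map (MulAut.conj g).toMonoidHom ≤ R := by
  rintro _ ⟨a, ha, rfl⟩
  exact h a ha

theorem exists_prime_in {Γ : Type*} [_root_.Group Γ] {A : Subgroup Γ} [Finite A] (h1 : Nat.card A ≠ 1) :
    ∃ y ∈ A, ∃ p : ℕ, p.Prime ∧ p ∣ Nat.card A ∧ orderOf y = p := by
  have hp : (Nat.card A).minFac.Prime := Nat.minFac_prime h1
  haveI : Fact (Nat.card A).minFac.Prime := ⟨hp⟩
  obtain ⟨y, hy⟩ := exists_prime_orderOf_dvd_card' (G := A) (Nat.card A).minFac (Nat.minFac_dvd _)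
  exact ⟨y.1, y.2, _, hp, Nat.minFac_dvd _, by rwa [Subgroup.orderOf_coe]⟩

namespace Dat

variable {K G : Type*} [Field K] [Fintype K] [CharP K 3] [_root_.Group G] (D : Dat K G)

section

variable [Finite G] (hm : 1 ≤ D.m)
include hm

/-- Cyclic subgroups of order dividing `(q - 1) / 2` are conjugate into the split torus. -/
theorem cyc_conj_H0 {A : Subgroup G} (hA : IsCyclic A) (hd : Nat.card A ∣ D.m0) (h1 : Nat.card A ≠ 1) :
    ∃ g : G, A.map (MulAut.conj g).toMonoidHom ≤ D.H0 := by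
  obtain ⟨y, hy, p, hp, hpd, hyo⟩ := exists_prime_in h1
  have hpm : p ∣ D.m0 := hpd.trans hd
  have hp2 : p ≠ 2 := by
    rintro rfl
    have := D.m0_odd
    omega
  have hpq : p ∣ D.q - 1 := by
    rw [← D.two_m0]
    exact hpm.trans (Dvd.intro_left _ rfl)
  obtain ⟨n, κ, he, hκ⟩ := D.conj_d_of_prime hp hp2 hpq hyo
  refine ⟨n⁻¹, map_conj_le_of fun a ha => ?_⟩
  rw [inv_inv, ← D.cent_d hκ, Subgroup.mem_centralizer_singleton_iff, ← he]
  have hc := cyclic_comm A hA a ha y hy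
  calc n⁻¹ * a * n * (n⁻¹ * y * n) = n⁻¹ * (a * y) * n := by group
    _ = n⁻¹ * (y * a) * n := by rw [hc]
    _ = _ := by group

/-- Cyclic subgroups of order dividing `(q + 1) / 4` are conjugate into the rotations. -/
theorem cyc_conj_X1 {A : Subgroup G} (hA : IsCyclic A) (hd : Nat.card A ∣ D.n0) (h1 : Nat.card A ≠ 1) :
    ∃ g : G, A.map (MulAut.conj g).toMonoidHom ≤ D.X1 := by
  obtain ⟨y, hy, p, hp, hpd, hyo⟩ := exists_prime_in h1
  obtain ⟨n, -, he⟩ := D.cent_of_prime hm hp (hpd.trans hd) hyo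
  refine ⟨n⁻¹, map_conj_le_of fun a ha => ?_⟩
  rw [inv_inv]
  have h2 : a ∈ Subgroup.centralizer {y} :=
    Subgroup.mem_centralizer_singleton_iff.2 (cyclic_comm A hA a ha y hy)
  rw [he, mem_map_conj] at h2
  apply D.odd_mem_X1 h2
  rw [orderOf_conj]
  exact Odd.of_dvd_nat (Nat.odd_iff.2 D.n0_odd) ((Subgroup.orderOf_dvd_natCard A ha).trans hd)

/-- Cyclic subgroups of order dividing the order of a torus are conjugate into it. -/
theorem cyc_conj_tor (A₁ A₂ : D.Tor) (hall : ∀ A : D.Tor, (∃ x : G, A = x • A₁) ∨ (∃ x : G, A = x • A₂))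
    (hcop : Nat.Coprime (Nat.card A₁.1) (Nat.card A₂.1)) {A : Subgroup G} (hA : IsCyclic A)
    (hd : Nat.card A ∣ Nat.card A₂.1) (h1 : Nat.card A ≠ 1) :
    ∃ g : G, A.map (MulAut.conj g).toMonoidHom ≤ A₂.1 := by
  obtain ⟨a, ha⟩ := IsCyclic.exists_ofOrder_eq_natCard (α := A)
  have hao : orderOf a.1 = Nat.card A := by
    rw [Subgroup.orderOf_coe, ha]
  have hdD : Nat.card A₂.1 ∣ D.Dd := by
    obtain ⟨g, hg, hA⟩ := A₂.2
    rw [hA]
    exact hg.card_dvd hm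
  have hX : D.IsX a.1 := by
    constructor
    · intro h
      apply h1
      rw [← hao, h, orderOf_one]
    · by_contra hc
      obtain ⟨p, hp, hp1, hp2⟩ := Nat.Prime.not_coprime_iff_dvd.1 hc
      have h3 := D.coprime_Dd_Q1 hp (hp1.trans (by rw [hao]; exact hd.trans hdD))
      exact (Nat.Prime.coprime_iff_not_dvd hp).1 h3 hp2
  let T : D.Tor := ⟨Subgroup.centralizer {a.1}, a.1, hX, rfl⟩
  have hAT : A ≤ T.1 := by
    intro b hb
    exact Subgroup.mem_centralizer_singleton_iff.2 (cyclic_comm A hA b hb a.1 a.2)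
  rcases hall T with ⟨x, hx⟩ | ⟨x, hx⟩
  · exfalso
    have h2 : Nat.card A ∣ Nat.card T.1 := Subgroup.card_dvd_of_le hAT
    rw [hx, D.card_smul] at h2
    exact h1 (Nat.eq_one_of_dvd_coprimes hcop h2 hd)
  · refine ⟨x⁻¹, map_conj_le_of fun b hb => ?_⟩
    have h2 : b ∈ T.1 := hAT hb
    rw [hx, D.coe_smul, mem_map_conj] at h2
    rw [inv_inv]
    exact h2

/-- Cyclic subgroups of suitable order are conjugate. -/
theorem cyclic_conj {d : ℕ} (hd : d ∣ D.m0 ∨ d ∣ D.n0 ∨ d ∣ D.q - 3 ^ (D.m + 1) + 1 ∨ d ∣ D.q + 3 ^ (D.m + 1) + 1)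
    (A B : Subgroup G) (hA : IsCyclic A) (hB : IsCyclic B) (hAd : Nat.card A = d) (hBd : Nat.card B = d) :
    ∃ g : G, B = A.map (MulAut.conj g).toMonoidHom := by
  by_cases h1 : d = 1
  · subst h1
    refine ⟨1, ?_⟩
    rw [Subgroup.eq_bot_of_card_eq A hAd, Subgroup.eq_bot_of_card_eq B hBd, Subgroup.map_bot]
  obtain ⟨A₁, A₂, hall, -, -, ha1, ha2⟩ := D.tori_main hm
  have hr : 0 < 3 ^ (D.m + 1) := by positivity
  have hrq : 3 ^ (D.m + 1) ≤ D.q := by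
    have : 3 ^ (D.m + 1) ≤ 3 ^ (2 * D.m + 1) := Nat.pow_le_pow_right (by norm_num) (by omega)
    exact this
  have hne : ¬ ∃ x : G, A₂ = x • A₁ := by
    rintro ⟨x, hx⟩
    have := congrArg (fun T : D.Tor => Nat.card T.1) hx
    simp only [D.card_smul, ha1, ha2] at this
    omega
  have hcop := D.tori_coprime hm A₁ A₂ hne
  have hall' : ∀ A : D.Tor, (∃ x : G, A = x • A₂) ∨ (∃ x : G, A = x • A₁) := fun A => (hall A).symm
  have hcyc : ∀ T : D.Tor, IsCyclic T.1 := fun T => (D.torus_props hm T).1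
  rcases hd with hd | hd | hd | hd
  · obtain ⟨g, hg⟩ := D.cyc_conj_H0 hm hA (hAd ▸ hd) (by rwa [hAd])
    obtain ⟨g', hg'⟩ := D.cyc_conj_H0 hm hB (hBd ▸ hd) (by rwa [hBd])
    exact conj_of_sub_cyclic D.H0_cyclic hg hg' (hAd.trans hBd.symm)
  · obtain ⟨g, hg⟩ := D.cyc_conj_X1 hm hA (hAd ▸ hd) (by rwa [hAd])
    obtain ⟨g', hg'⟩ := D.cyc_conj_X1 hm hB (hBd ▸ hd) (by rwa [hBd])
    exact conj_of_sub_cyclic D.X1_cyclic hg hg' (hAd.trans hBd.symm)
  · rw [← ha2] at hd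
    obtain ⟨g, hg⟩ := D.cyc_conj_tor hm A₁ A₂ hall hcop hA (hAd ▸ hd) (by rwa [hAd])
    obtain ⟨g', hg'⟩ := D.cyc_conj_tor hm A₁ A₂ hall hcop hB (hBd ▸ hd) (by rwa [hBd])
    exact conj_of_sub_cyclic (hcyc A₂) hg hg' (hAd.trans hBd.symm)
  · rw [← ha1] at hd
    obtain ⟨g, hg⟩ := D.cyc_conj_tor hm A₂ A₁ hall' hcop.symm hA (hAd ▸ hd) (by rwa [hAd])
    obtain ⟨g', hg'⟩ := D.cyc_conj_tor hm A₂ A₁ hall' hcop.symm hB (hBd ▸ hd) (by rwa [hBd])
    exact conj_of_sub_cyclic (hcyc A₁) hg hg' (hAd.trans hBd.symm)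

end

end Dat

end Cfsg.Agent.Lib.Ree.Abs
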