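import Cfsg.Agent.Lib.Ree.Abs22

/-!
# The abstract Ree group: the number of elements of each order
-/

set_option autoImplicit false
set_option linter.unusedSectionVars false
set_option linter.unusedSimpArgs false
set_option linter.unnecessarySeqFocus false

namespace Cfsg.Agent.Lib.Ree.Abs

open Matrix Cfsg.Agent.Lib.Ree.Sigma Cfsg.Agent.Lib.Ree.Words Cfsg.Agent.Lib.Ree.Psi
open scoped MatrixGroups Pointwise BigOperators

theorem orderOf_conj' {Γ : Type*} [_root_.Group Γ] (g x : Γ) : orderOf (g * x * g⁻¹) = orderOf x := by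
  have h1 := orderOf_conj g⁻¹ x
  rwa [inv_inv] at h1

/-- Counting the elements of a given order when their centralisers are a given subgroup. -/
theorem count_cent {Γ : Type*} [_root_.Group Γ] [Finite Γ] (R : Subgroup Γ) (i : ℕ)
    (hC : ∀ s ∈ R, orderOf s = i → Subgroup.centralizer {s} = R)
    (hall : ∀ x : Γ, orderOf x = i → ∃ g : Γ, g * x * g⁻¹ ∈ R) :
    Nat.card {g : Γ // orderOf g = i} * Nat.card (Subgroup.normalizer (R : Set Γ)) =
      Nat.card Γ * Nat.card {x : Γ // x ∈ R ∧ orderOf x = i} := by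
  refine card_ti {x : Γ | x ∈ R ∧ orderOf x = i} (Subgroup.normalizer (R : Set Γ)) ?_ ?_ {x : Γ | orderOf x = i} ?_
  · rintro n hn s ⟨hs, hso⟩
    rw [Subgroup.mem_normalizer_iff] at hn
    exact ⟨(hn s).1 hs, by rw [orderOf_conj', hso]⟩
  · rintro g s ⟨hs, hso⟩ ⟨hs', hso'⟩
    rw [Subgroup.mem_normalizer_iff_map_conj_eq]
    have h1 := hC _ hs' hso'
    rw [cent_conj, hC s hs hso] at h1
    exact h1
  · intro x
    constructor
    · intro hx
      obtain ⟨g, hg⟩ := hall x hx
      refine ⟨g⁻¹, g * x * g⁻¹, ⟨hg, by rw [orderOf_conj']; exact hx⟩, ?_⟩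
      group
    · rintro ⟨g, s, ⟨-, hso⟩, rfl⟩
      change orderOf _ = i
      rw [orderOf_conj', hso]

/-- The number of elements of given order in a cyclic subgroup. -/
theorem count_in_cyclic {Γ : Type*} [_root_.Group Γ] {R : Subgroup Γ} [Finite R] (hR : IsCyclic R) {i : ℕ}
    (hi : i ∣ Nat.card R) : Nat.card {x : Γ // x ∈ R ∧ orderOf x = i} = Nat.totient i := by
  classical
  haveI : Fintype R := Fintype.ofFinite _
  have h1 := IsCyclic.card_orderOf_eq_totient (α := R) (d := i) (by rwa [Nat.card_eq_fintype_card] at hi)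
  rw [← h1, ← Fintype.card_subtype, ← Nat.card_eq_fintype_card]
  apply Nat.card_congr
  exact
    { toFun := fun x => ⟨⟨x.1, x.2.1⟩, by
        show orderOf (⟨x.1, x.2.1⟩ : R) = i
        rw [Subgroup.orderOf_mk]
        exact x.2.2⟩
      invFun := fun x => ⟨x.1.1, x.1.2, by rw [Subgroup.orderOf_coe]; exact x.2⟩
      left_inv := fun x => rfl
      right_inv := fun x => rfl }

namespace Dat

variable {K G : Type*} [Field K] [Fintype K] [CharP K 3] [_root_.Group G] (D : Dat K G)

section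

variable [Finite G] (hm : 1 ≤ D.m)

theorem exists_conj_of_fix {x : G} {α : D.Om} (h : x • α = α) : ∃ g : G, g * x * g⁻¹ ∈ D.B := by
  obtain ⟨g, rfl⟩ := QuotientGroup.mk_surjective α
  refine ⟨g⁻¹, ?_⟩
  have h2 : ((QuotientGroup.mk (x * g)) : D.Om) = QuotientGroup.mk g := h
  have h3 := QuotientGroup.eq.1 h2.symm
  have e : g⁻¹ * x * g⁻¹⁻¹ = g⁻¹ * (x * g) := by group
  rw [e]
  exact h3

/-- The coset of the involution does not meet the elements of order three. -/
theorem u_t0_cube_ne (t a b : K) : (D.u t a b * D.t0) ^ 3 ≠ 1 := by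
  have key : ∀ T A B : K, D.u T A B * D.t0 ≠ 1 := by
    intro T A B h
    have h3 := eq_inv_of_mul_eq_one_left h
    rw [D.t0_inv] at h3
    obtain ⟨-, -, -, h5⟩ := D.u_inter_d h3
    have h6 : (-1 : K) = 1 := congrArg Units.val h5
    exact D.neg_one_ne_one h6
  intro h
  rw [pow_succ, pow_two, u_t0_sq, ← mul_assoc, D.u_mul] at h
  exact key _ _ _ h

theorem orderOf_u_t0 {t a b : K} (h : (D.u t a b * D.t0) * (D.u t a b * D.t0) ≠ 1) :
    orderOf (D.u t a b * D.t0) = 6 := by
  set x := D.u t a b * D.t0 with hx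
  have h6 : x ^ 6 = 1 := D.u_t0_pow_six t a b
  have h3 : x ^ 3 ≠ 1 := D.u_t0_cube_ne t a b
  have h2 : x ^ 2 ≠ 1 := by
    rwa [pow_two]
  have hd := orderOf_dvd_of_pow_eq_one h6
  have hcases : orderOf x ∈ Nat.divisors 6 := Nat.mem_divisors.2 ⟨hd, by norm_num⟩
  have hdiv : Nat.divisors 6 = {1, 2, 3, 6} := by decide
  rw [hdiv] at hcases
  simp only [Finset.mem_insert, Finset.mem_singleton] at hcases
  rcases hcases with h1 | h1 | h1 | h1
  · exfalso
    apply h2
    rw [orderOf_eq_one_iff.1 h1, one_pow]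
  · exfalso
    apply h2
    rw [← h1, pow_orderOf_eq_one]
  · exfalso
    apply h3
    rw [← h1, pow_orderOf_eq_one]
  · exact h1

theorem orderOf_u_t0' {t a b : K} (h : (D.u t a b * D.t0) * (D.u t a b * D.t0) = 1) :
    orderOf (D.u t a b * D.t0) ∣ 2 :=
  orderOf_dvd_of_pow_eq_one (by rwa [pow_two])

/-- Description of the elements of the Borel subgroup with order divisible by three. -/
theorem B_cases {x : G} (hx : x ∈ D.B) (h3 : 3 ∣ orderOf x) :
    (∃ t a b, x = D.u t a b) ∨ (∃ t a b, x = D.u t a b * D.t0 ∧ (D.u t a b * D.t0) * (D.u t a b * D.t0) ≠ 1) := by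
  obtain ⟨t, a, b, κ, rfl⟩ := hx
  by_cases hκ : κ ^ 2 = 1
  · have h2 : κ = 1 ∨ κ = -1 := by
      have h3 : ((κ : K) - 1) * ((κ : K) + 1) = 0 := by
        have : ((κ ^ 2 : Kˣ) : K) = 1 := by rw [hκ]; rfl
        push_cast at this
        linear_combination this
      rcases mul_eq_zero.1 h3 with h4 | h4
      · left
        apply Units.ext
        push_cast
        linear_combination h4
      · right
        apply Units.ext
        push_cast
        linear_combination h4
    rcases h2 with rfl | rfl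
    · left
      exact ⟨t, a, b, by rw [map_one, mul_one]⟩
    · right
      refine ⟨t, a, b, rfl, ?_⟩
      intro h
      have h5 := orderOf_u_t0' D h
      have h6 := (h3.trans h5)
      omega
  · exfalso
    obtain ⟨v, -, hv⟩ := D.conj_d_of_coset hκ t a b
    rw [hv, orderOf_conj'] at h3
    have h4 : orderOf (D.d κ) ∣ D.q - 1 := by
      rw [← D.card_H0]
      exact Subgroup.orderOf_dvd_natCard _ (D.d_mem_H0 κ)
    have h5 := h3.trans h4
    have h6 := D.q_mod3
    have h7 := D.q_ge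
    omega

/-- An element of the Borel subgroup of order divisible by three has only one fixed point. -/
theorem B_fix_unique {x : G} (hx : x ∈ D.B) (h3 : 3 ∣ orderOf x) {α : D.Om} (hα : x • α = α) : α = D.p0 := by
  rcases D.B_cases hx h3 with ⟨t, a, b, rfl⟩ | ⟨t, a, b, rfl, h⟩
  · apply D.U_fix (D.u_mem_U t a b) _ hα
    intro h1
    rw [h1, orderOf_one] at h3
    omega
  · rw [u_t0_sq] at h
    apply D.U_fix (D.u_mem_U _ _ _) h
    rw [← u_t0_sq, mul_smul, hα, hα]

include hm in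
theorem exists_fix_of_three {x : G} (h3 : 3 ∣ orderOf x) : ∃ α : D.Om, x • α = α := by
  by_contra hcon
  have hf : D.Fpf x := by
    intro α hα
    exact hcon ⟨α, hα⟩
  rcases D.fpf_cases hm hf with h | h
  · have h1 := h.2
    have h2 : 3 ∣ D.Q1 := by
      rw [Q1]
      exact Dvd.dvd.mul_right (Nat.dvd_of_mod_eq_zero D.q_mod3) _
    have h4 := Nat.eq_one_of_dvd_coprimes h1 h3 h2
    omega
  · obtain ⟨g, s, hs, rfl⟩ := h
    rw [orderOf_conj'] at h3
    have h1 := h3.trans (orderOf_dvd_of_pow_eq_one (D.A0_exp hs.1))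
    have h2 := D.four_n0
    have h4 := D.q_mod3
    omega

include hm in
/-- The number of elements of order divisible by three. -/
theorem count_three {i : ℕ} (hi : 3 ∣ i) : Nat.card {g : G // orderOf g = i} * Nat.card D.B =
    Nat.card G * Nat.card {x : G // x ∈ D.B ∧ orderOf x = i} := by
  refine card_ti {x : G | x ∈ D.B ∧ orderOf x = i} D.B ?_ ?_ {x : G | orderOf x = i} ?_
  · rintro n hn s ⟨hs, hso⟩
    exact ⟨D.B.mul_mem (D.B.mul_mem hn hs) (D.B.inv_mem hn), by rw [orderOf_conj', hso]⟩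
  · rintro g s ⟨hs, hso⟩ ⟨hs', -⟩
    rw [← hso] at hi
    have h1 : (g * s * g⁻¹) • D.p0 = D.p0 := D.smul_p0_iff.2 hs'
    have h2 : s • (g⁻¹ • D.p0) = g⁻¹ • D.p0 := by
      have e : s = g⁻¹ * (g * s * g⁻¹) * g := by group
      rw [← mul_smul]
      have e2 : s * g⁻¹ = g⁻¹ * (g * s * g⁻¹) := by group
      rw [e2, mul_smul, h1]
    have h3 := D.B_fix_unique hs hi h2
    have h4 : g⁻¹ ∈ D.B := D.smul_p0_iff.1 h3
    simpa using D.B.inv_mem h4
  · intro x
    constructor
    · intro hx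
      have hx' : orderOf x = i := hx
      obtain ⟨α, hα⟩ := D.exists_fix_of_three hm (by rw [hx']; exact hi)
      obtain ⟨g, hg⟩ := D.exists_conj_of_fix hα
      refine ⟨g⁻¹, g * x * g⁻¹, ⟨hg, by rw [orderOf_conj']; exact hx'⟩, ?_⟩
      group
    · rintro ⟨g, s, ⟨-, hso⟩, rfl⟩
      change orderOf _ = i
      rw [orderOf_conj', hso]

include D in
theorem card_K_ne_zero : Nat.card {c : K // c ≠ 0} = D.q - 1 := by
  classical
  have e : Nat.card Kˣ = Nat.card {c : K // c ≠ 0} :=
    Nat.card_congr unitsEquivNeZero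
  rw [← e, Nat.card_eq_fintype_card, Fintype.card_units, D.card_K']

theorem orderOf_u_zero_ne {t a b : K} (ht : t = 0) (h : a ≠ 0 ∨ b ≠ 0) : orderOf (D.u t a b) = 3 :=
  D.orderOf_u_three ht h

/-- The elements of order three of the Borel subgroup. -/
theorem card_S3 : Nat.card {x : G // x ∈ D.B ∧ orderOf x = 3} = D.q ^ 2 - 1 := by
  classical
  have h0 : ∀ p : {p : K × K // p ≠ 0}, p.1.1 ≠ 0 ∨ p.1.2 ≠ 0 := by
    rintro ⟨⟨a, b⟩, hp⟩
    by_contra hcon
    push Not at hcon
    exact hp (Prod.ext hcon.1 hcon.2)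
  let F : {p : K × K // p ≠ 0} → {x : G // x ∈ D.B ∧ orderOf x = 3} := fun p =>
    ⟨D.u 0 p.1.1 p.1.2, D.u_mem_B _ _ _, D.orderOf_u_three rfl (h0 p)⟩
  have hF : Function.Bijective F := by
    constructor
    · rintro ⟨⟨a, b⟩, hp⟩ ⟨⟨a', b'⟩, hp'⟩ h
      have h1 : D.u 0 a b = D.u 0 a' b' := congrArg Subtype.val h
      obtain ⟨-, rfl, rfl⟩ := D.u_inj h1
      rfl
    · rintro ⟨x, hx, hxo⟩
      rcases D.B_cases hx (by rw [hxo]) with ⟨t, a, b, rfl⟩ | ⟨t, a, b, rfl, h⟩
      · by_cases ht : t = 0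
        · subst ht
          have hp : (a, b) ≠ (0 : K × K) := by
            intro h
            obtain ⟨rfl, rfl⟩ := Prod.mk.inj h
            rw [D.u_zero, orderOf_one] at hxo
            omega
          exact ⟨⟨(a, b), hp⟩, rfl⟩
        · rw [D.orderOf_u_nine ht] at hxo
          omega
      · rw [D.orderOf_u_t0 h] at hxo
        omega
  rw [← Nat.card_congr (Equiv.ofBijective F hF), Nat.card_eq_fintype_card, Fintype.card_subtype_compl,
    Fintype.card_subtype_eq, Fintype.card_prod, D.card_K', pow_two]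

/-- The elements of order nine of the Borel subgroup. -/
theorem card_S9 : Nat.card {x : G // x ∈ D.B ∧ orderOf x = 9} = D.q ^ 2 * (D.q - 1) := by
  classical
  let F : {c : K // c ≠ 0} × K × K → {x : G // x ∈ D.B ∧ orderOf x = 9} := fun p =>
    ⟨D.u p.1.1 p.2.1 p.2.2, D.u_mem_B _ _ _, D.orderOf_u_nine p.1.2⟩
  have hF : Function.Bijective F := by
    constructor
    · rintro ⟨⟨t, ht⟩, a, b⟩ ⟨⟨t', ht'⟩, a', b'⟩ h
      have h1 : D.u t a b = D.u t' a' b' := congrArg Subtype.val h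
      obtain ⟨rfl, rfl, rfl⟩ := D.u_inj h1
      rfl
    · rintro ⟨x, hx, hxo⟩
      rcases D.B_cases hx (by rw [hxo]; norm_num) with ⟨t, a, b, rfl⟩ | ⟨t, a, b, rfl, h⟩
      · by_cases ht : t = 0
        · exfalso
          by_cases hh : a ≠ 0 ∨ b ≠ 0
          · rw [D.orderOf_u_three ht hh] at hxo
            omega
          · push Not at hh
            rw [ht, hh.1, hh.2, D.u_zero, orderOf_one] at hxo
            omega
        · exact ⟨⟨⟨t, ht⟩, a, b⟩, rfl⟩
      · rw [D.orderOf_u_t0 h] at hxo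
        omega
  rw [← Nat.card_congr (Equiv.ofBijective F hF), Nat.card_prod, Nat.card_prod, D.card_K_ne_zero,
    Nat.card_eq_fintype_card (α := K), D.card_K']
  ring

/-- The elements of order six of the Borel subgroup. -/
theorem card_S6 : Nat.card {x : G // x ∈ D.B ∧ orderOf x = 6} = D.q ^ 2 * (D.q - 1) := by
  classical
  have h0 : ∀ p : K × {c : K // c ≠ 0} × K,
      (D.u p.1 (p.1 * D.f.φ p.1 + p.2.1.1) p.2.2 * D.t0) * (D.u p.1 (p.1 * D.f.φ p.1 + p.2.1.1) p.2.2 * D.t0) ≠ 1 := by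
    rintro ⟨t, ⟨c, hc⟩, b⟩ h
    rw [u_t0_sq_eq_one_iff] at h
    apply hc
    linear_combination h
  let F : K × {c : K // c ≠ 0} × K → {x : G // x ∈ D.B ∧ orderOf x = 6} := fun p =>
    ⟨D.u p.1 (p.1 * D.f.φ p.1 + p.2.1.1) p.2.2 * D.t0, D.B.mul_mem (D.u_mem_B _ _ _) (D.t0_mem_B),
      D.orderOf_u_t0 (h0 p)⟩
  have hF : Function.Bijective F := by
    constructor
    · rintro ⟨t, ⟨c, hc⟩, b⟩ ⟨t', ⟨c', hc'⟩, b'⟩ h
      have h1 : D.u t (t * D.f.φ t + c) b * D.t0 = D.u t' (t' * D.f.φ t' + c') b' * D.t0 := congrArg Subtype.val h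
      obtain ⟨rfl, h2, rfl⟩ := D.u_inj (mul_right_cancel h1)
      have h3 : c = c' := by linear_combination h2
      subst h3
      rfl
    · rintro ⟨x, hx, hxo⟩
      rcases D.B_cases hx (by rw [hxo]; norm_num) with ⟨t, a, b, rfl⟩ | ⟨t, a, b, rfl, h⟩
      · exfalso
        have h6 := orderOf_dvd_of_pow_eq_one (show D.u t a b ^ 9 = 1 from D.u_pow_nine t a b)
        rw [hxo] at h6
        omega
      · have hc : a - t * D.f.φ t ≠ 0 := by
          intro hc
          apply h
          rw [u_t0_sq_eq_one_iff]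
          linear_combination hc
        refine ⟨⟨t, ⟨a - t * D.f.φ t, hc⟩, b⟩, Subtype.ext ?_⟩
        change D.u t (t * D.f.φ t + (a - t * D.f.φ t)) b * D.t0 = _
        congr 2
        ring
  rw [← Nat.card_congr (Equiv.ofBijective F hF), Nat.card_prod, Nat.card_prod, D.card_K_ne_zero,
    Nat.card_eq_fintype_card (α := K), D.card_K']
  ring

end

end Dat

end Cfsg.Agent.Lib.Ree.Abs
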