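import Cfsg.Agent.Lib.Ree.Abs23

/-!
# The abstract Ree group: the number of elements of each order (continued)
-/

set_option autoImplicit false
set_option linter.unusedSectionVars false
set_option linter.unusedSimpArgs false
set_option linter.unnecessarySeqFocus false

namespace Cfsg.Agent.Lib.Ree.Abs

open Matrix Cfsg.Agent.Lib.Ree.Sigma Cfsg.Agent.Lib.Ree.Words Cfsg.Agent.Lib.Ree.Psi
open scoped MatrixGroups Pointwise BigOperators

/-- Elements of order `2 i`, `i` odd, in an abelian subgroup. -/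
theorem card_order_two_mul {Γ : Type*} [_root_.Group Γ] (R : Subgroup Γ) (hcomm : ∀ a ∈ R, ∀ b ∈ R, a * b = b * a)
    {i : ℕ} (hodd : Odd i) :
    Nat.card {x : Γ // x ∈ R ∧ orderOf x = 2 * i} =
      Nat.card {x : Γ // x ∈ R ∧ orderOf x = i} * Nat.card {x : Γ // x ∈ R ∧ orderOf x = 2} := by
  obtain ⟨k, rfl⟩ := hodd
  set i := 2 * k + 1 with hi
  have hcop : Nat.Coprime i 2 := by
    rw [Nat.coprime_two_right]
    exact ⟨k, rfl⟩
  have hfacts : ∀ x : Γ, x ∈ R → orderOf x = 2 * i →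
      orderOf (x ^ (i + 1)) = i ∧ orderOf (x ^ i) = 2 := by
    intro x hx hxo
    have hpow : x ^ (2 * i) = 1 := by
      rw [← hxo, pow_orderOf_eq_one]
    have hv : orderOf (x ^ i) = 2 := by
      apply orderOf_eq_prime
      · rw [← pow_mul, mul_comm, hpow]
      · intro h
        have h1 := orderOf_dvd_of_pow_eq_one h
        rw [hxo] at h1
        have h2 := Nat.le_of_dvd (by omega) h1
        omega
    have hz : x ^ (i + 1) ^ 1 = x ^ (i + 1) := by rw [pow_one]
    have hzi : (x ^ (i + 1)) ^ i = 1 := by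
      have e : (i + 1) * i = (2 * i) * (k + 1) := by
        rw [hi]
        ring
      rw [← pow_mul, e, pow_mul, hpow, one_pow]
    have hd : orderOf (x ^ (i + 1)) ∣ i := orderOf_dvd_of_pow_eq_one hzi
    have hcomm' : Commute (x ^ (i + 1)) (x ^ i) := (Commute.refl x).pow_pow _ _
    have hmul : x ^ (i + 1) * x ^ i = x := by
      rw [← pow_add]
      have e : i + 1 + i = 2 * i + 1 := by ring
      rw [e, pow_succ, hpow, one_mul]
    have hco : Nat.Coprime (orderOf (x ^ (i + 1))) (orderOf (x ^ i)) := by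
      rw [hv]
      exact Nat.Coprime.coprime_dvd_left hd hcop
    have h1 := hcomm'.orderOf_mul_eq_mul_orderOf_of_coprime hco
    rw [hmul, hxo, hv] at h1
    refine ⟨?_, hv⟩
    omega
  let F : {x : Γ // x ∈ R ∧ orderOf x = 2 * i} →
      {x : Γ // x ∈ R ∧ orderOf x = i} × {x : Γ // x ∈ R ∧ orderOf x = 2} := fun x =>
    (⟨x.1 ^ (i + 1), R.pow_mem x.2.1 _, (hfacts x.1 x.2.1 x.2.2).1⟩,
      ⟨x.1 ^ i, R.pow_mem x.2.1 _, (hfacts x.1 x.2.1 x.2.2).2⟩)
  have hF : Function.Bijective F := by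
    constructor
    · rintro ⟨x, hx, hxo⟩ ⟨y, hy, hyo⟩ h
      have h1 : x ^ (i + 1) = y ^ (i + 1) := congrArg (fun p => p.1.1) h
      have h2 : x ^ i = y ^ i := congrArg (fun p => p.2.1) h
      apply Subtype.ext
      have hx1 : x ^ (2 * i) = 1 := by rw [← hxo, pow_orderOf_eq_one]
      have hy1 : y ^ (2 * i) = 1 := by rw [← hyo, pow_orderOf_eq_one]
      have e : 2 * i + 1 = i + 1 + i := by ring
      have ex : x = x ^ (i + 1) * x ^ i := by
        rw [← pow_add, ← e, pow_succ, hx1, one_mul]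
      have ey : y = y ^ (i + 1) * y ^ i := by
        rw [← pow_add, ← e, pow_succ, hy1, one_mul]
      change x = y
      rw [ex, ey, h1, h2]
    · rintro ⟨⟨z, hz, hzo⟩, ⟨v, hv, hvo⟩⟩
      have hc : Commute z v := hcomm z hz v hv
      have hzi : z ^ i = 1 := by rw [← hzo, pow_orderOf_eq_one]
      have hv2 : v ^ 2 = 1 := by rw [← hvo, pow_orderOf_eq_one]
      refine ⟨⟨z * v, R.mul_mem hz hv, ?_⟩, ?_⟩
      · rw [hc.orderOf_mul_eq_mul_orderOf_of_coprime (by rw [hzo, hvo]; exact hcop), hzo, hvo, mul_comm]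
      · apply Prod.ext
        · apply Subtype.ext
          change (z * v) ^ (i + 1) = z
          have e : i + 1 = 2 * (k + 1) := by
            rw [hi]
            ring
          rw [hc.mul_pow, pow_succ z, hzi, one_mul, e, pow_mul v, hv2, one_pow, mul_one]
        · apply Subtype.ext
          change (z * v) ^ i = v
          rw [hc.mul_pow, hzi, one_mul, hi, pow_succ, pow_mul, hv2, one_pow, one_mul]
  rw [Nat.card_congr (Equiv.ofBijective F hF), Nat.card_prod]

namespace Dat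

variable {K G : Type*} [Field K] [Fintype K] [CharP K 3] [_root_.Group G] (D : Dat K G)

section

variable [Finite G] (hm : 1 ≤ D.m)

include D in
theorem tau_prod : (D.q + 3 ^ (D.m + 1) + 1) * (D.q - 3 ^ (D.m + 1) + 1) = D.Dd := by
  have hrq : 3 ^ (D.m + 1) ≤ D.q := Nat.pow_le_pow_right (by norm_num) (by omega)
  have hr2 : (3 ^ (D.m + 1)) ^ 2 = 3 * D.q := by
    rw [q]
    ring
  have hD := D.Dd_add
  generalize 3 ^ (D.m + 1) = r at *
  obtain ⟨s, hs⟩ : ∃ s, D.q = r + s := ⟨D.q - r, by omega⟩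
  rw [hs] at hr2 hD ⊢
  have e : r + s - r + 1 = s + 1 := by omega
  rw [e]
  nlinarith

include hm

/-- The number of elements of order dividing `q - 1`. -/
theorem count_H0 {i : ℕ} (hi : 2 < i) (hd : i ∣ D.q - 1) :
    2 * Nat.card {g : G // orderOf g = i} = Nat.totient i * D.q ^ 3 * (D.q ^ 3 + 1) := by
  have hC : ∀ s ∈ D.H0, orderOf s = i → Subgroup.centralizer {s} = D.H0 := by
    rintro _ ⟨κ, rfl⟩ hso
    apply D.cent_d
    intro h
    have h1 : orderOf (D.d κ) ∣ 2 := orderOf_dvd_of_pow_eq_one (by rw [← map_pow, h, map_one])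
    rw [hso] at h1
    have := Nat.le_of_dvd (by norm_num) h1
    omega
  have hall : ∀ x : G, orderOf x = i → ∃ g : G, g * x * g⁻¹ ∈ D.H0 := by
    intro x hx
    have hi2 : i ∣ 2 * Nat.gcd i D.m0 := by
      rw [← Nat.gcd_mul_left]
      apply Nat.dvd_gcd (Dvd.intro_left _ rfl)
      rw [D.two_m0]
      exact hd
    have hj : Nat.gcd i D.m0 ≠ 1 := by
      intro h
      rw [h] at hi2
      have := Nat.le_of_dvd (by norm_num) hi2
      omega
    have hp := Nat.minFac_prime hj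
    have hp1 : (Nat.gcd i D.m0).minFac ∣ i := (Nat.minFac_dvd _).trans (Nat.gcd_dvd_left _ _)
    have hp3 : (Nat.gcd i D.m0).minFac ∣ D.m0 := (Nat.minFac_dvd _).trans (Nat.gcd_dvd_right _ _)
    generalize (Nat.gcd i D.m0).minFac = p at hp hp1 hp3
    have hp2 : p ≠ 2 := by
      rintro rfl
      have := D.m0_odd
      omega
    have hpq : p ∣ D.q - 1 := by
      rw [← D.two_m0]
      exact hp3.trans (Dvd.intro_left _ rfl)
    have hyo : orderOf (x ^ (orderOf x / p)) = p :=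
      orderOf_pow_orderOf_div (orderOf_pos x).ne' (by rw [hx]; exact hp1)
    obtain ⟨n, κ, he, hκ⟩ := D.conj_d_of_prime hp hp2 hpq hyo
    refine ⟨n⁻¹, ?_⟩
    rw [inv_inv, ← D.cent_d hκ, Subgroup.mem_centralizer_singleton_iff, ← he]
    have hc : x * x ^ (orderOf x / p) = x ^ (orderOf x / p) * x := ((Commute.refl x).pow_right _).eq
    calc n⁻¹ * x * n * (n⁻¹ * x ^ (orderOf x / p) * n) = n⁻¹ * (x * x ^ (orderOf x / p)) * n := by group
      _ = n⁻¹ * (x ^ (orderOf x / p) * x) * n := by rw [hc]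
      _ = _ := by group
  have h := count_cent D.H0 i hC hall
  rw [count_in_cyclic D.H0_cyclic (by rw [D.card_H0]; exact hd), D.card_norm_H0 hm, D.card_G'] at h
  apply Nat.eq_of_mul_eq_mul_right D.q_sub_pos
  calc 2 * Nat.card {g : G // orderOf g = i} * (D.q - 1) = Nat.card {g : G // orderOf g = i} * (2 * (D.q - 1)) := by ring
    _ = _ := h
    _ = _ := by ring

omit hm in
theorem cent_A0_of_order {s : G} (hs : s ∈ D.A0) {i : ℕ} (hi : 1 < i) (hd : i ∣ D.n0) (hso : orderOf s = i) :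
    Subgroup.centralizer {s} = D.A0 := by
  have hp : i.minFac.Prime := Nat.minFac_prime (by omega)
  have hodd : Odd i := Odd.of_dvd_nat (Nat.odd_iff.2 D.n0_odd) hd
  have hsX : s ∈ D.X1 := D.odd_mem_X1 hs (by rwa [hso])
  have hyo : orderOf (s ^ (orderOf s / i.minFac)) = i.minFac :=
    orderOf_pow_orderOf_div (orderOf_pos s).ne' (by rw [hso]; exact Nat.minFac_dvd _)
  have hy := D.cent_rot (D.X1.pow_mem hsX _) hp ((Nat.minFac_dvd _).trans hd) hyo
  apply le_antisymm
  · intro t ht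
    rw [← hy]
    rw [Subgroup.mem_centralizer_singleton_iff] at ht ⊢
    exact Commute.pow_right (show Commute t s from ht) _
  · intro t ht
    rw [Subgroup.mem_centralizer_singleton_iff]
    exact D.A0_comm ht hs

theorem conj_X1_of_order {x : G} {i : ℕ} (hi : 1 < i) (hd : i ∣ D.n0) (hxo : orderOf x = i) :
    ∃ g : G, g * x * g⁻¹ ∈ D.X1 := by
  have hc : Nat.card (Subgroup.zpowers x) = i := by rw [Nat.card_zpowers, hxo]
  obtain ⟨g, hg⟩ := D.cyc_conj_X1 hm (inferInstance : IsCyclic (Subgroup.zpowers x)) (by rw [hc]; exact hd)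
    (by rw [hc]; omega)
  exact ⟨g, hg ⟨x, Subgroup.mem_zpowers x, rfl⟩⟩

omit hm in
theorem count_A0_odd {i : ℕ} (hd : i ∣ D.n0) : Nat.card {x : G // x ∈ D.A0 ∧ orderOf x = i} = Nat.totient i := by
  have hodd : Odd i := Odd.of_dvd_nat (Nat.odd_iff.2 D.n0_odd) hd
  have hX : Nat.card D.X1 = 2 * D.n0 := by
    have h3 := D.card_X1
    rw [← D.four_n0] at h3
    omega
  rw [← count_in_cyclic D.X1_cyclic (by rw [hX]; exact hd.trans (Dvd.intro_left _ rfl))]
  apply Nat.card_congr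
  apply Equiv.subtypeEquivRight
  intro x
  constructor
  · rintro ⟨h1, h2⟩
    exact ⟨D.odd_mem_X1 h1 (by rwa [h2]), h2⟩
  · rintro ⟨h1, h2⟩
    exact ⟨D.X1_le_A0 h1, h2⟩

include D in
theorem count_A0_two : Nat.card {x : G // x ∈ D.A0 ∧ orderOf x = 2} = 3 := by
  classical
  have hw1 := D.w_ne_one
  have ht1 := D.t0_ne
  have hw2 : D.w * D.w = 1 := D.w_mul_w
  have htw : D.t0 * D.w ∈ D.A0 := D.A0.mul_mem D.t0_mem_A0 D.w_mem_A0
  have htw2 : D.t0 * D.w * (D.t0 * D.w) = 1 := by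
    calc D.t0 * D.w * (D.t0 * D.w) = D.t0 * (D.w * D.t0) * D.w := by group
      _ = D.t0 * (D.t0 * D.w) * D.w := by rw [D.w_comm_t0]
      _ = (D.t0 * D.t0) * (D.w * D.w) := by group
      _ = 1 := by rw [D.t0_sq, hw2, one_mul]
  have e : {x : G | x ∈ D.A0 ∧ orderOf x = 2} = ({D.t0, D.w, D.t0 * D.w} : Set G) := by
    ext x
    simp only [Set.mem_setOf_eq, Set.mem_insert_iff, Set.mem_singleton_iff]
    constructor
    · rintro ⟨h1, h2⟩
      have h3 : x * x = 1 := by
        rw [← pow_two, ← h2, pow_orderOf_eq_one]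
      apply D.inv_A0 hm h1 h3
      rintro rfl
      rw [orderOf_one] at h2
      omega
    · have key : ∀ y : G, y * y = 1 → y ≠ 1 → orderOf y = 2 := by
        intro y hy hy1
        apply orderOf_eq_prime
        · rwa [pow_two]
        · exact hy1
      rintro (rfl | rfl | rfl)
      · exact ⟨D.t0_mem_A0, key _ D.t0_sq ht1⟩
      · exact ⟨D.w_mem_A0, key _ hw2 hw1⟩
      · exact ⟨htw, key _ htw2 D.S0_ne_t0_w⟩
  have e2 : Nat.card {x : G // x ∈ D.A0 ∧ orderOf x = 2} = Nat.card ↥({D.t0, D.w, D.t0 * D.w} : Set G) := by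
    rw [← e]
    rfl
  rw [e2, Nat.card_coe_set_eq]
  have hne1 : D.t0 ≠ D.w := by
    intro h
    apply D.t0_not_mem_X1
    rw [h]
    exact D.w_mem_X1
  have hne2 : D.t0 ≠ D.t0 * D.w := by
    intro h
    apply hw1
    exact (mul_eq_left).1 h.symm
  have hne3 : D.w ≠ D.t0 * D.w := by
    intro h
    apply ht1
    exact (mul_eq_right).1 h.symm
  rw [Set.ncard_eq_toFinset_card']
  simp [hne1, hne2, hne3, Finset.card_insert_of_notMem]

/-- The number of elements of order dividing `(q + 1) / 4`. -/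
theorem count_A0 {i : ℕ} (hi : 1 < i) (hd : i ∣ D.n0) :
    6 * Nat.card {g : G // orderOf g = i} = Nat.totient i * D.q ^ 3 * (D.q - 1) * D.Dd := by
  have h := count_cent D.A0 i (fun s hs hso => D.cent_A0_of_order hs hi hd hso) (fun x hx => by
    obtain ⟨g, hg⟩ := D.conj_X1_of_order hm hi hd hx
    exact ⟨g, D.X1_le_A0 hg⟩)
  rw [D.count_A0_odd hd, D.card_norm_A0 hm, D.card_G', D.cube_eq] at h
  have hq : 0 < D.q + 1 := Nat.succ_pos _
  apply Nat.eq_of_mul_eq_mul_right hq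
  calc 6 * Nat.card {g : G // orderOf g = i} * (D.q + 1) = Nat.card {g : G // orderOf g = i} * (6 * (D.q + 1)) := by ring
    _ = _ := h
    _ = _ := by ring

/-- The number of elements of order twice a divisor of `(q + 1) / 4`. -/
theorem count_A0' {i : ℕ} (hi : 1 < i) (hd : i ∣ D.n0) :
    2 * Nat.card {g : G // orderOf g = 2 * i} = Nat.totient i * D.q ^ 3 * (D.q - 1) * D.Dd := by
  have hodd : Odd i := Odd.of_dvd_nat (Nat.odd_iff.2 D.n0_odd) hd
  have hsq : ∀ s : G, orderOf s = 2 * i → orderOf (s ^ 2) = i := by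
    intro s hs
    rw [orderOf_pow_of_dvd (by norm_num) (by rw [hs]; exact Dvd.intro _ rfl), hs]
    omega
  have hC : ∀ s ∈ D.A0, orderOf s = 2 * i → Subgroup.centralizer {s} = D.A0 := by
    intro s hs hso
    have h1 := D.cent_A0_of_order (D.A0.pow_mem hs 2) hi hd (hsq s hso)
    apply le_antisymm
    · intro t ht
      rw [← h1]
      rw [Subgroup.mem_centralizer_singleton_iff] at ht ⊢
      exact Commute.pow_right (show Commute t s from ht) _
    · intro t ht
      rw [Subgroup.mem_centralizer_singleton_iff]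
      exact D.A0_comm ht hs
  have hall : ∀ x : G, orderOf x = 2 * i → ∃ g : G, g * x * g⁻¹ ∈ D.A0 := by
    intro x hx
    obtain ⟨g, hg⟩ := D.conj_X1_of_order hm hi hd (hsq x hx)
    refine ⟨g, ?_⟩
    have h1 := D.cent_A0_of_order (D.X1_le_A0 hg) hi hd (by rw [orderOf_conj', hsq x hx])
    rw [← h1, Subgroup.mem_centralizer_singleton_iff]
    have hc : x * x ^ 2 = x ^ 2 * x := ((Commute.refl x).pow_right _).eq
    calc g * x * g⁻¹ * (g * x ^ 2 * g⁻¹) = g * (x * x ^ 2) * g⁻¹ := by group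
      _ = g * (x ^ 2 * x) * g⁻¹ := by rw [hc]
      _ = _ := by group
  have h := count_cent D.A0 (2 * i) hC hall
  rw [card_order_two_mul D.A0 (fun a ha b hb => D.A0_comm ha hb) hodd, D.count_A0_odd hd, D.count_A0_two hm,
    D.card_norm_A0 hm, D.card_G', D.cube_eq] at h
  have hq : 0 < 3 * (D.q + 1) := by positivity
  apply Nat.eq_of_mul_eq_mul_right hq
  calc 2 * Nat.card {g : G // orderOf g = 2 * i} * (3 * (D.q + 1)) = Nat.card {g : G // orderOf g = 2 * i} * (6 * (D.q + 1)) := by ring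
    _ = _ := h
    _ = _ := by ring

/-- The number of elements in a torus. -/
theorem count_tor (A₁ A₂ : D.Tor) (hall : ∀ A : D.Tor, (∃ x : G, A = x • A₁) ∨ (∃ x : G, A = x • A₂))
    (hcop : Nat.Coprime (Nat.card A₁.1) (Nat.card A₂.1)) {i : ℕ} (hi : 1 < i) (hd : i ∣ Nat.card A₂.1) :
    Nat.card {g : G // orderOf g = i} * Nat.card (Subgroup.normalizer ((A₂.1 : Subgroup G) : Set G)) =
      Nat.card G * Nat.totient i := by
  obtain ⟨hcyc, -⟩ := D.torus_props hm A₂
  have hC : ∀ s ∈ A₂.1, orderOf s = i → Subgroup.centralizer {s} = A₂.1 := by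
    intro s hs hso
    obtain ⟨x, hx, hA⟩ := A₂.2
    have hs1 : s ≠ 1 := by
      rintro rfl
      rw [orderOf_one] at hso
      omega
    rw [hA] at hs ⊢
    exact hx.cent_eq hm hs hs1
  have hall' : ∀ x : G, orderOf x = i → ∃ g : G, g * x * g⁻¹ ∈ A₂.1 := by
    intro x hx
    have hc : Nat.card (Subgroup.zpowers x) = i := by rw [Nat.card_zpowers, hx]
    obtain ⟨g, hg⟩ := D.cyc_conj_tor hm A₁ A₂ hall hcop (inferInstance : IsCyclic (Subgroup.zpowers x))
      (by rw [hc]; exact hd) (by rw [hc]; omega)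
    exact ⟨g, hg ⟨x, Subgroup.mem_zpowers x, rfl⟩⟩
  have h := count_cent A₂.1 i hC hall'
  rwa [count_in_cyclic hcyc hd] at h

/-- The number of elements of each order. -/
theorem count_main :
    Nat.card {g : G // orderOf g = 2} = D.q ^ 2 * (D.q ^ 2 - D.q + 1) ∧
    Nat.card {g : G // orderOf g = 3} = (D.q ^ 2 - 1) * (D.q ^ 3 + 1) ∧
    Nat.card {g : G // orderOf g = 6} = D.q ^ 2 * (D.q - 1) * (D.q ^ 3 + 1) ∧
    Nat.card {g : G // orderOf g = 9} = D.q ^ 2 * (D.q - 1) * (D.q ^ 3 + 1) ∧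
    (∀ i : ℕ, 2 < i → i ∣ D.q - 1 →
      2 * Nat.card {g : G // orderOf g = i} = Nat.totient i * D.q ^ 3 * (D.q ^ 3 + 1)) ∧
    (∀ i : ℕ, 1 < i → i ∣ (D.q + 1) / 4 →
      6 * Nat.card {g : G // orderOf g = i} =
          Nat.totient i * D.q ^ 3 * (D.q - 1) * (D.q ^ 2 - D.q + 1) ∧
        2 * Nat.card {g : G // orderOf g = 2 * i} =
          Nat.totient i * D.q ^ 3 * (D.q - 1) * (D.q ^ 2 - D.q + 1)) ∧
    (∀ i : ℕ, 1 < i → i ∣ D.q - 3 ^ (D.m + 1) + 1 →
      6 * Nat.card {g : G // orderOf g = i} =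
        Nat.totient i * D.q ^ 3 * (D.q ^ 2 - 1) * (D.q + 3 ^ (D.m + 1) + 1)) ∧
    (∀ i : ℕ, 1 < i → i ∣ D.q + 3 ^ (D.m + 1) + 1 →
      6 * Nat.card {g : G // orderOf g = i} =
        Nat.totient i * D.q ^ 3 * (D.q ^ 2 - 1) * (D.q - 3 ^ (D.m + 1) + 1)) := by
  have hqpos : 0 < D.q ^ 3 * (D.q - 1) := Nat.mul_pos (pow_pos D.q_pos 3) D.q_sub_pos
  have hfix : ∀ {i s : ℕ}, 3 ∣ i → Nat.card {x : G // x ∈ D.B ∧ orderOf x = i} = s →
      Nat.card {g : G // orderOf g = i} = s * (D.q ^ 3 + 1) := by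
    intro i s hi hs
    have h := D.count_three hm hi
    rw [hs, D.card_B, D.card_G'] at h
    apply Nat.eq_of_mul_eq_mul_right hqpos
    calc Nat.card {g : G // orderOf g = i} * (D.q ^ 3 * (D.q - 1)) = _ := h
      _ = _ := by ring
  obtain ⟨A₁, A₂, hall, hN1, hN2, h1, h2⟩ := D.tori_main hm
  have hr : 0 < 3 ^ (D.m + 1) := by positivity
  have hrq : 3 ^ (D.m + 1) ≤ D.q := Nat.pow_le_pow_right (by norm_num) (by omega)
  have hne : ¬ ∃ x : G, A₂ = x • A₁ := by
    rintro ⟨x, hx⟩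
    have := congrArg (fun T : D.Tor => Nat.card T.1) hx
    simp only [D.card_smul, h1, h2] at this
    omega
  have hcop := D.tori_coprime hm A₁ A₂ hne
  have hall' : ∀ A : D.Tor, (∃ x : G, A = x • A₂) ∨ (∃ x : G, A = x • A₁) := fun A => (hall A).symm
  have hprod := D.tau_prod
  have hcG : Nat.card G = D.q ^ 3 * ((D.q ^ 2 - 1) * (D.q + 3 ^ (D.m + 1) + 1) * (D.q - 3 ^ (D.m + 1) + 1)) := by
    rw [D.card_G', D.cube_eq, ← hprod, D.sq_sub_one]
    ring
  refine ⟨?_, hfix (by norm_num) D.card_S3, hfix (by norm_num) D.card_S6, hfix (by norm_num) D.card_S9, ?_, ?_, ?_, ?_⟩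
  · rw [show D.q ^ 2 - D.q + 1 = D.Dd from rfl, ← D.card_invSet hm]
    apply Nat.card_congr
    apply Equiv.subtypeEquivRight
    intro x
    constructor
    · intro h
      have h3 : x ^ 2 = 1 := by rw [← h, pow_orderOf_eq_one]
      refine ⟨by rwa [pow_two] at h3, ?_⟩
      rintro rfl
      rw [orderOf_one] at h
      omega
    · rintro ⟨h3, h4⟩
      exact orderOf_eq_prime (by rwa [pow_two]) h4
  · intro i hi hd
    exact D.count_H0 hm hi hd
  · intro i hi hd
    exact ⟨D.count_A0 hm hi hd, D.count_A0' hm hi hd⟩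
  · intro i hi hd
    have h := D.count_tor hm A₁ A₂ hall hcop hi (by rw [h2]; exact hd)
    rw [hN2, h2, hcG] at h
    have hq : 0 < D.q - 3 ^ (D.m + 1) + 1 := Nat.succ_pos _
    apply Nat.eq_of_mul_eq_mul_right hq
    calc 6 * Nat.card {g : G // orderOf g = i} * (D.q - 3 ^ (D.m + 1) + 1)
        = Nat.card {g : G // orderOf g = i} * (6 * (D.q - 3 ^ (D.m + 1) + 1)) := by ring
      _ = _ := h
      _ = _ := by ring
  · intro i hi hd
    have h := D.count_tor hm A₂ A₁ hall' hcop.symm hi (by rw [h1]; exact hd)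
    rw [hN1, h1, hcG] at h
    have hq : 0 < D.q + 3 ^ (D.m + 1) + 1 := Nat.succ_pos _
    apply Nat.eq_of_mul_eq_mul_right hq
    calc 6 * Nat.card {g : G // orderOf g = i} * (D.q + 3 ^ (D.m + 1) + 1)
        = Nat.card {g : G // orderOf g = i} * (6 * (D.q + 3 ^ (D.m + 1) + 1)) := by ring
      _ = _ := h
      _ = _ := by ring

end

end Dat

end Cfsg.Agent.Lib.Ree.Abs
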