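import Cfsg.Agent.Lib.Ree.Abs24

/-!
# The abstract Ree group: Klein four subgroups
-/

set_option autoImplicit false
set_option linter.unusedSectionVars false
set_option linter.unusedSimpArgs false
set_option linter.unnecessarySeqFocus false

namespace Cfsg.Agent.Lib.Ree.Abs

open Matrix Cfsg.Agent.Lib.Ree.Sigma Cfsg.Agent.Lib.Ree.Words Cfsg.Agent.Lib.Ree.Psi
open scoped MatrixGroups Pointwise BigOperators

section Generic

variable {Γ : Type*} [_root_.Group Γ]

/-- A solvable nontrivial group has a nontrivial abelian normal subgroup, which is either the whole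
group or contained in the commutator subgroup. -/
theorem exists_abelian_normal (hS : _root_.Group.IsSolvable Γ) (hnt : Nontrivial Γ) :
    ∃ D : Subgroup Γ, D ≠ ⊥ ∧ D.Normal ∧ (∀ a ∈ D, ∀ b ∈ D, a * b = b * a) ∧
      (D = ⊤ ∨ D ≤ commutator Γ) := by
  classical
  have hex : ∃ n, derivedSeries Γ n = ⊥ := (_root_.Group.isSolvable_def Γ).1 hS
  have hk := Nat.find_spec hex
  have hmin := fun j => Nat.find_min hex (m := j)
  generalize Nat.find hex = k at hk hmin
  cases k with
  | zero =>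
    rw [derivedSeries_zero] at hk
    exact absurd hk top_ne_bot
  | succ j =>
    refine ⟨derivedSeries Γ j, hmin j (Nat.lt_succ_self j), derivedSeries_normal Γ j, ?_, ?_⟩
    · intro a ha b hb
      have h1 := Subgroup.commutator_mem_commutator ha hb
      rw [← derivedSeries_succ, hk, Subgroup.mem_bot] at h1
      exact commutatorElement_eq_one_iff_mul_comm.1 h1
    · cases j with
      | zero =>
        left
        rw [derivedSeries_zero]
      | succ i =>
        right
        rw [← derivedSeries_one]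
        exact derivedSeries_antitone Γ (show 1 ≤ i + 1 by omega)

/-- Torsion elements in an abelian subgroup. -/
def torsionSub (R : Subgroup Γ) (hc : ∀ a ∈ R, ∀ b ∈ R, a * b = b * a) (p : ℕ) : Subgroup Γ where
  carrier := {x | x ∈ R ∧ x ^ p = 1}
  one_mem' := ⟨R.one_mem, one_pow _⟩
  mul_mem' := by
    rintro a b ⟨ha, hpa⟩ ⟨hb, hpb⟩
    exact ⟨R.mul_mem ha hb, by rw [(show Commute a b from hc a ha b hb).mul_pow, hpa, hpb, one_mul]⟩
  inv_mem' := by
    rintro a ⟨ha, hpa⟩
    exact ⟨R.inv_mem ha, by rw [inv_pow, hpa, inv_one]⟩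

theorem mem_torsionSub {R : Subgroup Γ} {hc : ∀ a ∈ R, ∀ b ∈ R, a * b = b * a} {p : ℕ} {x : Γ} :
    x ∈ torsionSub R hc p ↔ x ∈ R ∧ x ^ p = 1 := Iff.rfl

theorem le_norm_of_forall {H S : Subgroup Γ} (h : ∀ s ∈ S, ∀ x ∈ H, s * x * s⁻¹ ∈ H) :
    S ≤ Subgroup.normalizer (H : Set Γ) := by
  intro s hs
  rw [Subgroup.mem_normalizer_iff]
  intro x
  refine ⟨h s hs x, fun hx => ?_⟩
  have h1 := h s⁻¹ (S.inv_mem hs) _ hx
  have e : s⁻¹ * (s * x * s⁻¹) * s⁻¹⁻¹ = x := by group
  rwa [e] at h1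

theorem exp2_comm {E : Subgroup Γ} (h : ∀ x ∈ E, x * x = 1) : ∀ a ∈ E, ∀ b ∈ E, a * b = b * a := by
  intro a ha b hb
  have h1 := h _ (E.mul_mem ha hb)
  have h2 : a⁻¹ = a := inv_eq_of_mul_eq_one_left (h a ha)
  have h3 : b⁻¹ = b := inv_eq_of_mul_eq_one_left (h b hb)
  have h4 : (a * b)⁻¹ = a * b := inv_eq_of_mul_eq_one_left h1
  calc a * b = (a * b)⁻¹ := h4.symm
    _ = b⁻¹ * a⁻¹ := _root_.mul_inv_rev a b
    _ = b * a := by rw [h2, h3]

end Generic

namespace Dat

variable {K G : Type*} [Field K] [Fintype K] [CharP K 3] [_root_.Group G] (D : Dat K G)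

include D in
theorem two_ne_zero_K : (2 : K) ≠ 0 := by
  intro h
  have h3 := D.three
  have : (1 : K) = 0 := by linear_combination h3 - h
  exact one_ne_zero this

include D in
/-- Elements of `SL₂` of square one. -/
theorem sl_sq_one {P : SL(2, K)} (h : P * P = 1) : P = 1 ∨ P = nI := by
  have h00 := congrArg (fun x : SL(2, K) => x 0 0) h
  have h01 := congrArg (fun x : SL(2, K) => x 0 1) h
  have h10 := congrArg (fun x : SL(2, K) => x 1 0) h
  have h11 := congrArg (fun x : SL(2, K) => x 1 1) h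
  have e00 : (1 : SL(2, K)) 0 0 = 1 := by simp
  have e01 : (1 : SL(2, K)) 0 1 = 0 := by simp
  have e10 : (1 : SL(2, K)) 1 0 = 0 := by simp
  have e11 : (1 : SL(2, K)) 1 1 = 1 := by simp
  simp only [sl_mul_apply, e00, e01, e10, e11] at h00 h01 h10 h11
  have hd := sl_det P
  have h2 := D.two_ne_zero_K
  by_cases hs : P 0 0 + P 1 1 = 0
  · exfalso
    have e : P 1 1 = - P 0 0 := by linear_combination hs
    rw [e] at hd
    apply h2
    linear_combination -hd - h00
  · have hb : P 0 1 = 0 := by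
      have : P 0 1 * (P 0 0 + P 1 1) = 0 := by linear_combination h01
      exact (mul_eq_zero.1 this).resolve_right hs
    have hc : P 1 0 = 0 := by
      have : P 1 0 * (P 0 0 + P 1 1) = 0 := by linear_combination h10
      exact (mul_eq_zero.1 this).resolve_right hs
    rw [hb] at h00 hd
    rw [hc] at h00 hd
    have had : P 1 1 = P 0 0 := by
      have : P 0 0 * (P 0 0 - P 1 1) = 0 := by linear_combination h00 - hd
      rcases mul_eq_zero.1 this with h5 | h5
      · exfalso
        rw [h5] at hd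
        simp at hd
      · linear_combination -h5
    have h5 : (P 0 0 - 1) * (P 0 0 + 1) = 0 := by linear_combination h00
    obtain ⟨n1, n2, n3, n4⟩ := nI_apply (K := K)
    rcases mul_eq_zero.1 h5 with h6 | h6
    · left
      have h7 : P 0 0 = 1 := by linear_combination h6
      apply sl_ext
      · rw [h7, e00]
      · rw [hb, e01]
      · rw [hc, e10]
      · rw [had, h7, e11]
    · right
      have h7 : P 0 0 = -1 := by linear_combination h6
      apply sl_ext
      · rw [h7, n1]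
      · rw [hb, n2]
      · rw [hc, n3]
      · rw [had, h7, n4]

section

variable [Finite G]

/-- Elements of odd order commuting with `t₀` and `w` are rotations. -/
theorem mem_X1_of_comm_V {x : G} (h1 : D.t0 * x = x * D.t0) (h2 : D.w * x = x * D.w)
    (hodd : Odd (orderOf x)) : x ∈ D.X1 := by
  obtain ⟨P, hP⟩ := D.cent_t0_form h1
  have hw := D.w_comm_t0
  have hc : D.psi P * D.w = D.w * D.psi P := by
    rcases hP with rfl | rfl
    · exact h2.symm
    · have h3 : D.t0 * (D.w * D.psi P) = D.t0 * (D.psi P * D.w) := by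
        calc D.t0 * (D.w * D.psi P) = (D.t0 * D.w) * D.psi P := by group
          _ = (D.w * D.t0) * D.psi P := by rw [hw]
          _ = D.w * (D.t0 * D.psi P) := by group
          _ = (D.t0 * D.psi P) * D.w := h2
          _ = _ := by group
      exact (mul_left_cancel h3).symm
  rw [← D.psi_g0, ← map_mul, ← map_mul, D.psi_eq_iff] at hc
  have hcase : D.psi P ∈ D.X1 ∨ D.psi P * D.psi P = 1 := by
    rcases hc with hc | hc
    · left
      obtain ⟨g1, g2, g3, g4⟩ := g0_apply (K := K)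
      have hT : P ∈ (T0 : Subgroup SL(2, K)) := mem_T0_of_comm g0_mem_T0 (by rw [g2]; exact one_ne_zero) hc
      exact ⟨P, hT, rfl⟩
    · right
      rw [← map_mul, D.psi_ker]
      right
      obtain ⟨g1, g2, g3, g4⟩ := g0_apply (K := K)
      obtain ⟨n1, n2, n3, n4⟩ := nI_apply (K := K)
      have h00 := congrArg (fun x : SL(2, K) => x 0 0) hc
      have h01 := congrArg (fun x : SL(2, K) => x 0 1) hc
      have h10 := congrArg (fun x : SL(2, K) => x 1 0) hc
      have h11 := congrArg (fun x : SL(2, K) => x 1 1) hc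
      simp only [nI_mul, sl_mul_apply, g1, g2, g3, g4, n1, n2, n3, n4] at h00 h01 h10 h11
      have hd := sl_det P
      have e1 : P 1 0 = P 0 1 := by linear_combination h00
      have e2 : P 1 1 = - P 0 0 := by linear_combination h01
      apply sl_ext
      · rw [sl_mul_apply, n1, e1]
        rw [e1, e2] at hd
        linear_combination -hd
      · rw [sl_mul_apply, n2, e2]
        ring
      · rw [sl_mul_apply, n3, e1, e2]
        ring
      · rw [sl_mul_apply, n4, e1, e2]
        rw [e1, e2] at hd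
        linear_combination -hd
  rcases hcase with hX | hsq
  · apply D.odd_mem_X1 _ hodd
    rcases hP with rfl | rfl
    · exact D.X1_le_A0 hX
    · exact D.A0.mul_mem D.t0_mem_A0 (D.X1_le_A0 hX)
  · have hxx : x * x = 1 := by
      rcases hP with rfl | rfl
      · exact hsq
      · calc D.t0 * D.psi P * (D.t0 * D.psi P) = D.t0 * (D.psi P * D.t0) * D.psi P := by group
          _ = D.t0 * (D.t0 * D.psi P) * D.psi P := by rw [D.t0_comm_psi P]
          _ = (D.t0 * D.t0) * (D.psi P * D.psi P) := by group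
          _ = 1 := by rw [D.t0_sq, hsq, one_mul]
    have h3 : orderOf x ∣ 2 := orderOf_dvd_of_pow_eq_one (by rwa [pow_two])
    have h4 : orderOf x = 1 := by
      rcases (Nat.dvd_prime Nat.prime_two).1 h3 with h | h
      · exact h
      · rw [h] at hodd
        exact absurd hodd (by decide)
    rw [orderOf_eq_one_iff.1 h4]
    exact D.X1.one_mem

/-- The Klein four subgroup of `A₀`. -/
def V0 : Subgroup G := torsionSub D.A0 (fun _ ha _ hb => D.A0_comm ha hb) 2

theorem mem_V0 {x : G} : x ∈ D.V0 ↔ x ∈ D.A0 ∧ x ^ 2 = 1 := Iff.rfl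

theorem t0_mem_V0 : D.t0 ∈ D.V0 := ⟨D.t0_mem_A0, by rw [pow_two, D.t0_sq]⟩

theorem w_mem_V0 : D.w ∈ D.V0 := ⟨D.w_mem_A0, by rw [pow_two, D.w_mul_w]⟩

variable (hm : 1 ≤ D.m)
include hm

theorem V0_cases {x : G} (hx : x ∈ D.V0) : x = 1 ∨ x = D.t0 ∨ x = D.w ∨ x = D.t0 * D.w := by
  by_cases h1 : x = 1
  · exact Or.inl h1
  · right
    exact D.inv_A0 hm hx.1 (by rw [← pow_two]; exact hx.2) h1

theorem card_V0 : Nat.card D.V0 = 4 := by
  classical
  have hw1 := D.w_ne_one
  have ht1 := D.t0_ne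
  have e : ((D.V0 : Subgroup G) : Set G) = ({1, D.t0, D.w, D.t0 * D.w} : Set G) := by
    ext x
    simp only [SetLike.mem_coe, Set.mem_insert_iff, Set.mem_singleton_iff]
    constructor
    · exact D.V0_cases hm
    · rintro (rfl | rfl | rfl | rfl)
      · exact D.V0.one_mem
      · exact D.t0_mem_V0
      · exact D.w_mem_V0
      · exact D.V0.mul_mem D.t0_mem_V0 D.w_mem_V0
  have e2 : Nat.card D.V0 = Nat.card ↥({1, D.t0, D.w, D.t0 * D.w} : Set G) := by
    rw [← e]
    rfl
  rw [e2, Nat.card_coe_set_eq]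
  have hne1 : D.t0 ≠ D.w := by
    intro h
    apply D.t0_not_mem_X1
    rw [h]
    exact D.w_mem_X1
  have hne2 : D.t0 ≠ D.t0 * D.w := by
    intro h
    apply hw1
    exact (mul_eq_left).1 h.symm
  have hne3 : D.w ≠ D.t0 * D.w := by
    intro h
    apply ht1
    exact (mul_eq_right).1 h.symm
  have hne4 : (1 : G) ≠ D.t0 := ht1.symm
  have hne5 : (1 : G) ≠ D.w := hw1.symm
  have hne6 : (1 : G) ≠ D.t0 * D.w := D.S0_ne_t0_w.symm
  rw [Set.ncard_eq_toFinset_card']
  simp [hne1, hne2, hne3, hne4, hne5, hne6, Finset.card_insert_of_notMem]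

omit hm in
/-- The subgroup of odd order of `A₀` is normalised by the normaliser of the Klein group. -/
theorem norm_V0_le {Z : Subgroup G} (hZ : Z ≤ D.X1) (hc : Nat.card Z = D.n0) :
    Subgroup.normalizer ((D.V0 : Subgroup G) : Set G) ≤ Subgroup.normalizer (Z : Set G) := by
  intro g hg
  have hv : ∀ v ∈ D.V0, g⁻¹ * v * g ∈ D.V0 := by
    intro v hv
    rw [Subgroup.mem_normalizer_iff] at hg
    rw [hg]
    have e : g * (g⁻¹ * v * g) * g⁻¹ = v := by group
    rwa [e]
  have hcomm : ∀ z ∈ Z, ∀ v ∈ D.V0, v * (g * z * g⁻¹) = (g * z * g⁻¹) * v := by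
    intro z hz v hv'
    have h1 := D.A0_comm (hv v hv').1 (D.X1_le_A0 (hZ hz))
    calc v * (g * z * g⁻¹) = g * ((g⁻¹ * v * g) * z) * g⁻¹ := by group
      _ = g * (z * (g⁻¹ * v * g)) * g⁻¹ := by rw [h1]
      _ = _ := by group
  rw [Subgroup.mem_normalizer_iff_map_conj_eq]
  apply cyclic_sub_eq D.X1_cyclic (P := Z.map (MulAut.conj g).toMonoidHom) (Q := Z)
  · rintro _ ⟨z, hz, rfl⟩
    apply D.mem_X1_of_comm_V (hcomm z hz _ D.t0_mem_V0) (hcomm z hz _ D.w_mem_V0)
    change Odd (orderOf (g * z * g⁻¹))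
    rw [orderOf_conj']
    apply Odd.of_dvd_nat (Nat.odd_iff.2 D.n0_odd)
    rw [← hc]
    exact Subgroup.orderOf_dvd_natCard _ hz
  · exact hZ
  · exact card_map_conj Z g

/-- Every Klein four subgroup is conjugate to the standard one. -/
theorem klein_conj {E : Subgroup G} (hE : Nat.card E = 4) (hexp : ∀ x ∈ E, x * x = 1) :
    ∃ f : G, E.map (MulAut.conj f).toMonoidHom = D.V0 := by
  classical
  have hcomm := exp2_comm hexp
  -- an involution
  have hne : ∃ i ∈ E, i ≠ 1 := by
    apply (Subgroup.bot_or_exists_ne_one E).resolve_left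
    rintro rfl
    simp at hE
  obtain ⟨i, hi, hi1⟩ := hne
  obtain ⟨h, rfl⟩ := D.inv_CT hm (hexp i hi) hi1
  -- a second element
  have hv : ∃ v ∈ E, v ≠ 1 ∧ v ≠ h * D.t0 * h⁻¹ := by
    by_contra hcon
    push Not at hcon
    have hsub : (E : Set G) ⊆ {1, h * D.t0 * h⁻¹} := by
      intro x hx
      by_cases hx1 : x = 1
      · exact Or.inl hx1
      · exact Or.inr (hcon x hx hx1)
    have h1 := Set.ncard_le_ncard hsub (Set.toFinite _)
    have h2 : (({1, h * D.t0 * h⁻¹} : Set G)).ncard ≤ 2 := by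
      have h4 := Set.ncard_insert_le (1 : G) ({h * D.t0 * h⁻¹} : Set G)
      rwa [Set.ncard_singleton] at h4
    have h3 : (E : Set G).ncard = 4 := by
      rw [← Nat.card_coe_set_eq]
      exact hE
    omega
  obtain ⟨v, hv, hv1, hv2⟩ := hv
  have hv3 : D.t0 * (h⁻¹ * v * h) = (h⁻¹ * v * h) * D.t0 := by
    have h1 := hcomm _ hi v hv
    calc D.t0 * (h⁻¹ * v * h) = h⁻¹ * ((h * D.t0 * h⁻¹) * v) * h := by group
      _ = h⁻¹ * (v * (h * D.t0 * h⁻¹)) * h := by rw [h1]
      _ = _ := by group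
  obtain ⟨P, hP⟩ := D.cent_t0_form hv3
  -- replace `v` by an element in the image of `psi`
  have hv' : h * D.psi P * h⁻¹ ∈ E := by
    rcases hP with hP | hP
    · rw [← hP]
      have e : h * (h⁻¹ * v * h) * h⁻¹ = v := by group
      rwa [e]
    · have e : h * D.psi P * h⁻¹ = (h * D.t0 * h⁻¹) * v := by
        have e1 : D.psi P = D.t0 * (h⁻¹ * v * h) := by
          rw [hP, ← mul_assoc, D.t0_sq, one_mul]
        rw [e1]
        group
      rw [e]
      exact E.mul_mem hi hv
  have hP1 : D.psi P ≠ 1 := by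
    intro h1
    rcases hP with hP | hP
    · apply hv1
      rw [h1] at hP
      have e : v = h * (h⁻¹ * v * h) * h⁻¹ := by group
      rw [e, hP]
      group
    · apply hv2
      rw [h1, mul_one] at hP
      have e : v = h * (h⁻¹ * v * h) * h⁻¹ := by group
      rw [e, hP]
  have hPsq : P * P = nI := by
    have h1 := hexp _ hv'
    have h2 : D.psi (P * P) = 1 := by
      rw [map_mul]
      have e : h * D.psi P * h⁻¹ * (h * D.psi P * h⁻¹) = h * (D.psi P * D.psi P) * h⁻¹ := by group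
      rw [e] at h1
      have e2 : D.psi P * D.psi P = h⁻¹ * (h * (D.psi P * D.psi P) * h⁻¹) * h := by group
      rw [e2, h1]
      group
    rcases D.psi_ker.1 h2 with h3 | h3
    · exfalso
      rcases D.sl_sq_one h3 with h4 | h4
      · exact hP1 (D.psi_ker.2 (Or.inl h4))
      · exact hP1 (D.psi_ker.2 (Or.inr h4))
    · exact h3
  have hconj : ∃ Q : SL(2, K), D.psi (Q⁻¹ * P * Q) = D.w := by
    obtain ⟨n1, n2, n3, n4⟩ := nI_apply (K := K)
    have hR : ∀ Q : SL(2, K), (Q⁻¹ * P * Q) * (Q⁻¹ * P * Q) = nI := by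
      intro Q
      have e : (Q⁻¹ * P * Q) * (Q⁻¹ * P * Q) = Q⁻¹ * (P * P) * Q := by group
      rw [e, hPsq, mul_assoc, nI_comm, ← mul_assoc, inv_mul_cancel, one_mul]
    rcases D.exists_conj_T0 P with ⟨Q, hQ⟩ | ⟨Q, hQ⟩
    · exfalso
      have h1 := congrArg (fun x : SL(2, K) => x 0 0) (hR Q)
      simp only [sl_mul_apply (Q⁻¹ * P * Q), hQ, n1] at h1
      apply D.not_isSquare_neg_one
      exact ⟨(Q⁻¹ * P * Q) 0 0, by linear_combination -h1⟩
    · refine ⟨Q, D.psi_eq_w_of_T0 hQ ?_⟩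
      have h1 := congrArg (fun x : SL(2, K) => x 0 0) (hR Q)
      simp only [sl_mul_apply (Q⁻¹ * P * Q), n1] at h1
      rw [hQ.2] at h1
      have hn := T0_norm hQ
      have h2 : 2 * (Q⁻¹ * P * Q) 0 0 ^ 2 = 0 := by linear_combination h1 + hn
      have h5 := (mul_eq_zero.1 h2).resolve_left D.two_ne_zero_K
      exact pow_eq_zero_iff (two_ne_zero) |>.1 h5
  obtain ⟨Q, hQ⟩ := hconj
  set f : G := (D.psi Q)⁻¹ * h⁻¹ with hf
  refine ⟨f, ?_⟩
  have hE2t : D.t0 ∈ E.map (MulAut.conj f).toMonoidHom := by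
    rw [mem_map_conj]
    have e : f⁻¹ * D.t0 * f = h * (D.psi Q * D.t0 * (D.psi Q)⁻¹) * h⁻¹ := by
      rw [hf]
      group
    rw [e, ← D.t0_comm_psi Q]
    have e2 : h * (D.t0 * D.psi Q * (D.psi Q)⁻¹) * h⁻¹ = h * D.t0 * h⁻¹ := by group
    rw [e2]
    exact hi
  have hE2w : D.w ∈ E.map (MulAut.conj f).toMonoidHom := by
    rw [mem_map_conj, ← hQ]
    have e : f⁻¹ * D.psi (Q⁻¹ * P * Q) * f = h * D.psi P * h⁻¹ := by
      rw [hf]
      simp only [map_mul, map_inv]
      group
    rw [e]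
    exact hv'
  symm
  apply Subgroup.eq_of_le_of_card_ge
  · intro x hx
    rcases D.V0_cases hm hx with rfl | rfl | rfl | rfl
    · exact Subgroup.one_mem _
    · exact hE2t
    · exact hE2w
    · exact Subgroup.mul_mem _ hE2t hE2w
  · rw [card_map_conj, hE, D.card_V0 hm]

/-- The normaliser of a Klein four subgroup normalises a cyclic subgroup of order `(q + 1) / 4`. -/
theorem klein_norm {E : Subgroup G} (hE : Nat.card E = 4) (hexp : ∀ x ∈ E, x * x = 1) :
    ∃ A : Subgroup G, IsCyclic A ∧ Nat.card A = D.n0 ∧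
      Subgroup.normalizer (E : Set G) ≤ Subgroup.normalizer (A : Set G) := by
  obtain ⟨f, hf⟩ := D.klein_conj hm hE hexp
  have hX : Nat.card D.X1 = 2 * D.n0 := by
    have h3 := D.card_X1
    rw [← D.four_n0] at h3
    omega
  have hdv : D.n0 ∣ Nat.card D.X1 := by
    rw [hX]
    exact Dvd.intro_left _ rfl
  obtain ⟨Z, hZX, hZc, hZd⟩ := exists_sub_of_dvd D.X1_cyclic hdv
  refine ⟨Z.map (MulAut.conj f⁻¹).toMonoidHom, isCyclic_map_conj _ hZc, by rw [card_map_conj, hZd], ?_⟩
  intro g hg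
  rw [normalizer_map_conj, mem_map_conj, inv_inv]
  apply D.norm_V0_le hZX hZd
  rw [← hf, normalizer_map_conj]
  exact ⟨g, hg, rfl⟩

end

end Dat

end Cfsg.Agent.Lib.Ree.Abs
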