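import Cfsg.Agent.Lib.Ree.Abs25

/-!
# The abstract Ree group: solvable subgroups
-/

set_option autoImplicit false
set_option linter.unusedSectionVars false
set_option linter.unusedSimpArgs false
set_option linter.unnecessarySeqFocus false

namespace Cfsg.Agent.Lib.Ree.Abs

open Matrix Cfsg.Agent.Lib.Ree.Sigma Cfsg.Agent.Lib.Ree.Words Cfsg.Agent.Lib.Ree.Psi
open scoped MatrixGroups Pointwise BigOperators

section Generic

variable {Γ : Type*} [_root_.Group Γ]

theorem cyc_transfer {R A E : Subgroup Γ} [Finite R] (hR : IsCyclic R) (hA : A ≤ R) (hE : E ≤ R) {p : ℕ}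
    (hp : p.Prime) (hexp : ∀ a ∈ E, a ^ p = 1) (hpA : p ∣ Nat.card A) : E ≤ A := by
  haveI : Finite E := Finite.of_injective _ (Subgroup.inclusion_injective hE)
  haveI : Finite A := Finite.of_injective _ (Subgroup.inclusion_injective hA)
  have hEc : IsCyclic E := isCyclic_of_le hE hR
  have hAc : IsCyclic A := isCyclic_of_le hA hR
  obtain ⟨g, hg⟩ := IsCyclic.exists_ofOrder_eq_natCard (α := E)
  have h1 : Nat.card E ∣ p := by
    rw [← hg]
    apply orderOf_dvd_of_pow_eq_one
    apply Subtype.ext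
    exact hexp g.1 g.2
  obtain ⟨P, hPA, -, hPc⟩ := exists_sub_of_dvd hAc (h1.trans hpA)
  have h2 : P = E := cyclic_sub_eq hR (hPA.trans hA) hE hPc
  rw [← h2]
  exact hPA

theorem norm_transfer {E A : Subgroup Γ} (n : Γ)
    (h : Subgroup.normalizer ((E.map (MulAut.conj n⁻¹).toMonoidHom : Subgroup Γ) : Set Γ) = Subgroup.normalizer (A : Set Γ)) :
    Subgroup.normalizer (E : Set Γ) = Subgroup.normalizer ((A.map (MulAut.conj n).toMonoidHom : Subgroup Γ) : Set Γ) := by
  rw [normalizer_map_conj, ← h, normalizer_map_conj]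
  ext x
  rw [mem_map_conj, mem_map_conj, inv_inv]
  have e : n * (n⁻¹ * x * n) * n⁻¹ = x := by group
  rw [e]

theorem comm_mul_central {c x y : Γ} (hx : c * x = x * c) (hy : c * y = y * c) :
    (c * x) * y * (c * x)⁻¹ * y⁻¹ = x * y * x⁻¹ * y⁻¹ := by
  have hc : c * (x * y * x⁻¹) = (x * y * x⁻¹) * c :=
    (((show Commute c x from hx).mul_right (show Commute c y from hy)).mul_right (show Commute c x from hx).inv_right).eq
  calc (c * x) * y * (c * x)⁻¹ * y⁻¹ = c * (x * y * x⁻¹) * c⁻¹ * y⁻¹ := by group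
    _ = (x * y * x⁻¹) * c * c⁻¹ * y⁻¹ := by rw [hc]
    _ = _ := by group

theorem comm_central_mul {c x y : Γ} (hx : c * x = x * c) (hy : c * y = y * c) :
    x * (c * y) * x⁻¹ * (c * y)⁻¹ = x * y * x⁻¹ * y⁻¹ := by
  have hc : c * (x * y * x⁻¹ * y⁻¹) = (x * y * x⁻¹ * y⁻¹) * c :=
    ((((show Commute c x from hx).mul_right (show Commute c y from hy)).mul_right (show Commute c x from hx).inv_right).mul_right
      (show Commute c y from hy).inv_right).eq
  have e : x * (c * y) = c * (x * y) := by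
    calc x * (c * y) = (x * c) * y := by group
      _ = (c * x) * y := by rw [hx]
      _ = _ := by group
  calc x * (c * y) * x⁻¹ * (c * y)⁻¹ = (x * (c * y)) * x⁻¹ * (y⁻¹ * c⁻¹) := by group
    _ = c * (x * y) * x⁻¹ * (y⁻¹ * c⁻¹) := by rw [e]
    _ = c * (x * y * x⁻¹ * y⁻¹) * c⁻¹ := by group
    _ = (x * y * x⁻¹ * y⁻¹) * c * c⁻¹ := by rw [hc]
    _ = _ := by group

end Generic

namespace Dat

variable {K G : Type*} [Field K] [Fintype K] [CharP K 3] [_root_.Group G] (D : Dat K G)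

section

variable [Finite G]

/-- The unipotent subgroup is a Sylow subgroup. -/
theorem exists_sylow_U : ∃ P : Sylow 3 G, (P : Subgroup G) = D.U := by
  haveI : Fact (Nat.Prime 3) := ⟨Nat.prime_three⟩
  have h1 : IsPGroup 3 ↥D.U := by
    apply IsPGroup.of_card (n := (2 * D.m + 1) * 3)
    rw [D.card_U, q, pow_mul]
  have h2 : ¬ 3 ∣ D.U.index := by
    intro h
    have h4 := Subgroup.card_mul_index D.U
    rw [D.card_U, D.card_G'] at h4
    have h5 : D.U.index = (D.q - 1) * (D.q ^ 3 + 1) := by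
      apply Nat.eq_of_mul_eq_mul_left (pow_pos D.q_pos 3)
      rw [h4]
      ring
    rw [h5] at h
    have h6 := D.q_mod3
    have h7 := D.q_ge
    rcases (Nat.Prime.dvd_mul Nat.prime_three).1 h with h8 | h8
    · omega
    · have h9 : 3 ∣ D.q ^ 3 := dvd_pow (Nat.dvd_of_mod_eq_zero h6) (by norm_num)
      omega
  exact ⟨h1.toSylow h2, rfl⟩

theorem exists_sylow_conj {p : ℕ} [Fact p.Prime] (Q : Sylow p G) (h : G) :
    ∃ P : Sylow p G, (P : Subgroup G) = (Q : Subgroup G).map (MulAut.conj h).toMonoidHom :=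
  ⟨h • Q, rfl⟩

theorem norm_m0_sub {Z A₀ : Subgroup G} (hm : 1 ≤ D.m) (hZ : Z ≤ D.H0) (hZd : Nat.card Z = D.m0) (hA₀ : A₀ ≤ Z)
    (hne : A₀ ≠ ⊥) : Subgroup.normalizer (A₀ : Set G) = Subgroup.normalizer (Z : Set G) := by
  have hAc : IsCyclic Z := isCyclic_of_le hZ D.H0_cyclic
  obtain ⟨h1, h2, h3⟩ := D.cent_m0 hm Z hAc hZd
  have hC : Subgroup.centralizer (Z : Set G) = D.H0 := by
    symm
    apply Subgroup.eq_of_le_of_card_ge
    · intro x hx
      rw [Subgroup.mem_centralizer_iff]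
      intro y hy
      exact D.H0_comm (hZ hy) hx
    · rw [h2, D.card_H0]
  have hN : Subgroup.normalizer ((D.H0 : Subgroup G) : Set G) ≤ Subgroup.normalizer (Z : Set G) :=
    fun g hg => mem_norm_of_cyclic D.H0_cyclic hZ hg
  exact norm_eq_of_cent hAc ((h3 A₀ hA₀ hne).trans hC) hN hA₀

theorem norm_n0_sub {Z A₀ : Subgroup G} (hm : 1 ≤ D.m) (hZ : Z ≤ D.X1) (hZd : Nat.card Z = D.n0) (hA₀ : A₀ ≤ Z)
    (hne : A₀ ≠ ⊥) : Subgroup.normalizer (A₀ : Set G) = Subgroup.normalizer (Z : Set G) := by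
  have hAc : IsCyclic Z := isCyclic_of_le hZ D.X1_cyclic
  obtain ⟨h1, h2, -, h3⟩ := D.cent_n0 hm Z hAc hZd
  have hC : Subgroup.centralizer (Z : Set G) = D.A0 := by
    symm
    apply Subgroup.eq_of_le_of_card_ge
    · intro x hx
      rw [Subgroup.mem_centralizer_iff]
      intro y hy
      exact D.A0_comm (D.X1_le_A0 (hZ hy)) hx
    · rw [h2, D.card_A0]
  have hN : Subgroup.normalizer ((D.A0 : Subgroup G) : Set G) ≤ Subgroup.normalizer (Z : Set G) := by
    intro g hg
    rw [Subgroup.mem_normalizer_iff_map_conj_eq] at hg ⊢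
    have hodd : Odd D.n0 := Nat.odd_iff.2 D.n0_odd
    apply cyclic_sub_eq D.X1_cyclic (P := Z.map (MulAut.conj g).toMonoidHom) (Q := Z)
    · rintro _ ⟨a, ha, rfl⟩
      have h4 : (MulAut.conj g).toMonoidHom a ∈ D.A0 := by
        rw [← hg]
        exact ⟨a, D.X1_le_A0 (hZ ha), rfl⟩
      apply D.odd_mem_X1 h4
      have h5 : orderOf ((MulAut.conj g).toMonoidHom a) = orderOf a :=
        orderOf_injective (MulAut.conj g).toMonoidHom (MulAut.conj g).injective a
      rw [h5]
      have h6 : orderOf a ∣ D.n0 := by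
        rw [← hZd]
        exact Subgroup.orderOf_dvd_natCard _ ha
      exact Odd.of_dvd_nat hodd h6
    · exact hZ
    · exact card_map_conj Z g
  exact norm_eq_of_cent hAc ((h3 A₀ hA₀ hne).trans hC) hN hA₀

variable (hm : 1 ≤ D.m)
include hm

/-- Unique fixed points of elements of order divisible by three. -/
theorem fix_unique_of_three {y : G} (h3 : 3 ∣ orderOf y) {β γ : D.Om} (hβ : y • β = β) (hγ : y • γ = γ) : β = γ := by
  obtain ⟨g, hg⟩ := D.exists_conj_of_fix hβ
  have h4 : 3 ∣ orderOf (g * y * g⁻¹) := by rwa [orderOf_conj']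
  have key : ∀ δ : D.Om, y • δ = δ → g • δ = D.p0 := by
    intro δ hδ
    apply D.B_fix_unique hg h4
    rw [← mul_smul]
    have e : g * y * g⁻¹ * g = g * y := by group
    rw [e, mul_smul, hδ]
  have h5 := (key β hβ).trans (key γ hγ).symm
  exact smul_left_cancel g h5

/-- The normaliser of an elementary abelian 3-subgroup is contained in a Borel subgroup. -/
theorem three_norm {E : Subgroup G} (hE : E ≠ ⊥) (hc : ∀ a ∈ E, ∀ b ∈ E, a * b = b * a) (hexp : ∀ a ∈ E, a ^ 3 = 1) :
    ∃ A : Subgroup G, Subgroup.normalizer (E : Set G) ≤ Subgroup.normalizer (A : Set G) ∧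
      ∃ P : Sylow 3 G, A = P := by
  haveI : Fact (Nat.Prime 3) := ⟨Nat.prime_three⟩
  obtain ⟨x, hx, hx1⟩ := (Subgroup.bot_or_exists_ne_one E).resolve_left hE
  have hxo : orderOf x = 3 := orderOf_eq_prime (hexp x hx) hx1
  obtain ⟨α, hα⟩ := D.exists_fix_of_three hm (x := x) (by rw [hxo])
  have hfixE : ∀ y ∈ E, y • α = α := by
    intro y hy
    apply D.fix_unique_of_three hm (y := x) (by rw [hxo]) _ hα
    rw [← mul_smul, hc x hx y hy, mul_smul, hα]
  have hstab : ∀ g ∈ Subgroup.normalizer (E : Set G), g • α = α := by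
    intro g hg
    rw [Subgroup.mem_normalizer_iff] at hg
    have h1 := (hg x).1 hx
    apply D.fix_unique_of_three hm (y := g * x * g⁻¹) (by rw [orderOf_conj', hxo]) _ (hfixE _ h1)
    rw [← mul_smul]
    have e : g * x * g⁻¹ * g = g * x := by group
    rw [e, mul_smul, hα]
  obtain ⟨h, hh⟩ := QuotientGroup.mk_surjective α
  have hα' : α = h • D.p0 := by
    rw [p0, smul_mk, mul_one]
    exact hh.symm
  obtain ⟨P0, hP0⟩ := D.exists_sylow_U
  obtain ⟨P, hP⟩ := exists_sylow_conj P0 h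
  refine ⟨_, ?_, P, rfl⟩
  intro g hg
  rw [hP, normalizer_map_conj, mem_map_conj, hP0]
  have h1 := hstab g hg
  have h2 : (h⁻¹ * g * h) • D.p0 = D.p0 := by
    rw [hα'] at h1
    rw [mul_smul, mul_smul, h1, ← mul_smul, inv_mul_cancel, one_smul]
  have h3 := D.smul_p0_iff.1 h2
  exact (le_norm_of_forall (fun s hs x hx => D.B_norm_U hs hx) : D.B ≤ _) h3

/-- The normaliser of an elementary abelian `p`-subgroup, `p ≠ 2, 3`, normalises a Hall subgroup. -/
theorem odd_norm {p : ℕ} (hp : p.Prime) (hp2 : p ≠ 2) (hp3 : p ≠ 3) {E : Subgroup G} (hE : E ≠ ⊥)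
    (hc : ∀ a ∈ E, ∀ b ∈ E, a * b = b * a) (hexp : ∀ a ∈ E, a ^ p = 1) :
    ∃ A : Subgroup G, Subgroup.normalizer (E : Set G) ≤ Subgroup.normalizer (A : Set G) ∧ IsCyclic A ∧
      (Nat.card A = D.m0 ∨ Nat.card A = D.n0 ∨ Nat.card A = D.q - 3 ^ (D.m + 1) + 1 ∨
        Nat.card A = D.q + 3 ^ (D.m + 1) + 1) := by
  haveI : Fact p.Prime := ⟨hp⟩
  obtain ⟨x, hx, hx1⟩ := (Subgroup.bot_or_exists_ne_one E).resolve_left hE
  have hxo : orderOf x = p := orderOf_eq_prime (hexp x hx) hx1
  have hdvd : p ∣ Nat.card G := by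
    rw [← hxo]
    exact orderOf_dvd_natCard x
  rcases D.prime_dvd_card_cases hp hdvd with hQ | hDd
  · rcases D.prime_dvd_Q1 hp hQ with h | h | h
    · exfalso
      have h1 := hp.dvd_of_dvd_pow h
      exact hp3 ((Nat.prime_dvd_prime_iff_eq hp Nat.prime_three).1 h1)
    · have hpm : p ∣ D.m0 := by
        rw [← D.two_m0] at h
        rcases (Nat.Prime.dvd_mul hp).1 h with h1 | h1
        · exact absurd ((Nat.prime_dvd_prime_iff_eq hp Nat.prime_two).1 h1) hp2
        · exact h1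
      obtain ⟨n, κ, he, hκ⟩ := D.conj_d_of_prime hp hp2 h hxo
      have hdv : D.m0 ∣ Nat.card D.H0 := by
        rw [D.card_H0, ← D.two_m0]
        exact Dvd.intro_left _ rfl
      obtain ⟨Z, hZH, hZc, hZd⟩ := exists_sub_of_dvd D.H0_cyclic hdv
      have hE' : E.map (MulAut.conj n⁻¹).toMonoidHom ≤ D.H0 := by
        apply map_conj_le_of
        intro a ha
        rw [inv_inv, ← D.cent_d hκ, Subgroup.mem_centralizer_singleton_iff, ← he]
        have h5 := hc a ha x hx
        calc n⁻¹ * a * n * (n⁻¹ * x * n) = n⁻¹ * (a * x) * n := by group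
          _ = n⁻¹ * (x * a) * n := by rw [h5]
          _ = _ := by group
      have hEZ : E.map (MulAut.conj n⁻¹).toMonoidHom ≤ Z := by
        apply cyc_transfer D.H0_cyclic hZH hE' hp _ (by rw [hZd]; exact hpm)
        rintro _ ⟨a, ha, rfl⟩
        rw [← map_pow, hexp a ha, map_one]
      have hne' : E.map (MulAut.conj n⁻¹).toMonoidHom ≠ ⊥ := by
        intro h5
        exact hE ((Subgroup.map_eq_bot_iff_of_injective _ (MulAut.conj n⁻¹).injective).1 h5)
      have h6 := D.norm_m0_sub hm hZH hZd hEZ hne'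
      refine ⟨Z.map (MulAut.conj n).toMonoidHom, (norm_transfer n h6).le, isCyclic_map_conj _ hZc, Or.inl ?_⟩
      rw [card_map_conj, hZd]
    · have hpn : p ∣ D.n0 := by
        rw [← D.four_n0] at h
        rcases (Nat.Prime.dvd_mul hp).1 h with h1 | h1
        · exfalso
          have h2 : p ∣ 2 ^ 2 := by norm_num; exact h1
          exact hp2 ((Nat.prime_dvd_prime_iff_eq hp Nat.prime_two).1 (hp.dvd_of_dvd_pow h2))
        · exact h1
      obtain ⟨n, -, he⟩ := D.cent_of_prime hm hp hpn hxo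
      have hX : Nat.card D.X1 = 2 * D.n0 := by
        have h3 := D.card_X1
        rw [← D.four_n0] at h3
        omega
      have hdv : D.n0 ∣ Nat.card D.X1 := by
        rw [hX]
        exact Dvd.intro_left _ rfl
      obtain ⟨Z, hZH, hZc, hZd⟩ := exists_sub_of_dvd D.X1_cyclic hdv
      have hE' : E.map (MulAut.conj n⁻¹).toMonoidHom ≤ D.X1 := by
        apply map_conj_le_of
        intro a ha
        rw [inv_inv]
        have h5 : a ∈ Subgroup.centralizer {x} := Subgroup.mem_centralizer_singleton_iff.2 (hc a ha x hx)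
        rw [he, mem_map_conj] at h5
        apply D.odd_mem_X1 h5
        rw [orderOf_conj]
        exact Odd.of_dvd_nat (hp.odd_of_ne_two hp2) (orderOf_dvd_of_pow_eq_one (hexp a ha))
      have hEZ : E.map (MulAut.conj n⁻¹).toMonoidHom ≤ Z := by
        apply cyc_transfer D.X1_cyclic hZH hE' hp _ (by rw [hZd]; exact hpn)
        rintro _ ⟨a, ha, rfl⟩
        rw [← map_pow, hexp a ha, map_one]
      have hne' : E.map (MulAut.conj n⁻¹).toMonoidHom ≠ ⊥ := by
        intro h5
        exact hE ((Subgroup.map_eq_bot_iff_of_injective _ (MulAut.conj n⁻¹).injective).1 h5)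
      have h6 := D.norm_n0_sub hm hZH hZd hEZ hne'
      refine ⟨Z.map (MulAut.conj n).toMonoidHom, (norm_transfer n h6).le, isCyclic_map_conj _ hZc, Or.inr (Or.inl ?_)⟩
      rw [card_map_conj, hZd]
  · have hX := D.isX_of_prime hp hDd hxo
    let T : D.Tor := ⟨Subgroup.centralizer {x}, x, hX, rfl⟩
    have hET : E ≤ T.1 := fun a ha => Subgroup.mem_centralizer_singleton_iff.2 (hc a ha x hx)
    obtain ⟨hcyc, hn⟩ := D.torus_props hm T
    refine ⟨T.1, (hn E hET hE).le, hcyc, ?_⟩
    obtain ⟨A₁, A₂, hall, -, -, h1, h2⟩ := D.tori_main hm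
    rcases hall T with ⟨y, hy⟩ | ⟨y, hy⟩
    · right; right; right
      rw [hy, D.card_smul, h1]
    · right; right; left
      rw [hy, D.card_smul, h2]

omit hm in
theorem comm_mem_psi {a b : G} (ha : D.t0 * a = a * D.t0) (hb : D.t0 * b = b * D.t0) :
    a * b * a⁻¹ * b⁻¹ ∈ D.psi.range := by
  obtain ⟨P, hP⟩ := D.cent_t0_form ha
  obtain ⟨Q, hQ⟩ := D.cent_t0_form hb
  have h1 := D.t0_comm_psi P
  have h2 := D.t0_comm_psi Q
  have e : a * b * a⁻¹ * b⁻¹ = D.psi P * D.psi Q * (D.psi P)⁻¹ * (D.psi Q)⁻¹ := by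
    rcases hP with rfl | rfl <;> rcases hQ with rfl | rfl
    · rfl
    · exact comm_central_mul h1 h2
    · exact comm_mul_central h1 h2
    · rw [comm_mul_central h1 hb, comm_central_mul h1 h2]
  rw [e]
  exact ⟨P * Q * P⁻¹ * Q⁻¹, by simp only [map_mul, map_inv]⟩

/-- Every solvable subgroup normalises a subgroup of one of the given types. -/
theorem solvable_main (S : Subgroup G) (hS : _root_.Group.IsSolvable S) :
    ∃ A : Subgroup G, S ≤ Subgroup.normalizer (A : Set G) ∧
      ((∃ P : Sylow 2 G, A = P) ∨ (∃ P : Sylow 3 G, A = P) ∨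
        (IsCyclic A ∧ (Nat.card A = D.m0 ∨ Nat.card A = D.n0 ∨ Nat.card A = D.q - 3 ^ (D.m + 1) + 1 ∨
          Nat.card A = D.q + 3 ^ (D.m + 1) + 1))) := by
  haveI : Fact (Nat.Prime 2) := ⟨Nat.prime_two⟩
  by_cases hbot : S = ⊥
  · obtain ⟨P, hP⟩ := D.exists_sylow_S0
    exact ⟨P, by rw [hbot]; exact bot_le, Or.inl ⟨P, rfl⟩⟩
  haveI : Nontrivial S := (Subgroup.nontrivial_iff_ne_bot S).2 hbot
  obtain ⟨D', hD'0, hD'n, hD'c, hD'top⟩ := exists_abelian_normal hS inferInstance
  set R : Subgroup G := D'.map S.subtype with hR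
  have hRS : R ≤ S := Subgroup.map_subtype_le _
  have hR0 : R ≠ ⊥ := fun h => hD'0 ((Subgroup.map_eq_bot_iff_of_injective _ S.subtype_injective).1 h)
  have hRc : ∀ a ∈ R, ∀ b ∈ R, a * b = b * a := by
    rintro _ ⟨a, ha, rfl⟩ _ ⟨b, hb, rfl⟩
    exact congrArg Subtype.val (hD'c a ha b hb)
  have hRn : ∀ s ∈ S, ∀ x ∈ R, s * x * s⁻¹ ∈ R := by
    rintro s hs _ ⟨x, hx, rfl⟩
    exact ⟨⟨s, hs⟩ * x * (⟨s, hs⟩ : S)⁻¹, hD'n.conj_mem x hx _, rfl⟩
  have hSR : S ≤ Subgroup.normalizer (R : Set G) := le_norm_of_forall hRn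
  by_cases hodd : ∃ p : ℕ, p.Prime ∧ p ≠ 2 ∧ p ∣ Nat.card R
  · obtain ⟨p, hp, hp2, hpd⟩ := hodd
    haveI : Fact p.Prime := ⟨hp⟩
    let E : Subgroup G := torsionSub R hRc p
    have hES : S ≤ Subgroup.normalizer (E : Set G) := by
      apply le_norm_of_forall
      rintro s hs x ⟨hx, hxp⟩
      refine ⟨hRn s hs x hx, ?_⟩
      rw [conj_pow, hxp, mul_one, mul_inv_cancel]
    have hE0 : E ≠ ⊥ := by
      obtain ⟨y, hy⟩ := exists_prime_orderOf_dvd_card' (G := R) p hpd
      intro h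
      have h1 : y.1 ∈ E := ⟨y.2, by
        have := pow_orderOf_eq_one y
        rw [hy] at this
        exact congrArg Subtype.val this⟩
      rw [h, Subgroup.mem_bot] at h1
      have h2 : y = 1 := Subtype.ext h1
      rw [h2, orderOf_one] at hy
      exact hp.one_lt.ne hy
    have hEc : ∀ a ∈ E, ∀ b ∈ E, a * b = b * a := fun a ha b hb => hRc a ha.1 b hb.1
    have hexp : ∀ a ∈ E, a ^ p = 1 := fun a ha => ha.2
    by_cases hp3 : p = 3
    · subst hp3
      obtain ⟨A, hA, hA2⟩ := D.three_norm hm hE0 hEc hexp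
      exact ⟨A, hES.trans hA, Or.inr (Or.inl hA2)⟩
    · obtain ⟨A, hA, hA2, hA3⟩ := D.odd_norm hm hp hp2 hp3 hE0 hEc hexp
      exact ⟨A, hES.trans hA, Or.inr (Or.inr ⟨hA2, hA3⟩)⟩
  · push Not at hodd
    have h2 : IsPGroup 2 R := IsPGroup.of_card (Nat.eq_prime_pow_of_unique_prime_dvd Nat.card_pos.ne'
      (fun {d} hd hdv => by
        by_contra hne
        exact hodd d hd hne hdv))
    obtain ⟨Q, hQ⟩ := h2.exists_le_sylow
    obtain ⟨hQ8, hQe⟩ := D.sylow_two Q
    have hexp : ∀ x ∈ R, x * x = 1 := fun x hx => hQe x (hQ hx)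
    have hcard : Nat.card R ∣ 8 := by
      rw [← hQ8]
      exact Subgroup.card_dvd_of_le hQ
    have h1 : Nat.card R ≠ 1 := by
      intro h
      exact hR0 (Subgroup.eq_bot_of_card_eq R h)
    have hcases : Nat.card R = 2 ∨ Nat.card R = 4 ∨ Nat.card R = 8 := by
      have h3 : Nat.card R ∈ Nat.divisors 8 := Nat.mem_divisors.2 ⟨hcard, by norm_num⟩
      have hdiv : Nat.divisors 8 = {1, 2, 4, 8} := by decide
      rw [hdiv] at h3
      simp only [Finset.mem_insert, Finset.mem_singleton] at h3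
      omega
    rcases hcases with hc2 | hc4 | hc8
    · rcases hD'top with htop | hle
      · have hRS' : S = R := by
          apply le_antisymm _ hRS
          intro x hx
          refine ⟨⟨x, hx⟩, ?_, rfl⟩
          rw [htop]
          trivial
        refine ⟨Q, ?_, Or.inl ⟨Q, rfl⟩⟩
        rw [hRS']
        exact hQ.trans Subgroup.le_normalizer
      · exfalso
        obtain ⟨i, hi, hi1⟩ := (Subgroup.bot_or_exists_ne_one R).resolve_left hR0
        have hRtwo : ∀ x ∈ R, x = 1 ∨ x = i := by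
          have hsub : ({1, i} : Set G) ⊆ (R : Set G) := by
            rintro x (rfl | rfl)
            · exact R.one_mem
            · exact hi
          have hn : ({1, i} : Set G).ncard = 2 := Set.ncard_pair hi1.symm
          have h3 : (R : Set G).ncard = 2 := by
            rw [← Nat.card_coe_set_eq]
            exact hc2
          have h4 := Set.eq_of_subset_of_ncard_le hsub (by rw [h3, hn]) (Set.toFinite _)
          intro x hx
          have h5 : x ∈ ((R : Subgroup G) : Set G) := hx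
          rw [← h4] at h5
          exact h5
        obtain ⟨h, rfl⟩ := D.inv_CT hm (hexp i hi) hi1
        have hcent : ∀ s ∈ S, D.t0 * (h⁻¹ * s * h) = (h⁻¹ * s * h) * D.t0 := by
          intro s hs
          have h3 := hRn s hs _ hi
          rcases hRtwo _ h3 with h4 | h4
          · exfalso
            apply hi1
            have e : h * D.t0 * h⁻¹ = s⁻¹ * (s * (h * D.t0 * h⁻¹) * s⁻¹) * s := by group
            rw [e, h4]
            group
          · have h5 : s * (h * D.t0 * h⁻¹) = (h * D.t0 * h⁻¹) * s := by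
              calc s * (h * D.t0 * h⁻¹) = (s * (h * D.t0 * h⁻¹) * s⁻¹) * s := by group
                _ = _ := by rw [h4]
            calc D.t0 * (h⁻¹ * s * h) = h⁻¹ * ((h * D.t0 * h⁻¹) * s) * h := by group
              _ = h⁻¹ * (s * (h * D.t0 * h⁻¹)) * h := by rw [h5]
              _ = _ := by group
        have hcomm : ∀ a : S, ∀ b : S, (a * b * a⁻¹ * b⁻¹ : S).1 ∈ (D.psi.range).map (MulAut.conj h).toMonoidHom := by
          intro a b
          rw [mem_map_conj]
          have e : h⁻¹ * (a * b * a⁻¹ * b⁻¹ : S).1 * h =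
              (h⁻¹ * a.1 * h) * (h⁻¹ * b.1 * h) * (h⁻¹ * a.1 * h)⁻¹ * (h⁻¹ * b.1 * h)⁻¹ := by
            simp only [Subgroup.coe_mul, Subgroup.coe_inv]
            group
          rw [e]
          exact D.comm_mem_psi (hcent a.1 a.2) (hcent b.1 b.2)
        have hle2 : (commutator S : Subgroup S) ≤ ((D.psi.range).map (MulAut.conj h).toMonoidHom).comap S.subtype := by
          rw [commutator_def, Subgroup.commutator_le]
          intro a _ b _
          exact hcomm a b
        obtain ⟨i', hi', hi2⟩ := hi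
        have h3 := hle2 (hle hi')
        rw [Subgroup.mem_comap, hi2, mem_map_conj] at h3
        have e : h⁻¹ * (h * D.t0 * h⁻¹) * h = D.t0 := by group
        rw [e] at h3
        obtain ⟨P, hP⟩ := h3
        exact D.t0_not_mem P hP
    · obtain ⟨A, hA, hA2, hA3⟩ := D.klein_norm hm hc4 hexp
      exact ⟨A, hSR.trans hA3, Or.inr (Or.inr ⟨hA, Or.inr (Or.inl hA2)⟩)⟩
    · have hRQ : R = Q := by
        apply Subgroup.eq_of_le_of_card_ge hQ
        rw [hc8, hQ8]
      refine ⟨Q, ?_, Or.inl ⟨Q, rfl⟩⟩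
      rw [← hRQ]
      exact hSR

end

end Dat

end Cfsg.Agent.Lib.Ree.Abs
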