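import Cfsg.Agent.Lib.Ree.Abs26

/-!
# The abstract Ree group: field automorphisms
-/

set_option autoImplicit false
set_option linter.unusedSectionVars false
set_option linter.unusedSimpArgs false
set_option linter.unnecessarySeqFocus false

namespace Cfsg.Agent.Lib.Ree.Abs

open Matrix Cfsg.Agent.Lib.Ree.Sigma Cfsg.Agent.Lib.Ree.Words Cfsg.Agent.Lib.Ree.Psi Cfsg.Agent.Lib.Ree.Core
open scoped MatrixGroups Pointwise BigOperators

variable {K G : Type*} [Field K] [Fintype K] [CharP K 3] [_root_.Group G]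

theorem MUc_map (g : K →+* K) (s t a1 a b1 b : K) :
    (MUc s t a1 a b1 b).map g = MUc (g s) (g t) (g a1) (g a) (g b1) (g b) := by
  rw [← MU_eq, MU_map, MU_eq]

theorem d7_map (g : K →+* K) (x y z : K) : (d7 x y z).map g = d7 (g x) (g y) (g z) := by
  ext i j
  fin_cases i <;> fin_cases j <;> simp [d7, map_inv₀]

theorem w7_map (g : K →+* K) : (w7 : Matrix (Fin 7) (Fin 7) K).map g = w7 := by
  ext i j
  simp only [w7, Matrix.map_apply]
  split_ifs <;> simp

theorem coe_frG (g : K →+* K) (A : GL (Fin 7) K) :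
    ((frG g A : GL (Fin 7) K) : Matrix (Fin 7) (Fin 7) K) = (A : Matrix (Fin 7) (Fin 7) K).map g := by
  ext i j
  rfl

namespace Dat

variable (D : Dat K G)

section Twist

variable (g : K →+* K) (hg : ∀ x, g (D.f.θ x) = D.f.θ (g x))
include hg

theorem phi_comm (x : K) : g (D.f.φ x) = D.f.φ (g x) := by
  rw [← D.f.cube_θ, ← D.f.cube_θ, map_pow, hg]

theorem frG_u (t a b : K) : frG g (D.rep (D.u t a b)) = D.rep (D.u (g t) (g a) (g b)) := by
  apply Units.ext
  rw [coe_frG, D.rep_u, D.rep_u, MUc_map, hg, hg, hg]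

theorem frG_d (κ : Kˣ) : frG g (D.rep (D.d κ)) = D.rep (D.d (Units.map (g : K →* K) κ)) := by
  apply Units.ext
  rw [coe_frG, D.rep_d, D.rep_d, d7_map]
  simp only [map_mul, map_pow, Units.coe_map, MonoidHom.coe_coe, D.phi_comm g hg]

omit hg in
theorem frG_w : frG g (D.rep D.w) = D.rep D.w := by
  apply Units.ext
  rw [coe_frG, D.rep_w, w7_map]

theorem exists_twist_elem (x : G) : ∃ x' : G, D.rep x' = frG g (D.rep x) := by
  rcases D.cases x with ⟨t, a, b, κ, rfl⟩ | ⟨t, a, b, κ, t', a', b', rfl⟩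
  · refine ⟨D.u (g t) (g a) (g b) * D.d (Units.map (g : K →* K) κ), ?_⟩
    rw [map_mul, map_mul, map_mul, D.frG_u g hg, D.frG_d g hg]
  · refine ⟨D.u (g t) (g a) (g b) * D.d (Units.map (g : K →* K) κ) * D.w * D.u (g t') (g a') (g b'), ?_⟩
    simp only [map_mul, D.frG_u g hg, D.frG_d g hg, D.frG_w g]

/-- The twist by a field homomorphism. -/
noncomputable def twHom : G →* G where
  toFun x := Classical.choose (D.exists_twist_elem g hg x)
  map_one' := by
    apply D.rep_inj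
    rw [Classical.choose_spec (D.exists_twist_elem g hg 1), map_one, map_one]
  map_mul' x y := by
    apply D.rep_inj
    rw [Classical.choose_spec (D.exists_twist_elem g hg (x * y)), map_mul, map_mul, map_mul,
      Classical.choose_spec (D.exists_twist_elem g hg x), Classical.choose_spec (D.exists_twist_elem g hg y)]

theorem rep_twHom (x : G) : D.rep (D.twHom g hg x) = frG g (D.rep x) :=
  Classical.choose_spec (D.exists_twist_elem g hg x)

theorem twHom_u (t a b : K) : D.twHom g hg (D.u t a b) = D.u (g t) (g a) (g b) := by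
  apply D.rep_inj
  rw [rep_twHom, D.frG_u g hg]

theorem twHom_d (κ : Kˣ) : D.twHom g hg (D.d κ) = D.d (Units.map (g : K →* K) κ) := by
  apply D.rep_inj
  rw [rep_twHom, D.frG_d g hg]

theorem twHom_w : D.twHom g hg D.w = D.w := by
  apply D.rep_inj
  rw [rep_twHom, D.frG_w g]

end Twist

section TwistEquiv

variable (hθ : ∀ (τ : K ≃+* K) (x : K), τ (D.f.θ x) = D.f.θ (τ x))

/-- The twist by a field automorphism, as a homomorphism. -/
noncomputable def twR (τ : K ≃+* K) : G →* G := D.twHom (τ : K →+* K) (hθ τ)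

theorem rep_twR (τ : K ≃+* K) (x : G) : D.rep (D.twR hθ τ x) = frG (τ : K →+* K) (D.rep x) :=
  D.rep_twHom (τ : K →+* K) (hθ τ) x

/-- The twist by a field automorphism. -/
noncomputable def twist (τ : K ≃+* K) : G ≃* G where
  toFun := D.twR hθ τ
  invFun := D.twR hθ τ.symm
  left_inv x := by
    apply D.rep_inj
    rw [rep_twR, rep_twR]
    apply Units.ext
    rw [coe_frG, coe_frG]
    ext i j
    simp
  right_inv x := by
    apply D.rep_inj
    rw [rep_twR, rep_twR]
    apply Units.ext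
    rw [coe_frG, coe_frG]
    ext i j
    simp
  map_mul' := map_mul _

theorem twist_u (τ : K ≃+* K) (t a b : K) : D.twist hθ τ (D.u t a b) = D.u (τ t) (τ a) (τ b) :=
  D.twHom_u (τ : K →+* K) (hθ τ) t a b

theorem twist_d (τ : K ≃+* K) (κ : Kˣ) :
    D.twist hθ τ (D.d κ) = D.d (Units.map ((τ : K →+* K) : K →* K) κ) :=
  D.twHom_d (τ : K →+* K) (hθ τ) κ

theorem twist_w (τ : K ≃+* K) : D.twist hθ τ D.w = D.w :=
  D.twHom_w (τ : K →+* K) (hθ τ)

/-- Composition of twists. -/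
theorem twist_comp (τ τ' : K ≃+* K) :
    (D.twist hθ τ)⁻¹ * D.twist hθ τ' = D.twist hθ (τ'.trans τ.symm) := by
  apply MulEquiv.ext
  intro x
  apply D.rep_inj
  change D.rep (D.twR hθ τ.symm (D.twR hθ τ' x)) = D.rep (D.twR hθ (τ'.trans τ.symm) x)
  rw [rep_twR, rep_twR, rep_twR]
  apply Units.ext
  rw [coe_frG, coe_frG, coe_frG]
  ext i j
  simp

end TwistEquiv

/-! ### The corner entry -/

theorem corner_form (t a b : K) (κ : Kˣ) (t' a' b' : K) :
    ((D.rep (D.u t a b * D.d κ * D.w * D.u t' a' b') : GL (Fin 7) K) : Matrix (Fin 7) (Fin 7) K) 6 0 =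
      - ((κ : K) ^ 2 * D.f.φ κ)⁻¹ := by
  rw [map_mul, map_mul, map_mul, Units.val_mul, Units.val_mul, Units.val_mul, D.rep_u, D.rep_u,
    D.rep_d, D.rep_w, ← MU_eq, ← MU_eq, MU_col0, Matrix.mul_assoc, MU_row6, d7, Matrix.diagonal_mul]
  simp [w7]

theorem corner_w (t a b : K) :
    ((D.rep (D.w * D.u t a b * D.w) : GL (Fin 7) K) : Matrix (Fin 7) (Fin 7) K) 6 0 = y0 D.f t a b := by
  rw [map_mul, map_mul, Units.val_mul, Units.val_mul, D.rep_u, D.rep_w, w7_conj, ← MU_eq]
  rfl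

theorem y0_center (b : K) : y0 D.f 0 0 b = - (D.f.θ b) ^ 2 := by
  rw [y0_eq]
  simp

/-- The Bruhat form of a central element conjugated by `w`. -/
theorem corner_center {b t a c : K} {κ : Kˣ} {t' a' c' : K}
    (h : D.w * D.u 0 0 b * D.w = D.u t a c * D.d κ * D.w * D.u t' a' c') :
    (κ : K) ^ 2 * D.f.φ κ * (D.f.θ b) ^ 2 = 1 := by
  have h1 := D.corner_form t a c κ t' a' c'
  rw [← h, D.corner_w, D.y0_center] at h1
  have h2 : (κ : K) ^ 2 * D.f.φ κ ≠ 0 := mul_ne_zero (pow_ne_zero _ κ.ne_zero)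
    ((map_ne_zero _).2 κ.ne_zero)
  have h3 : (D.f.θ b) ^ 2 = ((κ : K) ^ 2 * D.f.φ κ)⁻¹ := neg_injective h1
  rw [h3]
  exact mul_inv_cancel₀ h2

theorem exists_bruhat_center {b : K} (hb : b ≠ 0) :
    ∃ (t a c : K) (κ : Kˣ) (t' a' c' : K),
      D.w * D.u 0 0 b * D.w = D.u t a c * D.d κ * D.w * D.u t' a' c' := by
  rcases D.cases (D.w * D.u 0 0 b * D.w) with ⟨t, a, c, κ, h⟩ | ⟨t, a, c, κ, t', a', c', h⟩
  · exact absurd (D.wuw h).2.2 hb
  · exact ⟨t, a, c, κ, t', a', c', h⟩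

/-! ### Twists are not inner -/

section

variable [Finite G] (hθ : ∀ (τ : K ≃+* K) (x : K), τ (D.f.θ x) = D.f.θ (τ x))

theorem twist_inner (τ : K ≃+* K) (x : G) (he : ∀ y, D.twist hθ τ y = x * y * x⁻¹) :
    τ = RingEquiv.refl K := by
  have hcomm : ∀ y, D.twist hθ τ y = y → x * y = y * x := by
    intro y hy
    have h1 := he y
    rw [hy] at h1
    calc x * y = (x * y * x⁻¹) * x := by group
      _ = y * x := by rw [← h1]
  have hy1 : D.twist hθ τ (D.u 1 0 0) = D.u 1 0 0 := by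
    rw [twist_u, map_one, map_zero]
  have hu1 : D.u (1 : K) 0 0 ≠ 1 := by
    rw [← D.u_zero]
    intro h
    exact one_ne_zero (D.u_inj h).1
  have hx1 := hcomm _ hy1
  have hp0 : x • D.p0 = D.p0 := by
    apply D.U_fix (D.u_mem_U 1 0 0) hu1
    rw [← mul_smul, ← hx1, mul_smul, D.smul_p0_iff.2 (D.u_mem_B _ _ _)]
  have hy2 : D.twist hθ τ (D.w * D.u 1 0 0 * D.w) = D.w * D.u 1 0 0 * D.w := by
    rw [map_mul, map_mul, hy1, twist_w]
  have hx2 := hcomm _ hy2
  have hpw : x • D.pw = D.pw := by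
    have h1 : (D.w * D.u 1 0 0 * D.w) • D.pw = D.pw := by
      rw [mul_smul, mul_smul, D.w_smul_pw, D.smul_p0_iff.2 (D.u_mem_B _ _ _), D.w_smul_p0]
    have h2 : (D.u 1 0 0) • (D.w • (x • D.pw)) = D.w • (x • D.pw) := by
      have h3 : (D.w * D.u 1 0 0 * D.w) • (x • D.pw) = x • D.pw := by
        rw [← mul_smul, ← hx2, mul_smul, h1]
      have h4 : D.w • ((D.w * D.u 1 0 0 * D.w) • (x • D.pw)) = D.w • (x • D.pw) := by rw [h3]
      rw [← mul_smul] at h4
      have e : D.w * (D.w * D.u 1 0 0 * D.w) = D.u 1 0 0 * D.w := by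
        rw [← mul_assoc, ← mul_assoc, D.w_mul_w, one_mul]
      rw [e, mul_smul] at h4
      exact h4
    have h5 := D.U_fix (D.u_mem_U 1 0 0) hu1 h2
    have h6 : D.w • (D.w • (x • D.pw)) = D.w • D.p0 := by rw [h5]
    rw [← mul_smul, D.w_mul_w, one_smul, D.w_smul_p0] at h6
    exact h6
  obtain ⟨κ, rfl⟩ := D.fix_p0_pw hp0 hpw
  have hw := hcomm D.w (D.twist_w hθ τ)
  have hκ : κ = κ⁻¹ := by
    apply D.d_inj
    have h1 := D.w_mul_d κ
    rw [← hw] at h1
    exact mul_right_cancel h1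
  have hκ2 : κ ^ 2 = 1 := by
    rw [pow_two]
    nth_rewrite 1 [hκ]
    exact inv_mul_cancel κ
  have h2 : κ = 1 ∨ κ = -1 := by
    have h3 : ((κ : K) - 1) * ((κ : K) + 1) = 0 := by
      have : ((κ ^ 2 : Kˣ) : K) = 1 := by rw [hκ2]; rfl
      rw [Units.val_pow_eq_pow_val] at this
      linear_combination this
    rcases mul_eq_zero.1 h3 with h4 | h4
    · left
      apply Units.ext
      rw [Units.val_one]
      linear_combination h4
    · right
      apply Units.ext
      rw [Units.val_neg, Units.val_one]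
      linear_combination h4
  rcases h2 with rfl | rfl
  · rw [map_one] at he
    apply RingEquiv.ext
    intro t
    have h1 := he (D.u t 0 0)
    rw [twist_u, one_mul, inv_one, mul_one, map_zero] at h1
    exact (D.u_inj h1).1
  · exfalso
    have h1 : D.t0 * D.u 1 0 0 * D.t0 = D.u (-1) 0 (-0) := D.t0_conj_u 1 0 0
    have h2 : D.t0 * D.u 1 0 0 = D.u 1 0 0 * D.t0 := hx1
    rw [h2, mul_assoc, D.t0_sq, mul_one] at h1
    have h3 := (D.u_inj h1).1
    apply D.neg_one_ne_one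
    exact h3.symm

end

end Dat

end Cfsg.Agent.Lib.Ree.Abs
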