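import Cfsg.Agent.Lib.Ree.Abs27

/-!
# The abstract Ree group: automorphisms fixing the torus and the central elements
-/

set_option autoImplicit false
set_option linter.unusedSectionVars false
set_option linter.unusedSimpArgs false
set_option linter.unnecessarySeqFocus false

namespace Cfsg.Agent.Lib.Ree.Abs

open Matrix Cfsg.Agent.Lib.Ree.Sigma Cfsg.Agent.Lib.Ree.Words Cfsg.Agent.Lib.Ree.Psi Cfsg.Agent.Lib.Ree.Core
open scoped MatrixGroups Pointwise BigOperators

variable {K G : Type*} [Field K] [Fintype K] [CharP K 3] [_root_.Group G]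

/-- An additive map whose square is multiplicative is multiplicative. -/
theorem mult_of_sq (h2 : (2 : K) ≠ 0) (h3 : (3 : K) = 0) (B : K → K) (hadd : ∀ x y, B (x + y) = B x + B y) (h1 : B 1 = 1)
    (hsq : ∀ x y, B (x * y) ^ 2 = (B x * B y) ^ 2) (x y : K) : B (x * y) = B x * B y := by
  have h0 : B 0 = 0 := by
    have := hadd 0 0
    rw [add_zero] at this
    linear_combination -this
  have hneg : ∀ z, B (-z) = - B z := by
    intro z
    have := hadd z (-z)
    rw [add_neg_cancel, h0] at this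
    linear_combination -this
  have e1 := hsq (x + 1) (y + 1)
  have e2 := hsq (x + -1) (y + -1)
  have e3 := hsq (x + 1) (y + -1)
  have e4 := hsq (x + -1) (y + 1)
  have f1 : (x + 1) * (y + 1) = x * y + 1 + x + y := by ring
  have f2 : (x + -1) * (y + -1) = x * y + 1 + -x + -y := by ring
  have f3 : (x + 1) * (y + -1) = x * y + -1 + -x + y := by ring
  have f4 : (x + -1) * (y + 1) = x * y + -1 + x + -y := by ring
  rw [f1] at e1
  rw [f2] at e2
  rw [f3] at e3
  rw [f4] at e4
  simp only [hadd, hneg, h1] at e1 e2 e3 e4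
  generalize B (x * y) = P at *
  generalize B x = X at *
  generalize B y = Y at *
  have key : 8 * (P - X * Y) = 0 := by
    linear_combination e1 + e2 - e3 - e4
  have h8 : (8 : K) ≠ 0 := by
    intro h
    apply h2
    linear_combination h - 2 * h3
  have := (mul_eq_zero.1 key).resolve_left h8
  linear_combination this

namespace Dat

variable (D : Dat K G)

/-- The automorphisms stabilising the unipotent subgroup. -/
def StableU (β : G ≃* G) : Prop := ∀ y, β y ∈ D.U ↔ y ∈ D.U

section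

variable [Finite G] (hm : 1 ≤ D.m)

include hm in
theorem exists_phi_ne : ∃ c : K, D.f.φ c ≠ c := by
  by_contra hcon
  push Not at hcon
  obtain ⟨κ, hκ⟩ := D.exists_sq_ne hm
  apply hκ
  have h1 : (κ : K) ^ 3 = κ := by rw [← D.f.φφ, hcon, hcon]
  apply Units.ext
  rw [Units.val_pow_eq_pow_val, Units.val_one]
  have h2 : (κ : K) * ((κ : K) ^ 2 - 1) = 0 := by linear_combination h1
  have := (mul_eq_zero.1 h2).resolve_left κ.ne_zero
  linear_combination this

include hm in
/-- The centre of the unipotent group. -/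
theorem center_U {t a b : K} (h : ∀ t' a' b', D.u t a b * D.u t' a' b' = D.u t' a' b' * D.u t a b) :
    t = 0 ∧ a = 0 := by
  obtain ⟨c, hc⟩ := D.exists_phi_ne hm
  have h1 := h 1 0 0
  rw [D.u_mul, D.u_mul] at h1
  obtain ⟨-, h2, -⟩ := D.u_inj h1
  rw [map_one] at h2
  have h3 : D.f.φ t = t := by linear_combination h2
  have h4 := h c 0 0
  rw [D.u_mul, D.u_mul, h3] at h4
  obtain ⟨-, h5, -⟩ := D.u_inj h4
  have h6 : t * (D.f.φ c - c) = 0 := by linear_combination -h5
  have ht : t = 0 := (mul_eq_zero.1 h6).resolve_right (sub_ne_zero.2 hc)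
  subst ht
  refine ⟨rfl, ?_⟩
  have h7 := h 1 0 0
  rw [D.u_mul, D.u_mul] at h7
  obtain ⟨-, -, h8⟩ := D.u_inj h7
  simp only [map_zero, map_one] at h8
  linear_combination -h8

omit hm in
theorem stableU_of_le (β : G ≃* G) (hβ : ∀ u ∈ D.U, β u ∈ D.U) : D.StableU β := by
  intro y
  refine ⟨fun hy => ?_, hβ y⟩
  let f : D.U → D.U := fun u => ⟨β u, hβ u u.2⟩
  have hf : Function.Injective f := fun a b h => Subtype.ext (β.injective (congrArg Subtype.val h))
  obtain ⟨u, hu⟩ := Finite.injective_iff_surjective.1 hf ⟨β y, hy⟩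
  have h1 : β u.1 = β y := congrArg Subtype.val hu
  rw [← β.injective h1]
  exact u.2

omit hm [Finite G] in
theorem stable_conj (x : G) (hx : x ∈ D.B) [Finite G] (β : G ≃* G) (hU : D.StableU β) :
    D.StableU (MulAut.conj x * β) := by
  apply D.stableU_of_le
  intro u hu
  exact D.B_norm_U hx ((hU u).2 hu)

include hm in
theorem stable_center (β : G ≃* G) (hU : D.StableU β) (b : K) : ∃ b', β (D.u 0 0 b) = D.u 0 0 b' := by
  obtain ⟨t, a, c, he⟩ := (hU _).2 (D.u_mem_U 0 0 b)
  have h1 : t = 0 ∧ a = 0 := by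
    apply D.center_U hm (b := c)
    intro t' a' b'
    obtain ⟨t₁, a₁, b₁, h2⟩ : β.symm (D.u t' a' b') ∈ D.U := by
      rw [← hU, MulEquiv.apply_symm_apply]
      exact D.u_mem_U _ _ _
    have h3 : D.u t' a' b' = β (D.u t₁ a₁ b₁) := by
      rw [← h2, MulEquiv.apply_symm_apply]
    rw [h3, ← he, ← map_mul, ← map_mul, D.u_mul, D.u_mul]
    congr 2
    · ring
    · simp only [map_zero]
      ring
    · simp only [map_zero]
      ring
  obtain ⟨rfl, rfl⟩ := h1
  exact ⟨c, he⟩

/-- An automorphism fixing the torus, the centre of `U` and `w`, and stabilising `U`, is trivial. -/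
theorem gamma_trivial (γ : G ≃* G) (hU : D.StableU γ) (hZ : ∀ b, γ (D.u 0 0 b) = D.u 0 0 b)
    (hD : ∀ κ, γ (D.d κ) = D.d κ) (hW : γ D.w = D.w) (hm : 1 ≤ D.m) : γ = 1 := by
  have h3 : (3 : K) = 0 := D.three
  have h2K := D.two_ne_zero_K
  have ht0 : γ D.t0 = D.t0 := hD _
  -- the middle layer
  have hA : ∀ a, ∃ a', γ (D.u 0 a 0) = D.u 0 a' 0 := by
    intro a
    obtain ⟨t', a', b', he⟩ := (hU _).2 (D.u_mem_U 0 a 0)
    have h1 : (D.u 0 a 0) ^ 3 = 1 := by
      rw [D.u_cube]
      simp [D.u_zero]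
    have ht' : t' = 0 := by
      by_contra hne
      apply D.u_cube_ne hne
      rw [← he, ← map_pow, h1, map_one]
    subst ht'
    have h2 : D.t0 * D.u 0 a' b' = D.u 0 a' b' * D.t0 := by
      rw [← he, ← ht0, ← map_mul, ← map_mul, D.t0_comm_u0]
    have h4 := D.t0_conj_u 0 a' b'
    rw [h2, mul_assoc, D.t0_sq, mul_one] at h4
    obtain ⟨-, -, h5⟩ := D.u_inj h4
    have hb : b' = 0 := by
      have : 2 * b' = 0 := by linear_combination h5
      exact (mul_eq_zero.1 this).resolve_left h2K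
    subst hb
    exact ⟨a', he⟩
  choose A hA using hA
  have ue : ∀ x y : K, D.u 0 x 0 * D.u 0 y 0 = D.u 0 (x + y) 0 := by
    intro x y
    rw [D.u_mul]
    simp
  have hAadd : ∀ x y, A (x + y) = A x + A y := by
    intro x y
    have h1 := congrArg γ (ue x y)
    rw [map_mul, hA, hA, hA, ue] at h1
    exact (D.u_inj h1).2.1.symm
  have hAeq : ∀ (κ : Kˣ) (a : K), A ((κ : K) ^ 3 * D.f.φ κ * a) = (κ : K) ^ 3 * D.f.φ κ * A a := by
    intro κ a
    have h1 := D.d_mul_u κ 0 a 0
    simp only [mul_zero] at h1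
    have h2 := congrArg γ h1
    rw [map_mul, map_mul, hD, hA, hA, D.d_mul_u] at h2
    simp only [mul_zero] at h2
    exact (D.u_inj (mul_right_cancel h2)).2.1.symm
  have hA0 : A 0 = 0 := by
    have := hAadd 0 0
    rw [add_zero] at this
    linear_combination -this
  have hAneg : ∀ z, A (-z) = - A z := by
    intro z
    have := hAadd z (-z)
    rw [add_neg_cancel, hA0] at this
    linear_combination -this
  have hAsq : ∀ μ a : K, A (μ ^ 2 * a) = μ ^ 2 * A a := by
    intro μ a
    by_cases hμ : μ = 0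
    · subst hμ
      simp [hA0]
    · let μu : Kˣ := Units.mk0 μ hμ
      have hθμ : D.f.θ μ ≠ 0 := (map_ne_zero _).2 hμ
      let κ : Kˣ := Units.mk0 (μ / D.f.θ μ) (div_ne_zero hμ hθμ)
      have e : (κ : K) ^ 3 * D.f.φ κ = μ ^ 2 := by
        simp only [κ, Units.val_mk0, map_div₀, D.f.φθ, div_pow, D.f.cube_θ]
        have hφμ : D.f.φ μ ≠ 0 := (map_ne_zero _).2 hμ
        field_simp
      rw [← e]
      exact hAeq κ a
  have hAmul : ∀ x a : K, A (x * a) = x * A a := by
    intro x a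
    have e : x * a = x ^ 2 * a + (1 ^ 2 * a + -((x + 1) ^ 2 * a)) := by
      linear_combination (x * a) * h3
    rw [e, hAadd, hAadd, hAneg, hAsq, hAsq, hAsq]
    linear_combination (-(x * A a)) * h3
  obtain ⟨c, hc⟩ : ∃ c, c = A 1 := ⟨_, rfl⟩
  have hAform : ∀ a, A a = a * c := by
    intro a
    have := hAmul a 1
    rwa [mul_one, ← hc] at this
  -- the top layer
  have hT : ∀ t, ∃ t' a' b', γ (D.u t 0 0) = D.u t' a' b' := by
    intro t
    obtain ⟨t', a', b', he⟩ := (hU _).2 (D.u_mem_U t 0 0)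
    exact ⟨t', a', b', he⟩
  choose T a₁ b₁ hT' using hT
  have hp0 : T 0 = 0 ∧ a₁ 0 = 0 ∧ b₁ 0 = 0 := by
    have h1 := hT' 0
    rw [D.u_zero, map_one, ← D.u_zero] at h1
    obtain ⟨e1, e2, e3⟩ := D.u_inj h1
    exact ⟨e1.symm, e2.symm, e3.symm⟩
  have hform : ∀ t a b, γ (D.u t a b) = D.u (T t) (a₁ t + A a) (b₁ t + b) := by
    intro t a b
    have e : D.u t a b = D.u t 0 0 * D.u 0 a 0 * D.u 0 0 b := by
      rw [D.u_mul, D.u_mul]
      simp
    rw [e, map_mul, map_mul, hT', hA, hZ, D.u_mul, D.u_mul]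
    simp
  have hTeq : ∀ x t : K, x ≠ 0 → T (x * t) = x * T t ∧ a₁ (x * t) = D.f.φ x * x * a₁ t ∧
      b₁ (x * t) = D.f.φ x * x ^ 2 * b₁ t := by
    intro x t hx
    let κ : Kˣ := Units.mk0 (D.f.θ x) ((map_ne_zero _).2 hx)
    have e1 : D.f.φ (κ : K) = x := D.f.φθ x
    have e2 : (κ : K) ^ 3 = D.f.φ x := D.f.cube_θ x
    have h1 := D.d_mul_u κ t 0 0
    simp only [mul_zero, e1, e2] at h1
    have h2 := congrArg γ h1
    rw [map_mul, map_mul, hD, hT', hT', D.d_mul_u, e1, e2] at h2
    obtain ⟨e3, e4, e5⟩ := D.u_inj (mul_right_cancel h2)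
    exact ⟨e3.symm, e4.symm, e5.symm⟩
  obtain ⟨e, he⟩ : ∃ e, e = T 1 := ⟨_, rfl⟩
  have hTform : ∀ t, T t = t * e := by
    intro t
    by_cases ht : t = 0
    · rw [ht, hp0.1, zero_mul]
    · have := (hTeq t 1 ht).1
      rwa [mul_one, ← he] at this
  have hec : e * c = 1 := by
    have e0 : D.u 1 0 0 * D.u 0 1 0 = D.u 0 1 0 * D.u 1 0 0 * D.u 0 0 (1 : K) := by
      rw [D.u_mul, D.u_mul, D.u_mul]
      simp
    have h1 := congrArg γ e0
    rw [map_mul, map_mul, map_mul, hT', hA, hZ, D.u_mul, D.u_mul, D.u_mul] at h1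
    obtain ⟨-, -, h2⟩ := D.u_inj h1
    simp only [map_zero] at h2
    rw [he, hc]
    linear_combination h2
  -- the relations
  have hrel : ∀ t t' : K, a₁ t + a₁ t' - T t * D.f.φ (T t') = a₁ (t + t') + A (- (t * D.f.φ t')) ∧
      b₁ t + b₁ t' + D.f.φ (T t') * T t' * T t - D.f.φ (T t') * T t ^ 2 - T t' * a₁ t =
        b₁ (t + t') + (D.f.φ t' * t' * t - D.f.φ t' * t ^ 2) := by
    intro t t'
    have e0 : D.u t 0 0 * D.u t' 0 0 = D.u (t + t') (- (t * D.f.φ t')) (D.f.φ t' * t' * t - D.f.φ t' * t ^ 2) := by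
      rw [D.u_mul]
      congr 1
      · ring
      · ring
    have h1 := congrArg γ e0
    rw [map_mul, hT', hT', hform, D.u_mul] at h1
    obtain ⟨-, h2, h4⟩ := D.u_inj h1
    exact ⟨h2, h4⟩
  obtain ⟨c₀, hc₀⟩ := D.exists_phi_ne hm
  have hcphi : c = e * D.f.φ e := by
    have h1 := (hrel c₀ 1).1
    have h2 := (hrel 1 c₀).1
    simp only [hTform, hAform, map_mul, map_one, add_comm (1 : K) c₀] at h1 h2
    have h4 : (c - e * D.f.φ e) * (c₀ - D.f.φ c₀) = 0 := by
      linear_combination h1 - h2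
    have h5 := (mul_eq_zero.1 h4).resolve_right (sub_ne_zero.2 hc₀.symm)
    linear_combination h5
  have he0 : e ≠ 0 := by
    rintro rfl
    rw [zero_mul] at hec
    exact zero_ne_one hec
  have he1 : e = 1 := by
    apply g_inj D.f he0 one_ne_zero
    rw [map_one]
    linear_combination hec - e * hcphi
  have hc1 : c = 1 := by
    rw [he1, one_mul] at hec
    exact hec
  have hTid : ∀ t, T t = t := fun t => by rw [hTform, he1, mul_one]
  have hAid : ∀ a, A a = a := fun a => by rw [hAform, hc1, mul_one]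
  -- the second coordinate vanishes
  have ha₁add : ∀ t t', a₁ (t + t') = a₁ t + a₁ t' := by
    intro t t'
    have h1 := (hrel t t').1
    simp only [hTid, hAid] at h1
    linear_combination -h1
  have ha₁1 : a₁ 1 = 0 := by
    have h1 := (hTeq 2 1 h2K).2.1
    have h2 : (2 : K) * 1 = 1 + 1 := by ring
    have h4 : D.f.φ (2 : K) = 2 := by
      have : (2 : K) = 1 + 1 := by ring
      rw [this, map_add, map_one]
    rw [h2, ha₁add, h4] at h1
    have h5 : 2 * a₁ 1 = 0 := by
      linear_combination -h1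
    exact (mul_eq_zero.1 h5).resolve_left h2K
  have ha₁0 : ∀ t, a₁ t = 0 := by
    intro t
    by_cases ht : t = 0
    · rw [ht]
      exact hp0.2.1
    · have := (hTeq t 1 ht).2.1
      rw [mul_one, ha₁1, mul_zero] at this
      exact this
  -- the third coordinate vanishes
  have hb₁add : ∀ t t', b₁ (t + t') = b₁ t + b₁ t' := by
    intro t t'
    have h1 := (hrel t t').2
    simp only [hTid, ha₁0] at h1
    linear_combination -h1
  have hb₁1 : b₁ 1 = 0 := by
    by_contra hb
    have hc₀0 : c₀ ≠ 0 := by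
      rintro rfl
      exact hc₀ (map_zero _)
    have hc₀1 : c₀ + 1 ≠ 0 := by
      intro h
      apply hc₀
      have e1 : c₀ = -1 := by linear_combination h
      rw [e1, map_neg, map_one]
    have h1 := (hTeq c₀ 1 hc₀0).2.2
    have h2 := (hTeq (c₀ + 1) 1 hc₀1).2.2
    rw [mul_one] at h1 h2
    rw [hb₁add, h1, map_add, map_one] at h2
    have h4 : (b₁ 1) * ((D.f.φ c₀ - c₀) * (1 - c₀)) = 0 := by
      linear_combination -h2 - (b₁ 1 * c₀ * (D.f.φ c₀ + 1)) * h3
    have h5 := (mul_eq_zero.1 h4).resolve_left hb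
    rcases mul_eq_zero.1 h5 with h6 | h6
    · exact hc₀ (sub_eq_zero.1 h6)
    · have e1 : c₀ = 1 := by linear_combination -h6
      apply hc₀
      rw [e1, map_one]
  have hb₁0 : ∀ t, b₁ t = 0 := by
    intro t
    by_cases ht : t = 0
    · rw [ht]
      exact hp0.2.2
    · have := (hTeq t 1 ht).2.2
      rw [mul_one, hb₁1, mul_zero] at this
      exact this
  have hfull : ∀ t a b, γ (D.u t a b) = D.u t a b := by
    intro t a b
    rw [hform, hTid, hAid, ha₁0, hb₁0, zero_add, zero_add]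
  apply MulEquiv.ext
  intro x
  change γ x = x
  rcases D.cases x with ⟨t, a, b, κ, rfl⟩ | ⟨t, a, b, κ, t', a', b', rfl⟩
  · rw [map_mul, hfull, hD]
  · simp only [map_mul, hfull, hD, hW]

end

end Dat

end Cfsg.Agent.Lib.Ree.Abs
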