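import Cfsg.Agent.Lib.Ree.Abs28
import Cfsg.Prelude.Def_KGroupFacts

/-!
# The abstract Ree group: the automorphism group
-/

set_option autoImplicit false
set_option linter.unusedSectionVars false
set_option linter.unusedSimpArgs false
set_option linter.unnecessarySeqFocus false

namespace Cfsg.Agent.Lib.Ree.Abs

open Matrix Cfsg.Agent.Lib.Ree.Sigma Cfsg.Agent.Lib.Ree.Words Cfsg.Agent.Lib.Ree.Psi Cfsg.Agent.Lib.Ree.Core
open scoped MatrixGroups Pointwise BigOperators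

variable {K G : Type*} [Field K] [Fintype K] [CharP K 3] [_root_.Group G]

namespace Dat

variable (D : Dat K G)

section

variable [Finite G] (hm : 1 ≤ D.m) (hθ : ∀ (τ : K ≃+* K) (x : K), τ (D.f.θ x) = D.f.θ (τ x))

include hm

theorem g_mul (x y : K) : (x * y) ^ 2 * D.f.φ (x * y) = (x ^ 2 * D.f.φ x) * (y ^ 2 * D.f.φ y) := by
  rw [map_mul]
  ring

/-- The relation between the action on the torus and on the centre of `U`. -/
theorem hrel_of (β : G ≃* G) (hU : D.StableU β) (ψ : Kˣ → Kˣ) (hψ : ∀ κ, β (D.d κ) = D.d (ψ κ))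
    (hW : β D.w = D.w) (B : K → K) (hB : ∀ b, β (D.u 0 0 b) = D.u 0 0 (B b)) {b : K} (hb : b ≠ 0) {κ : Kˣ}
    (hκ : (κ : K) ^ 2 * D.f.φ κ * (D.f.θ b) ^ 2 = 1) :
    ((ψ κ : Kˣ) : K) ^ 2 * D.f.φ (ψ κ : Kˣ) * (D.f.θ (B b)) ^ 2 = 1 := by
  obtain ⟨t, a, c, κ₀, t', a', c', he⟩ := D.exists_bruhat_center hb
  have h0 := D.corner_center he
  have hκ₀ : κ₀ = κ := by
    apply Units.ext
    apply g_inj D.f κ₀.ne_zero κ.ne_zero
    have hθb : (D.f.θ b) ^ 2 ≠ 0 := pow_ne_zero _ ((map_ne_zero _).2 hb)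
    apply mul_right_cancel₀ hθb
    rw [h0, hκ]
  subst hκ₀
  have h1 := congrArg β he
  obtain ⟨t₁, a₁, c₁, h2⟩ := (hU _).2 (D.u_mem_U t a c)
  obtain ⟨t₂, a₂, c₂, h3⟩ := (hU _).2 (D.u_mem_U t' a' c')
  simp only [map_mul, hW, hB, hψ, h2, h3] at h1
  exact D.corner_center h1

/-- An automorphism stabilising `U` and the torus and fixing `w` and `u(0,0,1)` is a twist. -/
theorem step4 (β : G ≃* G) (hU : D.StableU β) (hD : ∀ κ, ∃ κ', β (D.d κ) = D.d κ') (hW : β D.w = D.w)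
    (hB1 : β (D.u 0 0 1) = D.u 0 0 1) : ∃ τ : K ≃+* K, β = D.twist hθ τ := by
  have h3 : (3 : K) = 0 := D.three
  have h2K := D.two_ne_zero_K
  choose ψ hψ using hD
  have hψmul : ∀ c c' : Kˣ, ψ (c * c') = ψ c * ψ c' := by
    intro c c'
    apply D.d_inj
    rw [← hψ, map_mul, map_mul, map_mul, hψ, hψ]
  have hψone : ψ 1 = 1 := by
    apply D.d_inj
    rw [← hψ, map_one, map_one]
  have hψinj : Function.Injective ψ := by
    intro c c' h
    apply D.d_inj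
    apply β.injective
    rw [hψ, hψ, h]
  have hψneg : ψ (-1) = -1 := by
    have h1 : ψ (-1) * ψ (-1) = 1 := by
      rw [← hψmul]
      simp [hψone]
    have h2 : ψ (-1) ≠ 1 := by
      intro h
      have h' : ψ (-1) = ψ 1 := h.trans hψone.symm
      have h4 : ((-1 : Kˣ) : K) = ((1 : Kˣ) : K) := by rw [hψinj h']
      apply D.neg_one_ne_one
      simpa using h4
    have h4 : ((ψ (-1) : Kˣ) : K) * (ψ (-1) : Kˣ) = 1 := by
      have := congrArg Units.val h1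
      simpa using this
    have h5 : (((ψ (-1) : Kˣ) : K) - 1) * (((ψ (-1) : Kˣ) : K) + 1) = 0 := by linear_combination h4
    rcases mul_eq_zero.1 h5 with h6 | h6
    · exfalso
      apply h2
      apply Units.ext
      rw [Units.val_one]
      linear_combination h6
    · apply Units.ext
      rw [Units.val_neg, Units.val_one]
      linear_combination h6
  choose B hB using D.stable_center hm β hU
  have hBadd : ∀ b b' : K, B (b + b') = B b + B b' := by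
    intro b b'
    have e : ∀ x y : K, D.u 0 0 x * D.u 0 0 y = D.u 0 0 (x + y) := by
      intro x y
      rw [D.u_mul]
      simp
    have h1 := congrArg β (e b b')
    rw [map_mul, hB, hB, hB, e] at h1
    exact (D.u_inj h1).2.2.symm
  have hB0 : B 0 = 0 := by
    have := hBadd 0 0
    rw [add_zero] at this
    linear_combination -this
  have hBinj : Function.Injective B := by
    intro b b' he
    have h1 : β (D.u 0 0 b) = β (D.u 0 0 b') := by rw [hB, hB, he]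
    exact (D.u_inj (β.injective h1)).2.2
  have hBone : B 1 = 1 := by
    have h1 := hB 1
    rw [hB1] at h1
    exact (D.u_inj h1).2.2.symm
  have hBne : ∀ b : K, b ≠ 0 → B b ≠ 0 := by
    intro b hb h
    apply hb
    apply hBinj
    rw [h, hB0]
  -- existence of torus elements
  have hex : ∀ b : K, b ≠ 0 → ∃ κ : Kˣ, (κ : K) ^ 2 * D.f.φ κ * (D.f.θ b) ^ 2 = 1 := by
    intro b hb
    have hθb : (D.f.θ b) ^ 2 ≠ 0 := pow_ne_zero _ ((map_ne_zero _).2 hb)
    obtain ⟨κ, hκ0, hκ⟩ := g_surj D.f (inv_ne_zero hθb)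
    refine ⟨Units.mk0 κ hκ0, ?_⟩
    simp only [Units.val_mk0]
    rw [hκ]
    exact inv_mul_cancel₀ hθb
  have hsq : ∀ x y, B (x * y) ^ 2 = (B x * B y) ^ 2 := by
    intro x y
    by_cases hx : x = 0
    · rw [hx, zero_mul, hB0, zero_mul]
    by_cases hy : y = 0
    · rw [hy, mul_zero, hB0, mul_zero]
    obtain ⟨κ, hκ⟩ := hex x hx
    obtain ⟨κ', hκ'⟩ := hex y hy
    have hκκ : ((κ * κ' : Kˣ) : K) ^ 2 * D.f.φ (κ * κ' : Kˣ) * (D.f.θ (x * y)) ^ 2 = 1 := by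
      rw [Units.val_mul, D.g_mul hm, map_mul]
      linear_combination ((κ' : K) ^ 2 * D.f.φ κ' * (D.f.θ y) ^ 2) * hκ + hκ'
    have h1 := D.hrel_of hm β hU ψ hψ hW B hB hx hκ
    have h2 := D.hrel_of hm β hU ψ hψ hW B hB hy hκ'
    have h4 := D.hrel_of hm β hU ψ hψ hW B hB (mul_ne_zero hx hy) hκκ
    rw [hψmul, Units.val_mul, D.g_mul hm] at h4
    apply D.f.θ.injective
    rw [map_pow, map_pow, map_mul]
    have hg1 : ((ψ κ : Kˣ) : K) ^ 2 * D.f.φ (ψ κ : Kˣ) ≠ 0 :=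
      mul_ne_zero (pow_ne_zero _ (Units.ne_zero _)) ((map_ne_zero _).2 (Units.ne_zero _))
    have hg2 : ((ψ κ' : Kˣ) : K) ^ 2 * D.f.φ (ψ κ' : Kˣ) ≠ 0 :=
      mul_ne_zero (pow_ne_zero _ (Units.ne_zero _)) ((map_ne_zero _).2 (Units.ne_zero _))
    apply mul_left_cancel₀ (mul_ne_zero hg1 hg2)
    linear_combination h4 - ((ψ κ' : Kˣ) : K) ^ 2 * D.f.φ (ψ κ' : Kˣ) * (D.f.θ (B y)) ^ 2 * h1 - h2
  have hBmul := mult_of_sq h2K h3 B hBadd hBone hsq
  have hBbij : Function.Bijective B := ⟨hBinj, Finite.injective_iff_surjective.1 hBinj⟩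
  let τ : K ≃+* K := RingEquiv.ofBijective
    ({ toFun := B, map_one' := hBone, map_mul' := hBmul, map_zero' := hB0, map_add' := hBadd } : K →+* K)
    hBbij
  have hτ : ∀ x, τ x = B x := fun x => rfl
  refine ⟨τ, ?_⟩
  -- agreement on the torus
  have hφτ : ∀ x, τ (D.f.φ x) = D.f.φ (τ x) := D.phi_comm (τ : K →+* K) (hθ τ)
  have hψsq : ∀ (κ : Kˣ), IsSquare ((κ : K) ^ 2 * D.f.φ κ) → ((ψ κ : Kˣ) : K) = τ κ := by
    intro κ hκ
    obtain ⟨s, hs⟩ := hκ
    have hg : (κ : K) ^ 2 * D.f.φ κ ≠ 0 :=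
      mul_ne_zero (pow_ne_zero _ κ.ne_zero) ((map_ne_zero _).2 κ.ne_zero)
    have hs0 : s ≠ 0 := by
      rintro rfl
      apply hg
      rw [hs, mul_zero]
    set b := D.f.φ s⁻¹ with hb
    have hb0 : b ≠ 0 := (map_ne_zero _).2 (inv_ne_zero hs0)
    have hθb : D.f.θ b = s⁻¹ := by rw [hb, D.f.θφ]
    have h1 : (κ : K) ^ 2 * D.f.φ κ * (D.f.θ b) ^ 2 = 1 := by
      rw [hθb, hs]
      field_simp
    have h2 := D.hrel_of hm β hU ψ hψ hW B hB hb0 h1
    rw [← hτ, ← hθ] at h2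
    have h4 := congrArg τ h1
    rw [map_mul, map_pow, map_mul, map_pow, hφτ, map_one] at h4
    apply g_inj D.f (Units.ne_zero _) ((map_ne_zero _).2 κ.ne_zero)
    have hθτ : (τ (D.f.θ b)) ^ 2 ≠ 0 := pow_ne_zero _ ((map_ne_zero _).2 ((map_ne_zero _).2 hb0))
    apply mul_right_cancel₀ hθτ
    rw [h2, h4]
  have hψτ : ∀ κ : Kˣ, ((ψ κ : Kˣ) : K) = τ κ := by
    intro κ
    have hg : (κ : K) ^ 2 * D.f.φ κ ≠ 0 :=
      mul_ne_zero (pow_ne_zero _ κ.ne_zero) ((map_ne_zero _).2 κ.ne_zero)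
    rcases D.sq_or_neg _ hg with h | h
    · exact hψsq κ h
    · have h1 : IsSquare (((-κ : Kˣ) : K) ^ 2 * D.f.φ (-κ : Kˣ)) := by
        have e : ((-κ : Kˣ) : K) ^ 2 * D.f.φ (-κ : Kˣ) = -((κ : K) ^ 2 * D.f.φ κ) := by
          rw [Units.val_neg, map_neg]
          ring
        rw [e]
        exact h
      have h2 := hψsq (-κ) h1
      have e : -κ = (-1) * κ := by simp
      rw [e, hψmul, hψneg] at h2
      simp only [Units.val_mul, Units.val_neg, Units.val_one, map_mul, map_neg, map_one] at h2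
      linear_combination -h2
  -- the composition is trivial
  have hγ : (D.twist hθ τ)⁻¹ * β = 1 := by
    apply D.gamma_trivial _ _ _ _ _ hm
    · apply D.stableU_of_le
      rintro _ ⟨t, a, b, rfl⟩
      obtain ⟨t₁, a₁, b₁, h1⟩ := (hU _).2 (D.u_mem_U t a b)
      change (D.twist hθ τ).symm (β (D.u t a b)) ∈ D.U
      rw [h1]
      refine ⟨τ.symm t₁, τ.symm a₁, τ.symm b₁, ?_⟩
      rw [MulEquiv.symm_apply_eq, twist_u]
      simp
    · intro b
      change (D.twist hθ τ).symm (β (D.u 0 0 b)) = _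
      rw [MulEquiv.symm_apply_eq, twist_u, hB, map_zero, hτ]
    · intro κ
      change (D.twist hθ τ).symm (β (D.d κ)) = _
      rw [MulEquiv.symm_apply_eq, twist_d, hψ]
      congr 1
      apply Units.ext
      exact hψτ κ
    · change (D.twist hθ τ).symm (β D.w) = _
      rw [MulEquiv.symm_apply_eq, twist_w, hW]
  have h1 := inv_mul_eq_one.1 hγ
  exact h1.symm

omit hm in
theorem units_sq_eq_one' {κ : Kˣ} (hκ : κ ^ 2 = 1) : κ = 1 ∨ κ = -1 := by
  have h3 : ((κ : K) - 1) * ((κ : K) + 1) = 0 := by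
    have : ((κ ^ 2 : Kˣ) : K) = 1 := by rw [hκ]; rfl
    rw [Units.val_pow_eq_pow_val] at this
    linear_combination this
  rcases mul_eq_zero.1 h3 with h4 | h4
  · left
    apply Units.ext
    rw [Units.val_one]
    linear_combination h4
  · right
    apply Units.ext
    rw [Units.val_neg, Units.val_one]
    linear_combination h4

omit hm in
theorem step1 (α : G ≃* G) : ∃ x : G, D.StableU (MulAut.conj x⁻¹ * α) := by
  haveI : Fact (Nat.Prime 3) := ⟨Nat.prime_three⟩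
  obtain ⟨P₀, hP₀⟩ := D.exists_sylow_U
  obtain ⟨x, hx⟩ := MulAction.exists_smul_eq G P₀ (α • P₀)
  refine ⟨x, D.stableU_of_le _ ?_⟩
  intro u hu
  have h1 : α u ∈ ((α • P₀ : Sylow 3 G) : Subgroup G) :=
    Subgroup.smul_mem_pointwise_smul u α (P₀ : Subgroup G) (by rw [hP₀]; exact hu)
  rw [← hx, Sylow.coe_subgroup_smul, Subgroup.mem_pointwise_smul_iff_inv_smul_mem, hP₀, ← map_inv,
    MulAut.smul_def, map_inv, MulAut.conj_inv_apply] at h1
  change x⁻¹ * α u * x⁻¹⁻¹ ∈ D.U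
  rwa [inv_inv]

omit hm in
theorem mem_B_of_norm {x : G} (hx : ∀ v ∈ D.U, x * v * x⁻¹ ∈ D.U) : x ∈ D.B := by
  have h1 : (x * D.u 1 0 0 * x⁻¹) • D.p0 = D.p0 := D.smul_p0_iff.2 (D.U_le_B (hx _ (D.u_mem_U 1 0 0)))
  have hu1 : D.u (1 : K) 0 0 ≠ 1 := by
    rw [← D.u_zero]
    intro h
    exact one_ne_zero (D.u_inj h).1
  have h2 : D.u 1 0 0 • (x⁻¹ • D.p0) = x⁻¹ • D.p0 := by
    have e : D.u 1 0 0 * x⁻¹ = x⁻¹ * (x * D.u 1 0 0 * x⁻¹) := by group
    rw [← mul_smul, e, mul_smul, h1]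
  have h3 := D.U_fix (D.u_mem_U 1 0 0) hu1 h2
  have h4 : x⁻¹ ∈ D.B := D.smul_p0_iff.1 h3
  simpa using D.B.inv_mem h4

theorem step2 (β : G ≃* G) (hU : D.StableU β) :
    ∃ v : G, v ∈ D.U ∧ D.StableU (MulAut.conj v⁻¹ * β) ∧
      ∀ κ : Kˣ, ∃ κ', (MulAut.conj v⁻¹ * β) (D.d κ) = D.d κ' := by
  classical
  obtain ⟨κ₀, hκ₀⟩ := IsCyclic.exists_generator (α := Kˣ)
  have hord : orderOf κ₀ = D.q - 1 := by
    rw [orderOf_eq_card_of_forall_mem_zpowers hκ₀, Nat.card_eq_fintype_card, Fintype.card_units, D.card_K']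
  have hB : β (D.d κ₀) ∈ D.B := by
    apply D.mem_B_of_norm
    intro v hv
    obtain ⟨v', hv'⟩ : ∃ v', β v' = v := β.surjective v
    subst hv'
    have h1 := (hU v').1 hv
    rw [← map_inv, ← map_mul, ← map_mul, hU]
    exact D.B_norm_U (D.d_mem_B κ₀) h1
  obtain ⟨t, a, b, κ', he⟩ := hB
  have hκ' : κ' ^ 2 ≠ 1 := by
    intro h
    have h18 : (D.u t a b * D.d κ') ^ 18 = 1 := by
      rcases units_sq_eq_one' h with rfl | rfl
      · rw [map_one, mul_one]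
        have e : (18 : ℕ) = 9 * 2 := by norm_num
        rw [e, pow_mul, D.u_pow_nine, one_pow]
      · have e : (18 : ℕ) = 6 * 3 := by norm_num
        rw [e, pow_mul]
        have h6 := D.u_t0_pow_six t a b
        rw [show D.t0 = D.d (-1) from rfl] at h6
        rw [h6, one_pow]
    have h1 : β (D.d (κ₀ ^ 18)) = 1 := by
      rw [map_pow, map_pow, he, h18]
    have h2 : κ₀ ^ 18 = 1 := by
      apply D.d_inj
      apply β.injective
      rw [h1, map_one, map_one]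
    have h4 := orderOf_dvd_of_pow_eq_one h2
    rw [hord] at h4
    have h5 := Nat.le_of_dvd (by norm_num) h4
    have h6 := D.q_ge' hm
    omega
  obtain ⟨v, hvU, hv⟩ := D.conj_d_of_coset hκ' t a b
  refine ⟨v, hvU, D.stable_conj v⁻¹ (D.U_le_B (D.U.inv_mem hvU)) β hU, ?_⟩
  intro κ
  obtain ⟨n, rfl⟩ := Subgroup.mem_zpowers_iff.1 (hκ₀ κ)
  refine ⟨κ' ^ n, ?_⟩
  rw [map_zpow, map_zpow, map_zpow]
  congr 1
  change v⁻¹ * β (D.d κ₀) * v⁻¹⁻¹ = D.d κ'
  rw [he, hv]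
  group

theorem step3 (β : G ≃* G) (hU : D.StableU β) (hD : ∀ κ, ∃ κ', β (D.d κ) = D.d κ') :
    ∃ l : Kˣ, D.StableU (MulAut.conj (D.d l) * β) ∧ (∀ κ, ∃ κ', (MulAut.conj (D.d l) * β) (D.d κ) = D.d κ') ∧
      (MulAut.conj (D.d l) * β) D.w = D.w := by
  choose ψ hψ using hD
  have hψone : ψ 1 = 1 := by
    apply D.d_inj
    rw [← hψ, map_one, map_one]
  have hψinj : Function.Injective ψ := by
    intro c c' h
    apply D.d_inj
    apply β.injective
    rw [hψ, hψ, h]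
  have hψsurj := Finite.injective_iff_surjective.1 hψinj
  set x := β D.w with hx
  have hx2 : x * x = 1 := by
    rw [hx, ← map_mul, D.w_mul_w, map_one]
  have hxi : x⁻¹ = x := inv_eq_of_mul_eq_one_left hx2
  have hconj : ∀ κ, x * D.d (ψ κ) * x⁻¹ = D.d (ψ κ⁻¹) := by
    intro κ
    rw [hxi, ← hψ, ← hψ, hx, ← map_mul, ← map_mul, D.w_conj_d]
  have hfwd : ∀ h ∈ D.H0, x * h * x⁻¹ ∈ D.H0 := by
    rintro _ ⟨κ', rfl⟩
    obtain ⟨κ, rfl⟩ := hψsurj κ'
    exact ⟨ψ κ⁻¹, (hconj κ).symm⟩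
  have hN : x ∈ Subgroup.normalizer ((D.H0 : Subgroup G) : Set G) := by
    rw [Subgroup.mem_normalizer_iff]
    intro h
    refine ⟨hfwd h, fun hh => ?_⟩
    have h1 := hfwd _ hh
    have e : x * (x * h * x⁻¹) * x⁻¹ = h := by
      rw [hxi]
      calc x * (x * h * x) * x = (x * x) * h * (x * x) := by group
        _ = h := by rw [hx2, one_mul, mul_one]
    rwa [e] at h1
  rcases (D.mem_norm_H0 hm).1 hN with hxH | ⟨z, ⟨κ₁, rfl⟩, hxz⟩
  · exfalso
    obtain ⟨κ, hκ⟩ := D.exists_sq_ne hm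
    apply hκ
    have h1 := hconj κ
    have h2 : x * D.d (ψ κ) * x⁻¹ = D.d (ψ κ) := by
      rw [D.H0_comm hxH (D.d_mem_H0 _), mul_inv_cancel_right]
    rw [h2] at h1
    have h4 := hψinj (D.d_inj h1)
    rw [pow_two]
    nth_rewrite 1 [h4]
    exact inv_mul_cancel κ
  -- the class of `κ₁` is a square
  obtain ⟨t, a, c, κ₀, t', a', c', he⟩ := D.exists_bruhat_center (one_ne_zero (α := K))
  have h0 := D.corner_center he
  have hκ₀ : κ₀ = 1 := by
    apply Units.ext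
    rw [Units.val_one]
    apply g_inj D.f κ₀.ne_zero one_ne_zero
    rw [map_one]
    simpa using h0
  subst hκ₀
  rw [map_one, mul_one] at he
  have h1 := congrArg β he
  obtain ⟨c₁, hc₁⟩ := D.stable_center hm β hU 1
  obtain ⟨t₁, a₁, b₁, h2⟩ := (hU _).2 (D.u_mem_U t a c)
  obtain ⟨t₂, a₂, b₂, h4⟩ := (hU _).2 (D.u_mem_U t' a' c')
  rw [map_mul, map_mul, map_mul, map_mul, ← hx, hc₁, h2, h4, hxz] at h1
  -- simplify both sides
  have hdw : D.d κ₁ * D.w = D.w * D.d κ₁⁻¹ := by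
    rw [D.w_mul_d, inv_inv]
  have eL : D.w * D.d κ₁ * D.u 0 0 c₁ * (D.w * D.d κ₁) =
      D.w * D.u 0 0 ((κ₁ : K) ^ 3 * D.f.φ κ₁ ^ 2 * c₁) * D.w := by
    have e1 := D.d_mul_u κ₁ 0 0 c₁
    simp only [mul_zero] at e1
    calc D.w * D.d κ₁ * D.u 0 0 c₁ * (D.w * D.d κ₁) = D.w * (D.d κ₁ * D.u 0 0 c₁) * (D.w * D.d κ₁) := by group
      _ = D.w * (D.u 0 0 ((κ₁ : K) ^ 3 * D.f.φ κ₁ ^ 2 * c₁) * D.d κ₁) * (D.w * D.d κ₁) := by rw [e1]
      _ = D.w * D.u 0 0 ((κ₁ : K) ^ 3 * D.f.φ κ₁ ^ 2 * c₁) * (D.d κ₁ * D.w) * D.d κ₁ := by group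
      _ = D.w * D.u 0 0 ((κ₁ : K) ^ 3 * D.f.φ κ₁ ^ 2 * c₁) * (D.w * D.d κ₁⁻¹) * D.d κ₁ := by rw [hdw]
      _ = D.w * D.u 0 0 ((κ₁ : K) ^ 3 * D.f.φ κ₁ ^ 2 * c₁) * D.w * (D.d κ₁⁻¹ * D.d κ₁) := by group
      _ = _ := by rw [← map_mul, inv_mul_cancel, map_one, mul_one]
  have eR : D.u t₁ a₁ b₁ * (D.w * D.d κ₁) * D.u t₂ a₂ b₂ = D.u t₁ a₁ b₁ * D.d κ₁⁻¹ * D.w * D.u t₂ a₂ b₂ := by
    rw [D.w_mul_d, mul_assoc (D.u t₁ a₁ b₁) (D.d κ₁⁻¹) D.w]
  rw [eL, eR] at h1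
  have h5 := D.corner_center h1
  -- `κ₁` is a square
  have hκ₁0 : (κ₁ : K) ≠ 0 := κ₁.ne_zero
  have hφ0 : D.f.φ (κ₁ : K) ≠ 0 := (map_ne_zero _).2 hκ₁0
  set s := D.f.θ ((κ₁ : K) ^ 3 * D.f.φ κ₁ ^ 2 * c₁) with hs
  have h6 : D.f.φ (κ₁ : K) = (s / κ₁) ^ 2 := by
    have e1 : ((κ₁⁻¹ : Kˣ) : K) = (κ₁ : K)⁻¹ := Units.val_inv_eq_inv_val κ₁
    rw [e1, map_inv₀] at h5
    field_simp at h5 ⊢
    linear_combination -h5
  have h7 : (κ₁ : K) = (D.f.θ (s / κ₁)) ^ 2 := by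
    rw [← map_pow, ← h6, D.f.θφ]
  have hl0 : D.f.θ (s / κ₁) ≠ 0 := by
    intro h
    apply hκ₁0
    rw [h7, h]
    simp
  let l : Kˣ := Units.mk0 _ hl0
  have hl : l * l = κ₁ := by
    apply Units.ext
    simp only [Units.val_mul, l, Units.val_mk0]
    rw [← pow_two]
    exact h7.symm
  refine ⟨l, D.stable_conj _ (D.d_mem_B l) β hU, ?_, ?_⟩
  · intro κ
    refine ⟨ψ κ, ?_⟩
    change D.d l * β (D.d κ) * (D.d l)⁻¹ = _
    rw [hψ, ← map_inv, ← map_mul, ← map_mul, mul_comm l (ψ κ), mul_assoc, mul_inv_cancel, mul_one]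
  · change D.d l * β D.w * (D.d l)⁻¹ = _
    rw [← hx, hxz, ← map_inv]
    have e1 : D.d l * D.w = D.w * D.d l⁻¹ := by
      rw [D.w_mul_d, inv_inv]
    calc D.d l * (D.w * D.d κ₁) * D.d l⁻¹ = (D.d l * D.w) * D.d κ₁ * D.d l⁻¹ := by group
      _ = D.w * (D.d l⁻¹ * D.d κ₁ * D.d l⁻¹) := by rw [e1]; group
      _ = D.w := by
        rw [← map_mul, ← map_mul, ← hl]
        have : l⁻¹ * (l * l) * l⁻¹ = 1 := by group
        rw [this, map_one, mul_one]

theorem step3b (β : G ≃* G) (hU : D.StableU β) (hD : ∀ κ, ∃ κ', β (D.d κ) = D.d κ') (hW : β D.w = D.w) :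
    ∃ y : G, y ∈ D.B ∧ D.StableU (MulAut.conj y * β) ∧ (∀ κ, ∃ κ', (MulAut.conj y * β) (D.d κ) = D.d κ') ∧
      (MulAut.conj y * β) D.w = D.w ∧ (MulAut.conj y * β) (D.u 0 0 1) = D.u 0 0 1 := by
  have hD' := hD
  choose ψ hψ using hD
  have hψone : ψ 1 = 1 := by
    apply D.d_inj
    rw [← hψ, map_one, map_one]
  choose B hB using D.stable_center hm β hU
  have h1 : (((1 : Kˣ) : K)) ^ 2 * D.f.φ ((1 : Kˣ) : K) * (D.f.θ 1) ^ 2 = 1 := by simp
  have h2 := D.hrel_of hm β hU ψ hψ hW B hB one_ne_zero h1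
  rw [hψone] at h2
  simp only [Units.val_one, one_pow, map_one, mul_one, one_mul] at h2
  have h4 : (B 1) ^ 2 = 1 := by
    apply D.f.θ.injective
    rw [map_pow, map_one]
    exact h2
  have h5 : (B 1 - 1) * (B 1 + 1) = 0 := by linear_combination h4
  rcases mul_eq_zero.1 h5 with h6 | h6
  · refine ⟨1, D.B.one_mem, ?_, ?_, ?_, ?_⟩
    · rwa [map_one, one_mul]
    · rwa [map_one, one_mul]
    · rw [map_one, one_mul, hW]
    · rw [map_one, one_mul, hB]
      have : B 1 = 1 := by linear_combination h6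
      rw [this]
  · refine ⟨D.t0, D.d_mem_B _, D.stable_conj _ (D.d_mem_B _) β hU, ?_, ?_, ?_⟩
    · intro κ
      refine ⟨ψ κ, ?_⟩
      change D.t0 * β (D.d κ) * D.t0⁻¹ = _
      rw [hψ, D.t0_inv]
      have h7 := D.H0_comm (D.d_mem_H0 (-1)) (D.d_mem_H0 (ψ κ))
      change D.t0 * D.d (ψ κ) = D.d (ψ κ) * D.t0 at h7
      rw [h7, mul_assoc, D.t0_sq, mul_one]
    · change D.t0 * β D.w * D.t0⁻¹ = _
      rw [hW, D.t0_inv, ← D.w_comm_t0, mul_assoc, D.t0_sq, mul_one]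
    · change D.t0 * β (D.u 0 0 1) * D.t0⁻¹ = _
      rw [hB, D.t0_inv, D.t0_conj_u]
      have : B 1 = -1 := by linear_combination h6
      rw [this]
      simp

/-- Every automorphism is inner times a field twist. -/
theorem aut_decomp (α : G ≃* G) : ∃ (x : G) (τ : K ≃+* K), α = MulAut.conj x * D.twist hθ τ := by
  obtain ⟨x₁, h1⟩ := D.step1 α
  obtain ⟨v, -, h2, h3⟩ := D.step2 hm _ h1
  obtain ⟨l, h4, h5, h6⟩ := D.step3 hm _ h2 h3
  obtain ⟨y, -, h7, h8, h9, h10⟩ := D.step3b hm _ h4 h5 h6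
  obtain ⟨τ, hτ⟩ := D.step4 hm hθ _ h7 h8 h9 h10
  refine ⟨x₁ * v * (D.d l)⁻¹ * y⁻¹, τ, ?_⟩
  rw [← hτ]
  simp only [map_mul, map_inv]
  group

/-- The map from field automorphisms to outer automorphisms is bijective. -/
theorem out_bijective : Function.Bijective (fun τ : K ≃+* K =>
    (QuotientGroup.mk (D.twist hθ τ : MulAut G) : Cfsg.Out G)) := by
  constructor
  · intro τ τ' he
    simp only at he
    rw [QuotientGroup.eq] at he
    obtain ⟨x, hx⟩ := he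
    rw [twist_comp] at hx
    have h1 := D.twist_inner hθ (τ'.trans τ.symm) x (fun y => by
      rw [← hx]
      rfl)
    apply RingEquiv.ext
    intro a
    have h2 := RingEquiv.congr_fun h1 a
    simp only [RingEquiv.trans_apply, RingEquiv.refl_apply] at h2
    have h3 := congrArg τ h2
    simpa using h3.symm
  · intro q
    obtain ⟨α, rfl⟩ := QuotientGroup.mk_surjective q
    obtain ⟨x, τ, rfl⟩ := D.aut_decomp hm hθ α
    refine ⟨τ, ?_⟩
    simp only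
    rw [QuotientGroup.eq]
    refine ⟨(D.twist hθ τ).symm x, ?_⟩
    apply MulEquiv.ext
    intro y
    change (D.twist hθ τ).symm x * y * ((D.twist hθ τ).symm x)⁻¹ =
      (D.twist hθ τ).symm (x * (D.twist hθ τ y) * x⁻¹)
    simp

include D in
omit hm in
/-- The number of ring automorphisms of the field. -/
theorem card_ringAut : Nat.card (K ≃+* K) = 2 * D.m + 1 := by
  let _ : Algebra (ZMod 3) K := ZMod.algebra K 3
  have h1 : Fact (Nat.Prime 3) := ⟨Nat.prime_three⟩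
  have hgal : Nat.card (K ≃ₐ[ZMod 3] K) = Module.finrank (ZMod 3) K := by
    have h2 := FiniteField.bijective_frobeniusAlgEquivOfAlgebraic_pow (ZMod 3) K
    rw [← Nat.card_congr (Equiv.ofBijective _ h2)]
    simp
  have hfin : Module.finrank (ZMod 3) K = 2 * D.m + 1 := by
    have h3 : Fintype.card K = Fintype.card (ZMod 3) ^ Module.finrank (ZMod 3) K :=
      Module.card_eq_pow_finrank
    rw [ZMod.card, D.card_K] at h3
    exact (Nat.pow_right_injective (by norm_num : 2 ≤ 3) h3).symm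
  rw [← hfin, ← hgal]
  apply Nat.card_congr
  refine
    { toFun := fun τ => AlgEquiv.ofRingEquiv (f := τ) (fun r => ?_)
      invFun := fun τ => τ.toRingEquiv
      left_inv := fun τ => by
        apply RingEquiv.ext
        intro x
        rfl
      right_inv := fun τ => by
        apply AlgEquiv.ext
        intro x
        rfl }
  exact RingHom.congr_fun (Subsingleton.elim ((τ : K →+* K).comp (algebraMap (ZMod 3) K))
    (algebraMap (ZMod 3) K)) r

include hθ in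
theorem card_out : Nat.card (Cfsg.Out G) = 2 * D.m + 1 := by
  rw [← D.card_ringAut]
  exact (Nat.card_congr (Equiv.ofBijective _ (D.out_bijective hm hθ))).symm

end

end Dat

end Cfsg.Agent.Lib.Ree.Abs
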