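import Cfsg.Agent.Lib.Ree.Abs2

/-!
# The abstract Ree group: an elementary abelian subgroup of order eight
-/

set_option autoImplicit false
set_option linter.unusedSectionVars false
set_option linter.unusedSimpArgs false
set_option linter.unnecessarySeqFocus false

namespace Cfsg.Agent.Lib.Ree.Abs

open Matrix Cfsg.Agent.Lib.Ree.Sigma Cfsg.Agent.Lib.Ree.Words Cfsg.Agent.Lib.Ree.Psi
open scoped MatrixGroups

namespace Dat

variable {K G : Type*} [Field K] [Fintype K] [CharP K 3] [_root_.Group G] (D : Dat K G)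

section Mat

/-- The second generator of the quaternion group. -/
def jj : SL(2, K) := ⟨!![1, 1; 1, -1], by
  have h3 : (3 : K) = 0 := three_eq_zero
  simp only [Matrix.det_fin_two_of]
  linear_combination -h3⟩

theorem jj_apply : (jj : SL(2, K)) 0 0 = 1 ∧ (jj : SL(2, K)) 0 1 = 1 ∧
    (jj : SL(2, K)) 1 0 = 1 ∧ (jj : SL(2, K)) 1 1 = -1 := by
  simp [jj]

theorem g0_sq : (g0 : SL(2, K)) * g0 = nI := by
  obtain ⟨h1, h2, h3, h4⟩ := g0_apply (K := K)
  obtain ⟨n1, n2, n3, n4⟩ := nI_apply (K := K)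
  apply sl_ext <;> rw [sl_mul_apply] <;> simp [h1, h2, h3, h4, n1, n2, n3, n4]

theorem jj_sq : (jj : SL(2, K)) * jj = nI := by
  have h3' : (3 : K) = 0 := three_eq_zero
  obtain ⟨h1, h2, h3, h4⟩ := jj_apply (K := K)
  obtain ⟨n1, n2, n3, n4⟩ := nI_apply (K := K)
  apply sl_ext <;> rw [sl_mul_apply] <;> simp [h1, h2, h3, h4, n1, n2, n3, n4] <;> grind

theorem g0_jj_comm : (g0 : SL(2, K)) * jj = nI * (jj * g0) := by
  obtain ⟨h1, h2, h3, h4⟩ := jj_apply (K := K)
  obtain ⟨g1, g2, g3, g4⟩ := g0_apply (K := K)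
  apply sl_ext <;> rw [nI_mul, sl_mul_apply, sl_mul_apply] <;> simp [h1, h2, h3, h4, g1, g2, g3, g4]

end Mat

/-- The second involution. -/
noncomputable def vb : G := D.psi jj

theorem w_sq' : D.w * D.w = 1 := D.w_mul_w

theorem vb_sq : D.vb * D.vb = 1 := by
  rw [vb, ← map_mul, jj_sq, psi_nI]

theorem w_comm_vb : D.w * D.vb = D.vb * D.w := by
  rw [vb, ← psi_g0, ← map_mul, ← map_mul, g0_jj_comm, map_mul, psi_nI, one_mul]

theorem t0_comm_vb : D.t0 * D.vb = D.vb * D.t0 := D.t0_comm_psi _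

/-- The elementary abelian group of order eight. -/
abbrev E8 : Type := Multiplicative (ZMod 2) × Multiplicative (ZMod 2) × Multiplicative (ZMod 2)

theorem z2_cases (a : Multiplicative (ZMod 2)) : a = 1 ∨ a = Multiplicative.ofAdd 1 := by
  revert a
  decide

theorem z2Hom_one {H : Type*} [_root_.Group H] (x : H) (hx : x * x = 1) : z2Hom x hx 1 = 1 := map_one _

theorem z2Hom_t {H : Type*} [_root_.Group H] (x : H) (hx : x * x = 1) : z2Hom x hx (Multiplicative.ofAdd 1) = x := by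
  have h1 : (Multiplicative.ofAdd (1 : ZMod 2)) ≠ 1 := by decide
  show (if Multiplicative.ofAdd (1 : ZMod 2) = 1 then 1 else x) = x
  rw [if_neg h1]

/-- The homomorphism from the elementary abelian group. -/
noncomputable def sHom : E8 →* G :=
  MonoidHom.noncommCoprod (z2Hom D.t0 D.t0_sq)
    (MonoidHom.noncommCoprod (z2Hom D.w D.w_mul_w) (z2Hom D.vb D.vb_sq) (by
      intro a b
      rcases z2_cases a with rfl | rfl
      · rw [z2Hom_one]
        exact Commute.one_left _
      · rcases z2_cases b with rfl | rfl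
        · rw [z2Hom_one]
          exact Commute.one_right _
        · rw [z2Hom_t, z2Hom_t]
          exact D.w_comm_vb)) (by
      rintro a ⟨b, c⟩
      rcases z2_cases a with rfl | rfl
      · rw [z2Hom_one]
        exact Commute.one_left _
      · rw [z2Hom_t]
        show Commute D.t0 (z2Hom D.w D.w_mul_w b * z2Hom D.vb D.vb_sq c)
        apply Commute.mul_right
        · rcases z2_cases b with rfl | rfl
          · rw [z2Hom_one]
            exact Commute.one_right _
          · rw [z2Hom_t]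
            exact D.w_comm_t0.symm
        · rcases z2_cases c with rfl | rfl
          · rw [z2Hom_one]
            exact Commute.one_right _
          · rw [z2Hom_t]
            exact D.t0_comm_vb)

theorem sHom_apply (a b c : Multiplicative (ZMod 2)) : D.sHom (a, b, c) =
    z2Hom D.t0 D.t0_sq a * (z2Hom D.w D.w_mul_w b * z2Hom D.vb D.vb_sq c) := rfl

theorem sHom_inj : Function.Injective D.sHom := by
  rw [injective_iff_map_eq_one]
  rintro ⟨a, b, c⟩ h
  rw [sHom_apply] at h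
  obtain ⟨j1, j2, j3, j4⟩ := jj_apply (K := K)
  obtain ⟨g1, g2, g3, g4⟩ := g0_apply (K := K)
  have hne0 : (-1 : K) ≠ 0 := by simp
  have hA : D.w ≠ 1 := by
    rw [← psi_g0]
    intro h
    have := (D.eq_of_psi_eq_one h).1
    rw [g2] at this
    exact one_ne_zero this
  have hB : D.vb ≠ 1 := by
    rw [vb]
    intro h
    have := (D.eq_of_psi_eq_one h).1
    rw [j2] at this
    exact one_ne_zero this
  have hAB : D.w * D.vb ≠ 1 := by
    rw [vb, ← psi_g0, ← map_mul]
    intro h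
    have := (D.eq_of_psi_eq_one h).1
    rw [sl_mul_apply, g1, g2, j4] at this
    apply hne0
    simpa using this
  have hT : ∀ g : SL(2, K), D.t0 * D.psi g ≠ 1 := by
    intro g h
    apply D.t0_not_mem g
    have := inv_eq_of_mul_eq_one_right h
    rw [D.t0_inv] at this
    exact this.symm
  rcases z2_cases a with rfl | rfl <;> rcases z2_cases b with rfl | rfl <;> rcases z2_cases c with rfl | rfl <;>
    simp only [z2Hom_one, z2Hom_t, one_mul, mul_one] at h
  · rfl
  · exact absurd h hB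
  · exact absurd h hA
  · exact absurd h hAB
  · exact absurd h D.t0_ne
  · exact absurd h (hT _)
  · rw [← psi_g0] at h
    exact absurd h (hT _)
  · rw [vb, ← psi_g0, ← map_mul] at h
    exact absurd h (hT _)

/-- The elementary abelian subgroup of order eight. -/
noncomputable def S0 : Subgroup G := D.sHom.range

theorem card_S0 : Nat.card D.S0 = 8 := by
  rw [S0, ← Nat.card_congr (MonoidHom.ofInjective D.sHom_inj).toEquiv, Nat.card_eq_fintype_card]
  rfl

theorem S0_sq {x : G} (hx : x ∈ D.S0) : x * x = 1 := by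
  obtain ⟨⟨a, b, c⟩, rfl⟩ := hx
  rw [← map_mul]
  have : ((a, b, c) * (a, b, c) : E8) = 1 := by
    revert a b c
    decide
  rw [this, map_one]

theorem S0_comm {x y : G} (hx : x ∈ D.S0) (hy : y ∈ D.S0) : x * y = y * x := by
  have h1 := D.S0_sq (Subgroup.mul_mem _ hx hy)
  have h2 : x⁻¹ = x := inv_eq_of_mul_eq_one_left (D.S0_sq hx)
  have h3 : y⁻¹ = y := inv_eq_of_mul_eq_one_left (D.S0_sq hy)
  have h4 : (x * y)⁻¹ = x * y := inv_eq_of_mul_eq_one_left h1
  calc x * y = (x * y)⁻¹ := h4.symm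
    _ = y⁻¹ * x⁻¹ := _root_.mul_inv_rev x y
    _ = y * x := by rw [h2, h3]

theorem t0_mem_S0 : D.t0 ∈ D.S0 := ⟨(Multiplicative.ofAdd 1, 1, 1), by
  rw [sHom_apply, z2Hom_t, z2Hom_one, z2Hom_one, one_mul, mul_one]⟩

theorem w_mem_S0 : D.w ∈ D.S0 := ⟨(1, Multiplicative.ofAdd 1, 1), by
  rw [sHom_apply, z2Hom_t, z2Hom_one, z2Hom_one, one_mul, mul_one]⟩

theorem vb_mem_S0 : D.vb ∈ D.S0 := ⟨(1, 1, Multiplicative.ofAdd 1), by
  rw [sHom_apply, z2Hom_t, z2Hom_one, z2Hom_one, one_mul, one_mul]⟩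

/-- The elements of the elementary abelian subgroup. -/
theorem S0_cases {x : G} (hx : x ∈ D.S0) : x = 1 ∨ x = D.w ∨ x = D.vb ∨ x = D.w * D.vb ∨
    x = D.t0 ∨ x = D.t0 * D.w ∨ x = D.t0 * D.vb ∨ x = D.t0 * (D.w * D.vb) := by
  obtain ⟨⟨a, b, c⟩, rfl⟩ := hx
  rw [sHom_apply]
  rcases z2_cases a with rfl | rfl <;> rcases z2_cases b with rfl | rfl <;> rcases z2_cases c with rfl | rfl <;>
    simp only [z2Hom_one, z2Hom_t, one_mul, mul_one, true_or, or_true]

include D in
/-- The two part of the order of the group. -/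
theorem card_G_eq : ∃ n, Odd n ∧ Nat.card G = 8 * n := by
  have h := D.q_mod8
  change 3 ^ (2 * D.m + 1) % 8 = 3 at h
  rw [D.card_G]
  generalize 3 ^ (2 * D.m + 1) = q at h
  obtain ⟨k, rfl⟩ : ∃ k, q = 8 * k + 3 := ⟨q / 8, by omega⟩
  refine ⟨(8 * k + 3) ^ 3 * (4 * k + 1) * (128 * k ^ 3 + 144 * k ^ 2 + 54 * k + 7), ?_, ?_⟩
  · apply Odd.mul (Odd.mul (Odd.pow ⟨4 * k + 1, by ring⟩) ⟨2 * k, by ring⟩)
    exact ⟨64 * k ^ 3 + 72 * k ^ 2 + 27 * k + 3, by ring⟩
  · have e : 8 * k + 3 - 1 = 2 * (4 * k + 1) := by omega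
    rw [e]
    ring

include D in
theorem finite_of_card : Finite G := by
  apply Nat.finite_of_card_ne_zero
  obtain ⟨n, hn, h⟩ := D.card_G_eq
  rw [h]
  have := hn.pos
  positivity

/-- The elementary abelian subgroup is a Sylow subgroup. -/
theorem exists_sylow_S0 [Finite G] : ∃ S : Sylow 2 G, (S : Subgroup G) = D.S0 := by
  haveI : Fact (Nat.Prime 2) := ⟨Nat.prime_two⟩
  have h1 : IsPGroup 2 ↥D.S0 := by
    apply IsPGroup.of_card (n := 3)
    rw [card_S0]
    norm_num
  have h2 : ¬ 2 ∣ D.S0.index := by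
    intro h
    obtain ⟨n, hn, h3⟩ := D.card_G_eq
    have h4 := Subgroup.card_mul_index D.S0
    rw [card_S0, h3] at h4
    have h5 : D.S0.index = n := by omega
    rw [h5] at h
    exact (Nat.not_even_iff_odd.2 hn) (even_iff_two_dvd.2 h)
  exact ⟨h1.toSylow h2, rfl⟩

include D in
/-- Sylow two-subgroups have order eight and exponent two. -/
theorem sylow_two [Finite G] (S : Sylow 2 G) : Nat.card S = 8 ∧ ∀ x ∈ S, x * x = 1 := by
  haveI : Fact (Nat.Prime 2) := ⟨Nat.prime_two⟩
  obtain ⟨S₀, hS₀⟩ := D.exists_sylow_S0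
  obtain ⟨g, rfl⟩ := MulAction.exists_smul_eq G S₀ S
  constructor
  · have h := Nat.card_congr (Sylow.equiv S₀ (g • S₀)).toEquiv
    rw [← h]
    show Nat.card ↥(S₀ : Subgroup G) = 8
    rw [hS₀, card_S0]
  · intro x hx
    have h1 : x ∈ ((g • S₀ : Sylow 2 G) : Subgroup G) := hx
    rw [Sylow.coe_subgroup_smul, Subgroup.mem_pointwise_smul_iff_inv_smul_mem, hS₀, ← map_inv,
      MulAut.smul_def, map_inv, MulAut.conj_inv_apply] at h1
    have h2 := D.S0_sq h1
    have e : x * x = g * ((g⁻¹ * x * g) * (g⁻¹ * x * g)) * g⁻¹ := by group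
    rw [e, h2]
    group

end Dat

end Cfsg.Agent.Lib.Ree.Abs
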