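import Cfsg.Agent.Lib.Ree.Abs29

/-!
# The abstract Ree group: two generators
-/

set_option autoImplicit false
set_option linter.unusedSectionVars false
set_option linter.unusedSimpArgs false
set_option linter.unnecessarySeqFocus false

namespace Cfsg.Agent.Lib.Ree.Abs

open Matrix Cfsg.Agent.Lib.Ree.Sigma Cfsg.Agent.Lib.Ree.Words Cfsg.Agent.Lib.Ree.Psi Cfsg.Agent.Lib.Ree.Core
open scoped MatrixGroups Pointwise BigOperators

variable {K G : Type*} [Field K] [Fintype K] [CharP K 3] [_root_.Group G]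

namespace Dat

variable (D : Dat K G)

section

variable [Finite G] (hm : 1 ≤ D.m)

include hm

/-- A subgroup containing the torus and an element with non-zero first coordinate contains `U`. -/
theorem U_le_of (H : Subgroup G) (hD : ∀ κ, D.d κ ∈ H) {t₀ a₀ b₀ : K} (ht₀ : t₀ ≠ 0) (hz : D.u t₀ a₀ b₀ ∈ H) :
    D.U ≤ H := by
  have h3 : (3 : K) = 0 := D.three
  -- the first coordinate
  have hT : ∀ t, ∃ a b, D.u t a b ∈ H := by
    intro t
    by_cases ht : t = 0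
    · subst ht
      exact ⟨0, 0, by rw [D.u_zero]; exact H.one_mem⟩
    · have hx : t / t₀ ≠ 0 := div_ne_zero ht ht₀
      let κ : Kˣ := Units.mk0 (D.f.θ (t / t₀)) ((map_ne_zero _).2 hx)
      have e1 : D.f.φ (κ : K) = t / t₀ := D.f.φθ _
      have h1 := H.mul_mem (H.mul_mem (hD κ) hz) (H.inv_mem (hD κ))
      rw [D.d_conj, e1] at h1
      have e2 : t / t₀ * t₀ = t := by field_simp
      rw [e2] at h1
      exact ⟨_, _, h1⟩
  -- the second coordinate
  have hcomm : ∀ {t a b t' a' b' : K}, D.u t a b ∈ H → D.u t' a' b' ∈ H →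
      ∃ β, D.u 0 (t' * D.f.φ t - t * D.f.φ t') β ∈ H := by
    intro t a b t' a' b' h1 h2
    have h4 := H.mul_mem (H.mul_mem h1 h2) (H.inv_mem (H.mul_mem h2 h1))
    have hU' : D.u t a b * D.u t' a' b' * (D.u t' a' b' * D.u t a b)⁻¹ ∈ D.U :=
      D.U.mul_mem (D.U.mul_mem (D.u_mem_U _ _ _) (D.u_mem_U _ _ _))
        (D.U.inv_mem (D.U.mul_mem (D.u_mem_U _ _ _) (D.u_mem_U _ _ _)))
    obtain ⟨τ, α, β, hv⟩ := hU'
    have e : D.u τ α β * (D.u t' a' b' * D.u t a b) = D.u t a b * D.u t' a' b' := by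
      rw [← hv, inv_mul_cancel_right]
    rw [D.u_mul, D.u_mul, D.u_mul] at e
    obtain ⟨e1, e2, -⟩ := D.u_inj e
    have hτ : τ = 0 := by linear_combination e1
    subst hτ
    have hα : α = t' * D.f.φ t - t * D.f.φ t' := by linear_combination e2
    refine ⟨β, ?_⟩
    rw [← hα, ← hv]
    exact h4
  obtain ⟨c₀, hc₀⟩ := D.exists_phi_ne hm
  obtain ⟨a₁, b₁, h1⟩ := hT c₀
  obtain ⟨a₂, b₂, h2⟩ := hT 1
  obtain ⟨β₀, hβ₀⟩ := hcomm h1 h2
  rw [map_one, mul_one, one_mul] at hβ₀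
  have ha₀ : D.f.φ c₀ - c₀ ≠ 0 := sub_ne_zero.2 hc₀
  generalize D.f.φ c₀ - c₀ = a₀' at ha₀ hβ₀
  have hsq : ∀ μ : K, ∃ β, D.u 0 (μ ^ 2 * a₀') β ∈ H := by
    intro μ
    by_cases hμ : μ = 0
    · subst hμ
      refine ⟨0, ?_⟩
      simp only [ne_eq, OfNat.ofNat_ne_zero, not_false_eq_true, zero_pow, zero_mul]
      rw [D.u_zero]
      exact H.one_mem
    · have hθμ : D.f.θ μ ≠ 0 := (map_ne_zero _).2 hμ
      let κ : Kˣ := Units.mk0 (μ / D.f.θ μ) (div_ne_zero hμ hθμ)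
      have e : (κ : K) ^ 3 * D.f.φ κ = μ ^ 2 := by
        simp only [κ, Units.val_mk0, map_div₀, D.f.φθ, div_pow, D.f.cube_θ]
        have hφμ : D.f.φ μ ≠ 0 := (map_ne_zero _).2 hμ
        field_simp
      have h4 := H.mul_mem (H.mul_mem (hD κ) hβ₀) (H.inv_mem (hD κ))
      rw [D.d_conj, e, mul_zero] at h4
      exact ⟨_, h4⟩
  have hA : ∀ a, ∃ β, D.u 0 a β ∈ H := by
    intro a
    have hx : a = (a / a₀') ^ 2 * a₀' + (1 ^ 2 * a₀' + -((a / a₀' + 1) ^ 2 * a₀')) := by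
      have e : a = (a / a₀') * a₀' := by field_simp
      generalize a / a₀' = x at e ⊢
      rw [e]
      linear_combination (x * a₀') * h3
    obtain ⟨β₁, h4⟩ := hsq (a / a₀')
    obtain ⟨β₂, h5⟩ := hsq 1
    obtain ⟨β₃, h6⟩ := hsq (a / a₀' + 1)
    have h7 := H.mul_mem h4 (H.mul_mem h5 (H.inv_mem h6))
    rw [D.u_inv, D.u_mul, D.u_mul] at h7
    simp only [map_zero, mul_zero, zero_mul, sub_zero, zero_pow, ne_eq, OfNat.ofNat_ne_zero,
      not_false_eq_true, neg_zero, add_zero, zero_add] at h7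
    rw [← hx] at h7
    exact ⟨_, by
      convert h7 using 2⟩
  -- the third coordinate
  have hZ : ∀ b, D.u 0 0 b ∈ H := by
    intro b
    obtain ⟨a₃, b₃, h4⟩ := hT 1
    obtain ⟨β, h5⟩ := hA b
    have h6 := H.mul_mem (H.mul_mem h4 h5) (H.inv_mem (H.mul_mem h5 h4))
    have e : D.u 1 a₃ b₃ * D.u 0 b β = D.u 0 0 b * (D.u 0 b β * D.u 1 a₃ b₃) := by
      rw [D.u_mul, D.u_mul, D.u_mul]
      simp only [map_zero, map_one]
      congr 1
      · ring
      · ring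
      · ring
    rw [e, mul_inv_cancel_right] at h6
    exact h6
  rintro _ ⟨t, a, b, rfl⟩
  obtain ⟨a₃, b₃, h4⟩ := hT t
  obtain ⟨β, h5⟩ := hA (a - a₃)
  have h6 := H.mul_mem h4 h5
  have h7 := H.mul_mem h6 (hZ (b - b₃ - β))
  rw [D.u_mul, D.u_mul] at h7
  convert h7 using 2
  · ring
  · simp only [map_zero]
    ring
  · simp only [map_zero]
    ring

/-- The group is generated by two elements. -/
theorem two_gen : ∃ a b : G, Subgroup.closure ({a, b} : Set G) = ⊤ := by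
  obtain ⟨k, hk⟩ := IsCyclic.exists_generator (α := Kˣ)
  refine ⟨D.d k, D.u 1 0 0 * D.w, ?_⟩
  set H := Subgroup.closure ({D.d k, D.u 1 0 0 * D.w} : Set G) with hH
  have hDk : D.d k ∈ H := Subgroup.subset_closure (by simp)
  have hy : D.u 1 0 0 * D.w ∈ H := Subgroup.subset_closure (by simp)
  have hD : ∀ c : Kˣ, D.d c ∈ H := by
    intro c
    have h1 : Subgroup.zpowers k ≤ H.comap D.d := by
      rw [Subgroup.zpowers_le]
      exact hDk
    exact h1 (hk c)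
  -- a first element of `U`
  obtain ⟨c, hc⟩ := D.exists_sq_ne hm
  have hc1 : (c : K) ≠ 1 := by
    intro h
    apply hc
    have : c = 1 := Units.ext h
    rw [this, one_pow]
  have hz : D.u (D.f.φ c) 0 0 * (D.u (D.f.φ ((c : K) * c)) 0 0)⁻¹ ∈ H := by
    have e1 : D.d c * (D.u 1 0 0 * D.w) * (D.d c)⁻¹ * (D.u 1 0 0 * D.w)⁻¹ * (D.d (c * c))⁻¹ =
        D.u (D.f.φ c) 0 0 * (D.u (D.f.φ ((c : K) * c)) 0 0)⁻¹ := by
      have e2 : D.d c * D.u 1 0 0 * (D.d c)⁻¹ = D.u (D.f.φ c) 0 0 := by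
        rw [D.d_conj]
        simp
      have e3 : D.d (c * c) * D.u 1 0 0 * (D.d (c * c))⁻¹ = D.u (D.f.φ ((c : K) * c)) 0 0 := by
        rw [D.d_conj]
        simp
      have e4 : D.d c * D.w * (D.d c)⁻¹ * D.w = (D.d (c * c)) := by
        have e5 : D.w * (D.d c)⁻¹ * D.w = D.d c := by
          rw [← map_inv, D.w_conj_d, inv_inv]
        calc D.d c * D.w * (D.d c)⁻¹ * D.w = D.d c * (D.w * (D.d c)⁻¹ * D.w) := by group
          _ = _ := by rw [e5, map_mul]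
      have e6 : (D.u 1 0 0 * D.w)⁻¹ = D.w * (D.u 1 0 0)⁻¹ := by
        rw [_root_.mul_inv_rev, D.w_inv]
      rw [e6, ← e2, ← e3]
      calc D.d c * (D.u 1 0 0 * D.w) * (D.d c)⁻¹ * (D.w * (D.u 1 0 0)⁻¹) * (D.d (c * c))⁻¹
          = (D.d c * D.u 1 0 0 * (D.d c)⁻¹) * (D.d c * D.w * (D.d c)⁻¹ * D.w) * (D.u 1 0 0)⁻¹ * (D.d (c * c))⁻¹ := by group
        _ = (D.d c * D.u 1 0 0 * (D.d c)⁻¹) * (D.d (c * c)) * (D.u 1 0 0)⁻¹ * (D.d (c * c))⁻¹ := by rw [e4]
        _ = _ := by group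
    rw [← e1]
    exact H.mul_mem (H.mul_mem (H.mul_mem (H.mul_mem (hD c) hy) (H.inv_mem (hD c))) (H.inv_mem hy)) (H.inv_mem (hD _))
  rw [D.u_inv, D.u_mul] at hz
  have ht : D.f.φ c + -D.f.φ ((c : K) * c) ≠ 0 := by
    have e : D.f.φ (c : K) + -D.f.φ ((c : K) * c) = D.f.φ (c : K) * (1 - D.f.φ (c : K)) := by
      rw [map_mul]
      ring
    rw [e]
    apply mul_ne_zero
    · exact (map_ne_zero _).2 c.ne_zero
    · intro h
      apply hc1
      have h4 : D.f.φ (c : K) = 1 := by linear_combination -h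
      apply D.f.φ.injective
      rw [h4, map_one]
  have hU := D.U_le_of hm H hD ht hz
  have hw : D.w ∈ H := by
    have h1 := H.mul_mem (H.inv_mem (hU (D.u_mem_U 1 0 0))) hy
    rwa [inv_mul_cancel_left] at h1
  rw [eq_top_iff]
  intro x _
  rcases D.cases x with ⟨t, a, b, κ, rfl⟩ | ⟨t, a, b, κ, t', a', b', rfl⟩
  · exact H.mul_mem (hU (D.u_mem_U _ _ _)) (hD κ)
  · exact H.mul_mem (H.mul_mem (H.mul_mem (hU (D.u_mem_U _ _ _)) (hD κ)) hw) (hU (D.u_mem_U _ _ _))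

end

end Dat

end Cfsg.Agent.Lib.Ree.Abs
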