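import Cfsg.Agent.Lib.Ree.Abs30
import Cfsg.Agent.Lib.Suzuki.Stem

/-!
# Stem extensions of the Ree groups: the general set-up

Let `s : Γ → G` be a stem extension.  Commutators of lifts of elements of `G` depend only on the
elements of `G`.  For commuting elements of `G` they are central.  Invariant biadditive forms on the
field vanish if the weight is not additive.
-/

set_option autoImplicit false
set_option linter.unusedSectionVars false
set_option linter.unusedSimpArgs false
set_option linter.unnecessarySeqFocus false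

namespace Cfsg.Agent.Lib.Ree.Abs

open Cfsg Cfsg.Agent.Lib.Suzuki.Stem
open scoped commutatorElement

section form

variable {E V : Type*} [Field E] [CommGroup V]

/-- Invariant biadditive forms vanish as soon as `x ↦ x^(-e)` is not additive. -/
theorem inv_form3 (β : E → E → V) (e : ℕ)
    (hl : ∀ a a' b, β (a + a') b = β a b * β a' b)
    (hr : ∀ a b b', β a (b + b') = β a b * β a b')
    (hinv : ∀ k : E, k ≠ 0 → ∀ a b, β (k * a) (k ^ e * b) = β a b)
    {x : E} (hx0 : x ≠ 0) (hx1 : 1 + x ≠ 0)
    (hw : x ^ e - x ^ e * (1 + x) ^ e - (1 + x) ^ e ≠ 0) :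
    ∀ a b, β a b = 1 := by
  have hzero : ∀ b, β 0 b = 1 := by
    intro b
    have := hl 0 0 b
    rw [add_zero] at this
    exact (left_eq_mul.mp this)
  have hg : ∀ a b, a ≠ 0 → β a b = β 1 (b / a ^ e) := by
    intro a b ha
    have := hinv a ha 1 (b / a ^ e)
    rw [mul_one, mul_div_cancel₀ _ (pow_ne_zero e ha)] at this
    exact this
  have hxe : x ^ e ≠ 0 := pow_ne_zero e hx0
  have h1e : (1 + x) ^ e ≠ 0 := pow_ne_zero e hx1
  obtain ⟨W, hWdef⟩ : ∃ W : E, W = ((1 + x) ^ e)⁻¹ - 1 - (x ^ e)⁻¹ := ⟨_, rfl⟩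
  have hW : W ≠ 0 := by
    intro hc
    apply hw
    have : x ^ e - x ^ e * (1 + x) ^ e - (1 + x) ^ e = W * (x ^ e * (1 + x) ^ e) := by
      rw [hWdef]; field_simp
    rw [this, hc, zero_mul]
  have hg1 : ∀ t, β 1 t = 1 := by
    intro t
    have h2 := hl 1 x (t / W)
    rw [hg (1 + x) _ hx1, hg x _ hx0] at h2
    have ht : t / W / (1 + x) ^ e = t + (t / W + t / W / x ^ e) := by
      have e1 : t = t / W * W := by field_simp
      have e2 : t / W * W = t / W / (1 + x) ^ e - t / W - t / W / x ^ e := by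
        rw [hWdef]; field_simp
      rw [← e1] at e2
      linear_combination -e2
    rw [ht, hr, hr] at h2
    have h3 : β 1 t * (β 1 (t / W) * β 1 (t / W / x ^ e)) = 1 * (β 1 (t / W) * β 1 (t / W / x ^ e)) := by
      rw [one_mul]; exact h2
    exact mul_right_cancel h3
  intro a b
  by_cases ha : a = 0
  · rw [ha, hzero]
  · rw [hg a b ha, hg1]

/-- Existence of a witness for `inv_form3` by counting roots. -/
theorem witness3 [Fintype E] (e : ℕ) (he : 0 < e) (hq : 2 * e + 2 < Fintype.card E) :
    ∃ x : E, x ≠ 0 ∧ 1 + x ≠ 0 ∧ x ^ e - x ^ e * (1 + x) ^ e - (1 + x) ^ e ≠ 0 := by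
  classical
  open Polynomial in
  let P : E[X] := (X : E[X]) ^ e * (X + 1) ^ e + ((X + 1) ^ e - X ^ e)
  have hmon1 : (Polynomial.X : Polynomial E) ^ e * (Polynomial.X + 1) ^ e |>.Monic := by
    apply Polynomial.Monic.mul (Polynomial.monic_X_pow e)
    exact Polynomial.Monic.pow (by simpa using Polynomial.monic_X_add_C (1 : E)) e
  have hnd1 : ((Polynomial.X : Polynomial E) ^ e * (Polynomial.X + 1) ^ e).natDegree = 2 * e := by
    rw [Polynomial.Monic.natDegree_mul (Polynomial.monic_X_pow e)
      (Polynomial.Monic.pow (by simpa using Polynomial.monic_X_add_C (1 : E)) e)]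
    rw [Polynomial.natDegree_X_pow, Polynomial.natDegree_pow]
    have : ((Polynomial.X : Polynomial E) + 1).natDegree = 1 := by
      simpa using Polynomial.natDegree_X_add_C (1 : E)
    rw [this]; ring
  have hnd2 : (((Polynomial.X : Polynomial E) + 1) ^ e - Polynomial.X ^ e).natDegree ≤ e := by
    compute_degree
  have hdeg : (((Polynomial.X : Polynomial E) + 1) ^ e - Polynomial.X ^ e).degree
      < ((Polynomial.X : Polynomial E) ^ e * (Polynomial.X + 1) ^ e).degree := by
    apply Polynomial.degree_lt_degree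
    rw [hnd1]; omega
  have hmon : P.Monic := hmon1.add_of_left hdeg
  have hP0 : P ≠ 0 := hmon.ne_zero
  have hnd : P.natDegree = 2 * e := by
    rw [Polynomial.natDegree_add_eq_left_of_degree_lt hdeg, hnd1]
  have hcard : (P.roots.toFinset ∪ {0, -1}).card < Fintype.card E := by
    have h1 : P.roots.toFinset.card ≤ 2 * e := by
      calc P.roots.toFinset.card ≤ P.roots.card := Multiset.toFinset_card_le _
        _ ≤ P.natDegree := Polynomial.card_roots' P
        _ = 2 * e := hnd
    have h2 : ({0, -1} : Finset E).card ≤ 2 := Finset.card_le_two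
    have h3 := Finset.card_union_le P.roots.toFinset {0, -1}
    omega
  obtain ⟨x, hx⟩ : ∃ x : E, x ∉ P.roots.toFinset ∪ {0, -1} := by
    by_contra hc
    push_neg at hc
    have : P.roots.toFinset ∪ {0, -1} = Finset.univ := Finset.eq_univ_iff_forall.mpr hc
    rw [this, Finset.card_univ] at hcard
    exact lt_irrefl _ hcard
  simp only [Finset.mem_union, Multiset.mem_toFinset, Finset.mem_insert, Finset.mem_singleton,
    not_or] at hx
  refine ⟨x, hx.2.1, ?_, ?_⟩
  · intro hc
    apply hx.2.2
    linear_combination hc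
  · intro hc
    apply hx.1
    rw [Polynomial.mem_roots hP0, Polynomial.IsRoot.def]
    simp only [P, Polynomial.eval_add, Polynomial.eval_mul, Polynomial.eval_pow, Polynomial.eval_X,
      Polynomial.eval_one, Polynomial.eval_sub]
    rw [add_comm x 1]
    linear_combination (-1 : E) * hc

end form

section brk

attribute [local instance] commCenter

variable {Γ G : Type*} [_root_.Group Γ] [_root_.Group G] (s : Γ →* G) (hσ : IsStemExtension s)

/-- A lift. -/
noncomputable def lf (_s : Γ →* G) (hσ : IsStemExtension _s) (g : G) : Γ := Function.surjInv hσ.1 g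

theorem lf_spec (g : G) : s (lf s hσ g) = g := Function.surjInv_eq hσ.1 g

/-- The commutator of lifts. -/
noncomputable def brk (_s : Γ →* G) (hσ : IsStemExtension _s) (x y : G) : Γ := ⁅lf _s hσ x, lf _s hσ y⁆

theorem brk_eq {u v : Γ} {x y : G} (hu : s u = x) (hv : s v = y) : ⁅u, v⁆ = brk s hσ x y :=
  comm_congr s hσ.2.1 (by rw [hu, lf_spec]) (by rw [hv, lf_spec])

theorem s_brk (x y : G) : s (brk s hσ x y) = ⁅x, y⁆ := by
  rw [brk, map_commutatorElement, lf_spec, lf_spec]

theorem brk_mem_center {x y : G} (hxy : x * y = y * x) : brk s hσ x y ∈ Subgroup.center Γ :=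
  hσ.2.1 (by
    rw [MonoidHom.mem_ker, s_brk, commutatorElement_eq_one_iff_mul_comm]
    exact hxy)

theorem brk_central {x y : G} (hxy : x * y = y * x) (g : Γ) : g * brk s hσ x y = brk s hσ x y * g :=
  Subgroup.mem_center_iff.mp (brk_mem_center s hσ hxy) g

theorem conj_brk (g x y : G) : lf s hσ g * brk s hσ x y * (lf s hσ g)⁻¹ =
    brk s hσ (g * x * g⁻¹) (g * y * g⁻¹) := by
  rw [brk, conj_commutator]
  apply brk_eq
  · simp only [map_mul, map_inv, lf_spec]
  · simp only [map_mul, map_inv, lf_spec]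

/-- Invariance of central commutators. -/
theorem brk_conj {g x y : G} (hxy : x * y = y * x) : brk s hσ (g * x * g⁻¹) (g * y * g⁻¹) = brk s hσ x y := by
  rw [← conj_brk, brk_central s hσ hxy]
  group

theorem brk_mul_left {x x' y : G} (hc : x' * y = y * x') : brk s hσ (x * x') y = brk s hσ x' y * brk s hσ x y := by
  have h1 : brk s hσ (x * x') y = ⁅lf s hσ x * lf s hσ x', lf s hσ y⁆ :=
    (brk_eq s hσ (by rw [map_mul, lf_spec, lf_spec]) (lf_spec s hσ y)).symm
  rw [h1, comm_mul_left (brk_central s hσ hc _)]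
  rfl

theorem brk_mul_right {x y y' : G} (hc : x * y' = y' * x) : brk s hσ x (y * y') = brk s hσ x y * brk s hσ x y' := by
  have h1 : brk s hσ x (y * y') = ⁅lf s hσ x, lf s hσ y * lf s hσ y'⁆ :=
    (brk_eq s hσ (lf_spec s hσ x) (by rw [map_mul, lf_spec, lf_spec])).symm
  rw [h1, comm_mul_right (brk_central s hσ hc _)]
  rfl

theorem brk_one_left (y : G) : brk s hσ 1 y = 1 := by
  have h := brk_mul_left s hσ (x := 1) (x' := 1) (y := y) (by rw [one_mul, mul_one])
  rw [one_mul] at h
  exact (left_eq_mul.mp h)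

theorem brk_one_right (x : G) : brk s hσ x 1 = 1 := by
  have h := brk_mul_right s hσ (x := x) (y := 1) (y' := 1) (by rw [one_mul, mul_one])
  rw [one_mul] at h
  exact (left_eq_mul.mp h)

theorem comm_eq_of_brk {x y : Γ} {x₀ y₀ : G} (hx : s x = x₀) (hy : s y = y₀) (h : brk s hσ x₀ y₀ = 1) : x * y = y * x := by
  rw [← comm_eq_one_iff, brk_eq s hσ hx hy, h]

/-- Central forms on a field vanish. -/
theorem brk_form {E : Type*} [Field E] (f g : E → G) (e : ℕ) (hc : ∀ a b, f a * g b = g b * f a)
    (hl : ∀ a a' b, brk s hσ (f (a + a')) (g b) = brk s hσ (f a') (g b) * brk s hσ (f a) (g b))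
    (hr : ∀ a b b', brk s hσ (f a) (g (b + b')) = brk s hσ (f a) (g b) * brk s hσ (f a) (g b'))
    (hinv : ∀ k : E, k ≠ 0 → ∀ a b, brk s hσ (f (k * a)) (g (k ^ e * b)) = brk s hσ (f a) (g b))
    {x : E} (hx0 : x ≠ 0) (hx1 : 1 + x ≠ 0)
    (hw : x ^ e - x ^ e * (1 + x) ^ e - (1 + x) ^ e ≠ 0) (a b : E) : brk s hσ (f a) (g b) = 1 := by
  let β : E → E → Subgroup.center Γ := fun a b => ⟨brk s hσ (f a) (g b), brk_mem_center s hσ (hc a b)⟩
  have h := inv_form3 β e
    (fun a a' b => by
      apply Subtype.ext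
      rw [Subgroup.coe_mul]
      show brk s hσ (f (a + a')) (g b) = brk s hσ (f a) (g b) * brk s hσ (f a') (g b)
      rw [hl, brk_central s hσ (hc a' b)])
    (fun a b b' => Subtype.ext (hr a b b'))
    (fun k hk a b => Subtype.ext (hinv k hk a b))
    hx0 hx1 hw a b
  exact congrArg Subtype.val h

end brk

end Cfsg.Agent.Lib.Ree.Abs
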