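import Cfsg.Agent.Lib.Ree.Abs31

/-!
# Stem extensions of the Ree groups: primes other than three
-/

set_option autoImplicit false
set_option linter.unusedSectionVars false
set_option linter.unusedSimpArgs false
set_option linter.unnecessarySeqFocus false

namespace Cfsg.Agent.Lib.Ree.Abs

open Cfsg Cfsg.Agent.Lib.Suzuki.Stem
open scoped commutatorElement

section generic

variable {Γ G : Type*} [_root_.Group Γ] [_root_.Group G] (s : Γ →* G) (hσ : IsStemExtension s)

/-- If the preimage of a Sylow subgroup is abelian, the kernel has no element of that prime order. -/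
theorem no_prime_of_abelian [Finite Γ] [Finite G] {r : ℕ} [Fact r.Prime] (Q : Sylow r G)
    (hab : ∀ x ∈ (Q : Subgroup G), ∀ y ∈ (Q : Subgroup G), brk s hσ x y = 1) {z : Γ} (hz : z ∈ s.ker)
    (hord : orderOf z = r) : False := by
  let P : Subgroup Γ := (Q : Subgroup G).comap s
  have hP : ∀ x ∈ P, ∀ y ∈ P, ⁅x, y⁆ ∈ (⊥ : Subgroup Γ) := by
    intro x hx y hy
    rw [Subgroup.mem_bot, brk_eq s hσ rfl rfl]
    exact hab _ hx _ hy
  have hle : (commutator P).map P.subtype ≤ ⊥ := by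
    rw [Subgroup.map_subtype_commutator, Subgroup.commutator_le]
    exact hP
  obtain ⟨w, hw1, hw2⟩ := exists_mem_commutator P (hσ.2.1 hz) (hσ.2.2 hz)
  have hw3 : (w : Γ) = 1 := by
    have := hle ⟨w, hw1, rfl⟩
    simpa using this
  rw [hw3] at hw2
  have hd := orderOf_dvd_of_pow_eq_one hw2.symm
  rw [hord, Subgroup.index_comap_of_surjective _ hσ.1] at hd
  exact Q.not_dvd_index hd

include hσ in
/-- Cyclic Sylow subgroups. -/
theorem no_prime_of_cyclic [Finite Γ] [Finite G] {r : ℕ} [Fact r.Prime] (Q : Sylow r G)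
    (hcyc : IsCyclic (Q : Subgroup G)) {z : Γ} (hz : z ∈ s.ker) (hord : orderOf z = r) : False := by
  apply no_prime_of_abelian s hσ Q _ hz hord
  obtain ⟨g, hg⟩ := IsCyclic.exists_generator (α := (Q : Subgroup G))
  have hpow : ∀ x ∈ (Q : Subgroup G), ∃ i : ℤ, x = (g : G) ^ i := by
    intro x hx
    obtain ⟨i, hi⟩ := Subgroup.mem_zpowers_iff.mp (hg ⟨x, hx⟩)
    refine ⟨i, ?_⟩
    have := congrArg Subtype.val hi
    simpa using this.symm
  intro x hx y hy
  obtain ⟨i, rfl⟩ := hpow x hx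
  obtain ⟨j, rfl⟩ := hpow y hy
  rw [← brk_eq s hσ (u := lf s hσ (g : G) ^ i) (v := lf s hσ (g : G) ^ j)
    (by rw [map_zpow, lf_spec]) (by rw [map_zpow, lf_spec]), comm_eq_one_iff]
  exact ((Commute.refl (lf s hσ (g : G))).zpow_zpow i j)

end generic

namespace Dat

variable {K G : Type*} [Field K] [Fintype K] [CharP K 3] [_root_.Group G] (D : Dat K G)
variable {Γ : Type*} [_root_.Group Γ] (s : Γ →* G) (hσ : IsStemExtension s)

/-- The commutator form on the elementary abelian group vanishes on `t0`. -/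
theorem brk_t0 [Finite G] {y : G} (hy : y ∈ D.S0) : brk s hσ D.t0 y = 1 := by
  have hw : D.t0 * D.w = D.w * D.t0 := D.S0_comm D.t0_mem_S0 D.w_mem_S0
  have hv : D.t0 * D.vb = D.vb * D.t0 := D.S0_comm D.t0_mem_S0 D.vb_mem_S0
  have hwv : D.t0 * (D.w * D.vb) = (D.w * D.vb) * D.t0 :=
    D.S0_comm D.t0_mem_S0 (Subgroup.mul_mem _ D.w_mem_S0 D.vb_mem_S0)
  have h1 : brk s hσ D.t0 D.vb = brk s hσ D.t0 D.w := by
    have := brk_conj s hσ (g := D.gam) hw
    rwa [D.gam_t0, D.gam_w] at this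
  have h2 : brk s hσ D.t0 (D.w * D.vb) = brk s hσ D.t0 D.vb := by
    have := brk_conj s hσ (g := D.gam) hv
    rwa [D.gam_t0, D.gam_vb] at this
  have h3 : brk s hσ D.t0 (D.w * D.vb) = brk s hσ D.t0 D.w * brk s hσ D.t0 D.vb :=
    brk_mul_right s hσ hv
  have hw1 : brk s hσ D.t0 D.w = 1 := by
    rw [h2, h1] at h3
    exact (left_eq_mul.mp h3)
  have hv1 : brk s hσ D.t0 D.vb = 1 := by rw [h1, hw1]
  have hwv1 : brk s hσ D.t0 (D.w * D.vb) = 1 := by rw [h2, hv1]
  have ht1 : brk s hσ D.t0 D.t0 = 1 := commutatorElement_self _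
  have hgen : ∀ {c : G}, c ∈ D.S0 → brk s hσ D.t0 c = 1 → brk s hσ D.t0 (D.t0 * c) = 1 := by
    intro c hc h
    rw [brk_mul_right s hσ (D.S0_comm D.t0_mem_S0 hc), ht1, h, one_mul]
  rcases D.S0_cases hy with rfl | rfl | rfl | rfl | rfl | rfl | rfl | rfl
  · exact brk_one_right s hσ _
  · exact hw1
  · exact hv1
  · exact hwv1
  · exact ht1
  · exact hgen D.w_mem_S0 hw1
  · exact hgen D.vb_mem_S0 hv1
  · exact hgen (Subgroup.mul_mem _ D.w_mem_S0 D.vb_mem_S0) hwv1

/-- The preimage of the elementary abelian group is abelian. -/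
theorem brk_S0 [Finite G] (hm : 1 ≤ D.m) {x y : G} (hx : x ∈ D.S0) (hy : y ∈ D.S0) : brk s hσ x y = 1 := by
  by_cases hx1 : x = 1
  · rw [hx1]
    exact brk_one_left s hσ _
  obtain ⟨n, hn, rfl⟩ := D.normalizer_trans hm hx hx1
  have hy' : n⁻¹ * y * n ∈ D.S0 := by
    have := (Subgroup.mem_normalizer_iff.1 (Subgroup.inv_mem _ hn) y).1 hy
    simpa using this
  have h := brk_conj s hσ (g := n) (D.S0_comm D.t0_mem_S0 hy')
  have e : n * (n⁻¹ * y * n) * n⁻¹ = y := by group
  rw [e] at h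
  rw [h]
  exact D.brk_t0 s hσ hy'

include hσ in
/-- The kernel of a stem extension has no involutions. -/
theorem no_two [Finite Γ] [Finite G] (hm : 1 ≤ D.m) {z : Γ} (hz : z ∈ s.ker) (hord : orderOf z = 2) : False := by
  haveI : Fact (Nat.Prime 2) := ⟨Nat.prime_two⟩
  obtain ⟨S, hS⟩ := D.exists_sylow_S0
  apply no_prime_of_abelian s hσ S _ hz hord
  intro x hx y hy
  rw [hS] at hx hy
  exact D.brk_S0 s hσ hm hx hy

include hσ in
/-- The kernel of a stem extension has no elements of prime order larger than three. -/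
theorem no_large [Finite Γ] [Finite G] (hm : 1 ≤ D.m) {r : ℕ} [Fact r.Prime] (hr : 3 < r) {z : Γ} (hz : z ∈ s.ker)
    (hord : orderOf z = r) : False :=
  no_prime_of_cyclic s hσ default (D.sylow_cyclic hm hr default) hz hord

end Dat

end Cfsg.Agent.Lib.Ree.Abs
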