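import Cfsg.Agent.Lib.Ree.Abs32

/-!
# Stem extensions of the Ree groups: the prime three

The layers of the unipotent group have torus weights `λ`, `λ φ(λ)` and `λ² φ(λ)`.  The preimage of the
commutator subgroup of the unipotent group is abelian, the preimage of the centre is central in the
preimage of the unipotent group, and the norm of the torus on the preimage of the commutator subgroup
kills all commutators.  The transfer then shows that the kernel has no elements of order three.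
-/

set_option autoImplicit false
set_option linter.unusedSectionVars false
set_option linter.unusedSimpArgs false
set_option linter.unnecessarySeqFocus false

namespace Cfsg.Agent.Lib.Ree.Abs

open Cfsg Cfsg.Agent.Lib.Suzuki.Stem
open scoped commutatorElement

section generic

variable {Γ G : Type*} [_root_.Group Γ] [_root_.Group G] (s : Γ →* G) (hσ : IsStemExtension s)

theorem brk_mul_left_gen (x x' y : G) :
    brk s hσ (x * x') y = lf s hσ x * brk s hσ x' y * (lf s hσ x)⁻¹ * brk s hσ x y := by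
  have h1 : brk s hσ (x * x') y = ⁅lf s hσ x * lf s hσ x', lf s hσ y⁆ :=
    (brk_eq s hσ (by rw [map_mul, lf_spec, lf_spec]) (lf_spec s hσ y)).symm
  rw [h1]
  simp only [brk, commutatorElement_def]
  group

theorem brk_mul_right_gen (x y y' : G) :
    brk s hσ x (y * y') = brk s hσ x y * (lf s hσ y * brk s hσ x y' * (lf s hσ y)⁻¹) := by
  have h1 : brk s hσ x (y * y') = ⁅lf s hσ x, lf s hσ y * lf s hσ y'⁆ :=
    (brk_eq s hσ (lf_spec s hσ x) (by rw [map_mul, lf_spec, lf_spec])).symm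
  rw [h1]
  simp only [brk, commutatorElement_def]
  group

theorem brk_symm (x y : G) : brk s hσ x y = (brk s hσ y x)⁻¹ := by
  simp only [brk, commutatorElement_inv]

end generic

namespace Dat

variable {K G : Type*} [Field K] [Fintype K] [CharP K 3] [_root_.Group G] (D : Dat K G)
variable {Γ : Type*} [_root_.Group Γ] (s : Γ →* G) (hσ : IsStemExtension s)

section layers

theorem up_mul (a b a' b' : K) : D.u 0 a b * D.u 0 a' b' = D.u 0 (a + a') (b + b') := by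
  rw [D.u_mul]
  congr 1 <;> simp

theorem u_split (t a b : K) : D.u t a b = D.u t 0 0 * D.u 0 a b := by
  rw [D.u_mul]
  congr 1 <;> simp

theorem up_split (a b : K) : D.u 0 a b = D.u 0 a 0 * D.u 0 0 b := by
  rw [D.up_mul]
  simp

theorem z_comm (t a b b' : K) : D.u t a b * D.u 0 0 b' = D.u 0 0 b' * D.u t a b := by
  rw [D.u_mul, D.u_mul]
  congr 1 <;> simp [add_comm]

theorem up_comm (a b a' b' : K) : D.u 0 a b * D.u 0 a' b' = D.u 0 a' b' * D.u 0 a b := by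
  rw [D.up_mul, D.up_mul, add_comm a, add_comm b]

theorem u3_add (t t' : K) : D.u (t + t') 0 0 = D.u t 0 0 * D.u t' 0 0 *
    D.u 0 (t * D.f.φ t') (D.f.φ t' * t ^ 2 - D.f.φ t' * t' * t) := by
  rw [D.u_mul, D.u_mul]
  congr 1 <;> (try simp) <;> (try ring)

theorem comm_ta (t a : K) : ⁅D.u t 0 0, D.u 0 a 0⁆ = D.u 0 0 (t * a) := by
  have h : D.u t 0 0 * D.u 0 a 0 = D.u 0 0 (t * a) * (D.u 0 a 0 * D.u t 0 0) := by
    rw [D.u_mul, D.u_mul, D.u_mul]
    congr 1 <;> simp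
  rw [commutatorElement_def, h]
  group

/-- The commutator subgroup of the unipotent group. -/
def Up : Subgroup G where
  carrier := {x | ∃ a b, x = D.u 0 a b}
  one_mem' := ⟨0, 0, D.u_zero.symm⟩
  mul_mem' := by
    rintro _ _ ⟨a, b, rfl⟩ ⟨a', b', rfl⟩
    exact ⟨_, _, D.up_mul _ _ _ _⟩
  inv_mem' := by
    rintro _ ⟨a, b, rfl⟩
    refine ⟨-a, -b, ?_⟩
    apply inv_eq_of_mul_eq_one_right
    rw [D.up_mul, add_neg_cancel, add_neg_cancel, D.u_zero]

theorem mem_Up {x : G} : x ∈ D.Up ↔ ∃ a b, x = D.u 0 a b := Iff.rfl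

theorem Up_le_U : D.Up ≤ D.U := by
  rintro _ ⟨a, b, rfl⟩
  exact D.u_mem_U _ _ _

theorem comm_mem_Up {x y : G} (hx : x ∈ D.U) (hy : y ∈ D.U) : ⁅x, y⁆ ∈ D.Up := by
  obtain ⟨t, a, b, rfl⟩ := hx
  obtain ⟨t', a', b', rfl⟩ := hy
  rw [commutatorElement_def, D.u_inv, D.u_inv, D.u_mul, D.u_mul, D.u_mul]
  have e : t + t' + -t + -t' = 0 := by ring
  rw [e]
  exact ⟨_, _, rfl⟩

theorem conj_mem_Up {x y : G} (hx : x ∈ D.U) (hy : y ∈ D.Up) : x * y * x⁻¹ ∈ D.Up := by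
  have h := D.comm_mem_Up hx (D.Up_le_U hy)
  have e : x * y * x⁻¹ = ⁅x, y⁆ * y := by
    simp only [commutatorElement_def]
    group
  rw [e]
  exact Subgroup.mul_mem _ h hy

end layers

section weights

theorem exists_phi_unit {k : K} (hk : k ≠ 0) : ∃ κ : Kˣ, D.f.φ κ = k ∧ (κ : K) ^ 3 = D.f.φ k :=
  ⟨Units.mk0 (D.f.θ k) ((map_ne_zero _).2 hk), D.f.φθ k, D.f.cube_θ k⟩

theorem exists_Wb {k : K} (hk : k ≠ 0) : ∃ κ : Kˣ, (κ : K) ^ 3 * D.f.φ κ ^ 2 = k := by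
  obtain ⟨l, hl⟩ : ∃ l, l = k ^ 2 / D.f.φ k := ⟨_, rfl⟩
  have hφk : D.f.φ k ≠ 0 := (map_ne_zero _).2 hk
  have hl0 : l ≠ 0 := by
    rw [hl]
    exact div_ne_zero (pow_ne_zero 2 hk) hφk
  obtain ⟨κ, h1, h2⟩ := D.exists_phi_unit hl0
  refine ⟨κ, ?_⟩
  rw [h1, h2, hl, map_div₀, map_pow, D.f.φφ]
  field_simp

theorem exists_Wa {k : K} (hk : k ≠ 0) : ∃ κ : Kˣ, (κ : K) ^ 3 * D.f.φ κ = k ^ 2 := by
  obtain ⟨l, hl⟩ : ∃ l, l = D.f.φ k / k := ⟨_, rfl⟩
  have hφk : D.f.φ k ≠ 0 := (map_ne_zero _).2 hk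
  have hl0 : l ≠ 0 := by
    rw [hl]
    exact div_ne_zero hφk hk
  obtain ⟨κ, h1, h2⟩ := D.exists_phi_unit hl0
  refine ⟨κ, ?_⟩
  rw [h1, h2, hl, map_div₀, D.f.φφ]
  field_simp

include D in
theorem sum_char_zero [Fintype Kˣ] (χ : Kˣ → K) (hχ : ∀ a b, χ (a * b) = χ a * χ b) {c : Kˣ} (hc : χ c ≠ 1) :
    ∑ κ, χ κ = 0 := by
  have h : χ c * ∑ κ, χ κ = ∑ κ, χ κ := by
    rw [Finset.mul_sum]
    simp_rw [← hχ]
    exact Fintype.sum_equiv (Equiv.mulLeft c) _ _ (fun _ => rfl)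
  have h1 : (χ c - 1) * ∑ κ, χ κ = 0 := by linear_combination h
  exact (mul_eq_zero.1 h1).resolve_left (sub_ne_zero.2 hc)

theorem sum_Wa [Finite G] [Fintype Kˣ] (hm : 1 ≤ D.m) : ∑ κ : Kˣ, (κ : K) ^ 3 * D.f.φ κ = 0 := by
  obtain ⟨c, hc⟩ := D.exists_sq_ne hm
  obtain ⟨κ, hκ⟩ := D.exists_Wa c.ne_zero
  apply D.sum_char_zero (fun κ : Kˣ => (κ : K) ^ 3 * D.f.φ κ) (fun a b => by
    simp only [Units.val_mul, map_mul]
    ring) (c := κ)
  show (κ : K) ^ 3 * D.f.φ κ ≠ 1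
  rw [hκ]
  intro h
  apply hc
  apply Units.ext
  rw [Units.val_pow_eq_pow_val, h, Units.val_one]

theorem sum_Wb [Finite G] [Fintype Kˣ] (hm : 1 ≤ D.m) : ∑ κ : Kˣ, (κ : K) ^ 3 * D.f.φ κ ^ 2 = 0 := by
  obtain ⟨c, hc⟩ := D.exists_sq_ne hm
  have hc1 : (c : K) ≠ 1 := by
    intro h
    apply hc
    apply Units.ext
    rw [Units.val_pow_eq_pow_val, h]
    simp
  obtain ⟨κ, hκ⟩ := D.exists_Wb c.ne_zero
  apply D.sum_char_zero (fun κ : Kˣ => (κ : K) ^ 3 * D.f.φ κ ^ 2) (fun a b => by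
    simp only [Units.val_mul, map_mul]
    ring) (c := κ)
  show (κ : K) ^ 3 * D.f.φ κ ^ 2 ≠ 1
  rw [hκ]
  exact hc1

/-- The witness for the weight one. -/
theorem wit1 (hm : 1 ≤ D.m) : ∃ x : K, x ≠ 0 ∧ 1 + x ≠ 0 ∧ x ^ 1 - x ^ 1 * (1 + x) ^ 1 - (1 + x) ^ 1 ≠ 0 := by
  apply witness3 1 one_pos
  rw [D.card_K']
  have := D.q_ge' hm
  omega

/-- The witness for the weight `2 + σ`. -/
theorem wit2 (hm : 1 ≤ D.m) : ∃ x : K, x ≠ 0 ∧ 1 + x ≠ 0 ∧
    x ^ (2 + 3 ^ (D.m + 1)) - x ^ (2 + 3 ^ (D.m + 1)) * (1 + x) ^ (2 + 3 ^ (D.m + 1)) - (1 + x) ^ (2 + 3 ^ (D.m + 1)) ≠ 0 := by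
  apply witness3 (2 + 3 ^ (D.m + 1)) (by positivity)
  rw [D.card_K', q]
  obtain ⟨n, hn⟩ : ∃ n, D.m = n + 1 := ⟨D.m - 1, by omega⟩
  rw [hn]
  have h1 : 3 ^ (2 * (n + 1) + 1) = 3 ^ (n + 1 + 1) * 3 ^ (n + 1) := by
    rw [← pow_add]
    congr 1
    ring
  rw [h1]
  have h2 : 3 ≤ 3 ^ (n + 1) := by
    calc 3 = 3 ^ 1 := by norm_num
      _ ≤ 3 ^ (n + 1) := Nat.pow_le_pow_right (by norm_num) (by omega)
  have h3 : 9 ≤ 3 ^ (n + 1 + 1) := by
    rw [pow_succ]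
    omega
  nlinarith

end weights

section forms

/-- The preimage of the centre of the unipotent group is abelian. -/
theorem brk_zz (hm : 1 ≤ D.m) (b b' : K) : brk s hσ (D.u 0 0 b) (D.u 0 0 b') = 1 := by
  obtain ⟨x, hx0, hx1, hw⟩ := D.wit1 hm
  refine brk_form s hσ (fun b => D.u 0 0 b) (fun b => D.u 0 0 b) 1 (fun a b => D.z_comm _ _ _ _) ?_ ?_ ?_ hx0 hx1 hw b b'
  · intro a a' c
    have e : D.u 0 0 (a + a') = D.u 0 0 a * D.u 0 0 a' := by
      rw [D.up_mul, add_zero]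
    show brk s hσ (D.u 0 0 (a + a')) _ = _
    rw [e, brk_mul_left s hσ (D.z_comm _ _ _ _)]
  · intro a c c'
    have e : D.u 0 0 (c + c') = D.u 0 0 c * D.u 0 0 c' := by
      rw [D.up_mul, add_zero]
    show brk s hσ _ (D.u 0 0 (c + c')) = _
    rw [e, brk_mul_right s hσ (D.z_comm _ _ _ _)]
  · intro k hk a c
    obtain ⟨κ, hκ⟩ := D.exists_Wb hk
    have h := brk_conj s hσ (g := D.d κ) (D.z_comm 0 0 a c)
    rw [D.d_conj, D.d_conj, hκ] at h
    simpa using h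

theorem brk_az (a b : K) : brk s hσ (D.u 0 a 0) (D.u 0 0 b) = 1 := by
  have hc : ∀ a b : K, D.u 0 a 0 * D.u 0 0 b = D.u 0 0 b * D.u 0 a 0 := fun a b => D.z_comm _ _ _ _
  have h1 : brk s hσ (D.u 0 a 0) (D.u 0 0 (-b)) = brk s hσ (D.u 0 a 0) (D.u 0 0 b) := by
    have h := brk_conj s hσ (g := D.t0) (hc a b)
    rw [D.t0_inv, D.t0_conj_u, D.t0_conj_u] at h
    simpa using h
  have e0 : D.u 0 0 b * D.u 0 0 (-b) = 1 := by
    rw [D.up_mul, add_zero, add_neg_cancel, D.u_zero]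
  have h2 : brk s hσ (D.u 0 a 0) (D.u 0 0 b) * brk s hσ (D.u 0 a 0) (D.u 0 0 (-b)) = 1 := by
    rw [← brk_mul_right s hσ (hc _ _), e0, brk_one_right]
  have e1 : D.u 0 a 0 * (D.u 0 a 0 * D.u 0 a 0) = 1 := by
    rw [D.up_mul, D.up_mul, ← D.u_zero]
    congr 1
    · have h3 := D.three
      linear_combination a * h3
    · ring
  have h3 : brk s hσ (D.u 0 a 0) (D.u 0 0 b) * brk s hσ (D.u 0 a 0) (D.u 0 0 b) * brk s hσ (D.u 0 a 0) (D.u 0 0 b) = 1 := by
    rw [← brk_mul_left s hσ (hc _ _), ← brk_mul_left s hσ (by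
      rw [D.up_mul, add_zero]
      exact D.z_comm _ _ _ _), e1, brk_one_left]
  rw [h1] at h2
  rw [h2, one_mul] at h3
  exact h3

/-- Biadditive forms satisfy `β(-x,-y) = β(x,y)`. -/
theorem form_neg_neg {V : Type*} [CommGroup V] (β : K → K → V)
    (hl : ∀ a a' b, β (a + a') b = β a b * β a' b) (hr : ∀ a b b', β a (b + b') = β a b * β a b') (x y : K) :
    β (-x) (-y) = β x y := by
  have h0l : ∀ b, β 0 b = 1 := by
    intro b
    have := hl 0 0 b
    rw [add_zero] at this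
    exact (left_eq_mul.mp this)
  have h0r : ∀ a, β a 0 = 1 := by
    intro a
    have := hr a 0 0
    rw [add_zero] at this
    exact (left_eq_mul.mp this)
  have h1 : β (-x) (-y) * β x (-y) = 1 := by
    rw [← hl, neg_add_cancel, h0l]
  have h2 : β x (-y) * β x y = 1 := by
    rw [← hr, neg_add_cancel, h0r]
  calc β (-x) (-y) = β (-x) (-y) * (β x (-y) * β x y) := by rw [h2, mul_one]
    _ = (β (-x) (-y) * β x (-y)) * β x y := by rw [mul_assoc]
    _ = β x y := by rw [h1, one_mul]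

attribute [local instance] commCenter in
/-- The middle layer is abelian in the preimage. -/
theorem brk_aa (hm : 1 ≤ D.m) (a a' : K) : brk s hσ (D.u 0 a 0) (D.u 0 a' 0) = 1 := by
  obtain ⟨x, hx0, hx1, hw⟩ := D.wit1 hm
  have hc : ∀ a b : K, D.u 0 a 0 * D.u 0 b 0 = D.u 0 b 0 * D.u 0 a 0 := fun a b => D.up_comm _ _ _ _
  have e : ∀ a a' : K, D.u 0 (a + a') 0 = D.u 0 a 0 * D.u 0 a' 0 := by
    intro a a'
    rw [D.up_mul, add_zero]
  refine brk_form s hσ (fun b => D.u 0 b 0) (fun b => D.u 0 b 0) 1 hc ?_ ?_ ?_ hx0 hx1 hw a a'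
  · intro a a' c
    show brk s hσ (D.u 0 (a + a') 0) _ = _
    rw [e, brk_mul_left s hσ (hc _ _)]
  · intro a c c'
    show brk s hσ _ (D.u 0 (c + c') 0) = _
    rw [e, brk_mul_right s hσ (hc _ _)]
  · intro k hk a c
    show brk s hσ (D.u 0 (k * a) 0) (D.u 0 (k ^ 1 * c) 0) = brk s hσ (D.u 0 a 0) (D.u 0 c 0)
    rw [pow_one]
    have hsq : ∀ μ : K, μ ≠ 0 → ∀ a c : K, brk s hσ (D.u 0 (μ ^ 2 * a) 0) (D.u 0 (μ ^ 2 * c) 0) = brk s hσ (D.u 0 a 0) (D.u 0 c 0) := by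
      intro μ hμ a c
      obtain ⟨κ, hκ⟩ := D.exists_Wa hμ
      have h := brk_conj s hσ (g := D.d κ) (hc a c)
      rw [D.d_conj, D.d_conj, hκ] at h
      simpa using h
    rcases D.sq_or_neg k hk with ⟨μ, hμ⟩ | ⟨μ, hμ⟩
    · have hμ0 : μ ≠ 0 := by
        rintro rfl
        exact hk (by rw [hμ, mul_zero])
      rw [hμ, ← pow_two]
      exact hsq μ hμ0 a c
    · have hμ0 : μ ≠ 0 := by
        rintro rfl
        apply hk
        have : -k = 0 := by rw [hμ, mul_zero]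
        simpa using this
      have hk' : k = -(μ ^ 2) := by
        rw [pow_two, ← hμ]
        ring
      rw [← hsq μ hμ0 a c]
      let β : K → K → Subgroup.center Γ := fun a b =>
        ⟨brk s hσ (D.u 0 a 0) (D.u 0 b 0), brk_mem_center s hσ (hc a b)⟩
      have h := form_neg_neg β (fun a a' b => by
          apply Subtype.ext
          rw [Subgroup.coe_mul]
          show brk s hσ (D.u 0 (a + a') 0) _ = brk s hσ (D.u 0 a 0) _ * brk s hσ (D.u 0 a' 0) _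
          rw [e, brk_mul_left s hσ (hc _ _), brk_central s hσ (hc _ _)])
        (fun a b b' => by
          apply Subtype.ext
          rw [Subgroup.coe_mul]
          show brk s hσ _ (D.u 0 (b + b') 0) = brk s hσ _ (D.u 0 b 0) * brk s hσ _ (D.u 0 b' 0)
          rw [e, brk_mul_right s hσ (hc _ _)]) (μ ^ 2 * a) (μ ^ 2 * c)
      have h' := congrArg Subtype.val h
      simp only [β] at h'
      rw [← h']
      congr 3 <;> rw [hk'] <;> ring

/-- The preimage of the commutator subgroup of the unipotent group is abelian. -/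
theorem brk_up (hm : 1 ≤ D.m) (a b a' b' : K) : brk s hσ (D.u 0 a b) (D.u 0 a' b') = 1 := by
  rw [D.up_split a b, brk_mul_left s hσ (D.z_comm _ _ _ _).symm]
  have h1 : brk s hσ (D.u 0 0 b) (D.u 0 a' b') = 1 := by
    rw [D.up_split a' b', brk_mul_right s hσ (D.z_comm _ _ _ _), D.brk_zz s hσ hm, mul_one,
      brk_symm, D.brk_az s hσ, inv_one]
  have h2 : brk s hσ (D.u 0 a 0) (D.u 0 a' b') = 1 := by
    rw [D.up_split a' b', brk_mul_right s hσ (D.z_comm _ _ _ _), D.brk_az s hσ, D.brk_aa s hσ hm, one_mul]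
  rw [h1, h2, one_mul]

end forms

end Dat

end Cfsg.Agent.Lib.Ree.Abs
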