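import Cfsg.Agent.Lib.Ree.Abs33

/-!
# Stem extensions of the Ree groups: the norm of the torus
-/

set_option autoImplicit false
set_option linter.unusedSectionVars false
set_option linter.unusedSimpArgs false
set_option linter.unnecessarySeqFocus false

namespace Cfsg.Agent.Lib.Ree.Abs

open Cfsg Cfsg.Agent.Lib.Suzuki.Stem
open scoped commutatorElement

namespace Dat

variable {K G : Type*} [Field K] [Fintype K] [CharP K 3] [_root_.Group G] (D : Dat K G)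
variable {Γ : Type*} [_root_.Group Γ] (s : Γ →* G) (hσ : IsStemExtension s)

section centre

/-- The preimage of the centre of the unipotent group is central in the preimage of the group. -/
theorem brk_tz (hm : 1 ≤ D.m) (hφ : ∀ x : K, D.f.φ x = x ^ (3 ^ (D.m + 1))) (t b : K) :
    brk s hσ (D.u t 0 0) (D.u 0 0 b) = 1 := by
  obtain ⟨x, hx0, hx1, hw⟩ := D.wit2 hm
  refine brk_form s hσ (fun t => D.u t 0 0) (fun b => D.u 0 0 b) (2 + 3 ^ (D.m + 1))
    (fun a b => D.z_comm _ _ _ _) ?_ ?_ ?_ hx0 hx1 hw t b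
  · intro t t' c
    show brk s hσ (D.u (t + t') 0 0) _ = _
    rw [D.u3_add, brk_mul_left s hσ (D.z_comm _ _ _ _), D.brk_up s hσ hm, one_mul,
      brk_mul_left s hσ (D.z_comm _ _ _ _)]
  · intro a c c'
    have e : D.u 0 0 (c + c') = D.u 0 0 c * D.u 0 0 c' := by
      rw [D.up_mul, add_zero]
    show brk s hσ _ (D.u 0 0 (c + c')) = _
    rw [e, brk_mul_right s hσ (D.z_comm _ _ _ _)]
  · intro k hk t c
    obtain ⟨κ, h1, h2⟩ := D.exists_phi_unit hk
    have h := brk_conj s hσ (g := D.d κ) (D.z_comm t 0 0 c)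
    rw [D.d_conj, D.d_conj, h1, h2] at h
    have e : k ^ (2 + 3 ^ (D.m + 1)) * c = D.f.φ k * k ^ 2 * c := by
      rw [hφ k, pow_add]
      ring
    show brk s hσ (D.u (k * t) 0 0) (D.u 0 0 (k ^ (2 + 3 ^ (D.m + 1)) * c)) = brk s hσ (D.u t 0 0) (D.u 0 0 c)
    rw [e]
    simpa using h

theorem brk_uz (hm : 1 ≤ D.m) (hφ : ∀ x : K, D.f.φ x = x ^ (3 ^ (D.m + 1))) (t a b b' : K) :
    brk s hσ (D.u t a b) (D.u 0 0 b') = 1 := by
  rw [D.u_split, brk_mul_left s hσ (D.z_comm _ _ _ _), D.brk_up s hσ hm, one_mul, D.brk_tz s hσ hm hφ]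

end centre

section norm

/-- The preimage of the commutator subgroup as a commutative group. -/
@[reducible] def commUp (hm : 1 ≤ D.m) : CommGroup (D.Up.comap s) :=
  { (inferInstance : _root_.Group (D.Up.comap s)) with
    mul_comm := by
      rintro ⟨x, a, b, hx⟩ ⟨y, a', b', hy⟩
      exact Subtype.ext (comm_eq_of_brk s hσ hx hy (D.brk_up s hσ hm _ _ _ _)) }

/-- Conjugation by the torus on the preimage of the commutator subgroup. -/
noncomputable def actU (κ : Kˣ) : (D.Up.comap s) →* (D.Up.comap s) where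
  toFun x := ⟨lf s hσ (D.d κ) * x * (lf s hσ (D.d κ))⁻¹, by
    obtain ⟨x, a, b, hx⟩ := x
    refine ⟨(κ : K) ^ 3 * D.f.φ κ * a, (κ : K) ^ 3 * D.f.φ κ ^ 2 * b, ?_⟩
    simp only [map_mul, map_inv, lf_spec]
    change _ * s x * _ = _
    rw [hx, D.d_conj, mul_zero]⟩
  map_one' := by
    apply Subtype.ext
    simp
  map_mul' x y := by
    apply Subtype.ext
    simp only [Subgroup.coe_mul]
    group

theorem actU_coe (κ : Kˣ) (x : D.Up.comap s) :
    ((D.actU s hσ κ x : D.Up.comap s) : Γ) = lf s hσ (D.d κ) * x * (lf s hσ (D.d κ))⁻¹ := rfl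

theorem actU_actU (κ l : Kˣ) (x : D.Up.comap s) :
    D.actU s hσ κ (D.actU s hσ l x) = D.actU s hσ (κ * l) x := by
  apply Subtype.ext
  rw [actU_coe, actU_coe, actU_coe]
  have h1 := conj_congr s hσ.2.1 (x := lf s hσ (D.d κ) * lf s hσ (D.d l))
    (x' := lf s hσ (D.d (κ * l))) (by
      rw [map_mul, lf_spec, lf_spec, lf_spec, map_mul]) (x : Γ)
  rw [← h1]
  group

/-- The norm. -/
structure IsNorm (N : Γ → Γ) : Prop where
  mul : ∀ {x y : Γ}, s x ∈ D.Up → s y ∈ D.Up → N (x * y) = N x * N y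
  ker : ∀ {x : Γ}, s x ∈ D.Up → N x ∈ s.ker
  act : ∀ (κ : Kˣ) {x : Γ}, s x ∈ D.Up → N (lf s hσ (D.d κ) * x * (lf s hσ (D.d κ))⁻¹) = N x
  pow : ∀ {z : Γ}, z ∈ s.ker → N z = z ^ (D.q - 1)

/-- The existence of the norm. -/
theorem exists_norm [Finite G] (hm : 1 ≤ D.m) : ∃ N : Γ → Γ, D.IsNorm s hσ N := by
  classical
  letI := D.commUp s hσ hm
  let F : D.Up.comap s → Γ := fun x => ((∏ κ : Kˣ, D.actU s hσ κ x : D.Up.comap s) : Γ)
  have hFmul : ∀ x y, F (x * y) = F x * F y := by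
    intro x y
    simp only [F, map_mul]
    rw [Finset.prod_mul_distrib]
    rfl
  have hFker : ∀ x, F x ∈ s.ker := by
    rintro ⟨x, a, b, hx⟩
    have hx' : s x = D.u 0 a b := hx
    have hind : ∀ T : Finset Kˣ, s ((∏ κ ∈ T, D.actU s hσ κ ⟨x, a, b, hx⟩ : D.Up.comap s) : Γ)
        = D.u 0 (∑ κ ∈ T, (κ : K) ^ 3 * D.f.φ κ * a) (∑ κ ∈ T, (κ : K) ^ 3 * D.f.φ κ ^ 2 * b) := by
      intro T
      induction T using Finset.induction_on with
      | empty =>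
        simp only [Finset.prod_empty, Finset.sum_empty]
        rw [D.u_zero]
        exact map_one s
      | insert κ T hκ ih =>
        rw [Finset.prod_insert hκ, Finset.sum_insert hκ, Finset.sum_insert hκ, ← D.up_mul, ← ih]
        have : ((D.actU s hσ κ ⟨x, a, b, hx⟩ * ∏ κ ∈ T, D.actU s hσ κ ⟨x, a, b, hx⟩ : D.Up.comap s) : Γ)
            = (D.actU s hσ κ ⟨x, a, b, hx⟩ : Γ) * ((∏ κ ∈ T, D.actU s hσ κ ⟨x, a, b, hx⟩ : D.Up.comap s) : Γ) := rfl
        rw [this, map_mul]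
        congr 1
        rw [actU_coe]
        simp only [map_mul, map_inv, lf_spec]
        rw [hx', D.d_conj, mul_zero]
    have h1 := hind Finset.univ
    rw [MonoidHom.mem_ker]
    show s ((∏ κ : Kˣ, D.actU s hσ κ ⟨x, a, b, hx⟩ : D.Up.comap s) : Γ) = 1
    rw [h1, ← Finset.sum_mul, ← Finset.sum_mul, D.sum_Wa hm, D.sum_Wb hm, zero_mul, zero_mul, D.u_zero]
  have hFact : ∀ (κ : Kˣ) x, F (D.actU s hσ κ x) = F x := by
    intro κ x
    simp only [F, actU_actU]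
    congr 1
    exact Fintype.prod_equiv (Equiv.mulRight κ) _ _ (fun l => rfl)
  have hFz : ∀ (z : D.Up.comap s), (z : Γ) ∈ s.ker → F z = (z : Γ) ^ (D.q - 1) := by
    intro z hz
    have h1 : ∀ κ : Kˣ, D.actU s hσ κ z = z := by
      intro κ
      apply Subtype.ext
      rw [actU_coe]
      have := Subgroup.mem_center_iff.mp (hσ.2.1 hz) (lf s hσ (D.d κ))
      rw [this]
      group
    simp only [F, h1]
    rw [Finset.prod_const, Finset.card_univ, Fintype.card_units, D.card_K']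
    rfl
  refine ⟨fun x => if h : x ∈ D.Up.comap s then F ⟨x, h⟩ else 1, ?_, ?_, ?_, ?_⟩
  · intro x y hx hy
    have hx' : x ∈ D.Up.comap s := hx
    have hy' : y ∈ D.Up.comap s := hy
    simp only [dif_pos hx', dif_pos hy', dif_pos (Subgroup.mul_mem _ hx' hy')]
    exact hFmul ⟨x, hx'⟩ ⟨y, hy'⟩
  · intro x hx
    have hx' : x ∈ D.Up.comap s := hx
    simp only [dif_pos hx']
    exact hFker _
  · intro κ x hx
    have hx' : x ∈ D.Up.comap s := hx
    have hy : lf s hσ (D.d κ) * x * (lf s hσ (D.d κ))⁻¹ ∈ D.Up.comap s := (D.actU s hσ κ ⟨x, hx'⟩).2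
    simp only [dif_pos hx', dif_pos hy]
    exact hFact κ ⟨x, hx'⟩
  · intro z hz
    have hz' : z ∈ D.Up.comap s := by
      show s z ∈ D.Up
      rw [MonoidHom.mem_ker.1 hz]
      exact Subgroup.one_mem _
    simp only [dif_pos hz']
    exact hFz ⟨z, hz'⟩ hz

end norm

section forms

variable {N : Γ → Γ} (hN : D.IsNorm s hσ N)

include hN

theorem IsNorm.one : N 1 = 1 := by
  have h := hN.mul (x := 1) (y := 1) (by rw [map_one]; exact Subgroup.one_mem _) (by rw [map_one]; exact Subgroup.one_mem _)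
  rw [one_mul] at h
  exact (left_eq_mul.mp h)

theorem IsNorm.inv {x : Γ} (hx : s x ∈ D.Up) : N x⁻¹ = (N x)⁻¹ := by
  have h := hN.mul (x := x⁻¹) (y := x) (by rw [map_inv]; exact Subgroup.inv_mem _ hx) hx
  rw [inv_mul_cancel, hN.one] at h
  exact eq_inv_of_mul_eq_one_left h.symm

theorem IsNorm.act_brk (κ : Kˣ) {x y : G} (hxy : ⁅x, y⁆ ∈ D.Up) :
    N (brk s hσ (D.d κ * x * (D.d κ)⁻¹) (D.d κ * y * (D.d κ)⁻¹)) = N (brk s hσ x y) := by
  rw [← conj_brk]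
  exact hN.act κ (by rw [s_brk]; exact hxy)

omit hN in
theorem mem_brk {x y : G} (hx : x ∈ D.U) (hy : y ∈ D.U) : s (brk s hσ x y) ∈ D.Up := by
  rw [s_brk]
  exact D.comm_mem_Up hx hy

/-- The `(t, a)`-form dies under the norm. -/
theorem norm_ta (hm : 1 ≤ D.m) (hφ : ∀ x : K, D.f.φ x = x ^ (3 ^ (D.m + 1))) (t a : K) :
    N (brk s hσ (D.u t 0 0) (D.u 0 a 0)) = 1 := by
  have hmem : ∀ t : K, s (brk s hσ (D.u t 0 0) (D.u 0 a 0)) ∈ D.Up := fun t =>
    D.mem_brk s hσ (D.u_mem_U _ _ _) (D.u_mem_U _ _ _)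
  have hadd : ∀ t t' : K, N (brk s hσ (D.u (t + t') 0 0) (D.u 0 a 0)) =
      N (brk s hσ (D.u t' 0 0) (D.u 0 a 0)) * N (brk s hσ (D.u t 0 0) (D.u 0 a 0)) := by
    intro t t'
    rw [D.u3_add, brk_mul_left s hσ (D.up_comm _ _ _ _), D.brk_up s hσ hm, one_mul, brk_mul_left_gen]
    have hc : lf s hσ (D.u t 0 0) * brk s hσ (D.u t' 0 0) (D.u 0 a 0) * (lf s hσ (D.u t 0 0))⁻¹
        = brk s hσ (D.u t' 0 0) (D.u 0 a 0) := by
      have h1 : s (brk s hσ (D.u t' 0 0) (D.u 0 a 0)) = D.u 0 0 (t' * a) := by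
        rw [s_brk, comm_ta]
      have h2 := comm_eq_of_brk s hσ (lf_spec s hσ (D.u t 0 0)) h1 (D.brk_uz s hσ hm hφ _ _ _ _)
      rw [h2]
      group
    rw [hc, hN.mul (hmem _) (hmem _)]
  have hneg : N (brk s hσ (D.u (-t) 0 0) (D.u 0 a 0)) = N (brk s hσ (D.u t 0 0) (D.u 0 a 0)) := by
    have h := IsNorm.act_brk D s hσ hN (-1) (x := D.u t 0 0) (y := D.u 0 a 0)
      (D.comm_mem_Up (D.u_mem_U _ _ _) (D.u_mem_U _ _ _))
    have e := D.t0_inv
    rw [t0] at e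
    rw [e] at h
    have e1 := D.t0_conj_u t 0 0
    have e2 := D.t0_conj_u 0 a 0
    rw [t0] at e1 e2
    rw [e1, e2] at h
    simpa using h
  have h0 : N (brk s hσ (D.u 0 0 0) (D.u 0 a 0)) = 1 := by
    rw [D.u_zero, brk_one_left, hN.one]
  obtain ⟨c, hc⟩ : ∃ c, c = N (brk s hσ (D.u t 0 0) (D.u 0 a 0)) := ⟨_, rfl⟩
  have h1 : c * c = 1 := by
    have h2 := hadd t (-t)
    rw [add_neg_cancel, h0, hneg, ← hc] at h2
    exact h2.symm
  have h2 : c * (c * c) = 1 := by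
    have h3 := hadd (t + t) t
    rw [hadd t t, ← hc] at h3
    have e : t + t + t = 0 := by
      have h3 := D.three
      linear_combination t * h3
    rw [e, h0] at h3
    exact h3.symm
  rw [h1, mul_one] at h2
  rw [← hc]
  exact h2

/-- Commutators of the preimage of the unipotent group with the preimage of its commutator subgroup. -/
theorem norm_up (hm : 1 ≤ D.m) (hφ : ∀ x : K, D.f.φ x = x ^ (3 ^ (D.m + 1))) (t a b a' b' : K) :
    N (brk s hσ (D.u t a b) (D.u 0 a' b')) = 1 := by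
  have h1 : brk s hσ (D.u t a b) (D.u 0 a' b') = brk s hσ (D.u t 0 0) (D.u 0 a' 0) := by
    have hz : D.u t a b * D.u 0 0 b' = D.u 0 0 b' * D.u t a b := D.z_comm _ _ _ _
    rw [D.up_split a' b', brk_mul_right s hσ hz, D.brk_uz s hσ hm hφ, mul_one, D.u_split t a b,
      brk_mul_left s hσ (D.up_comm _ _ _ _), D.brk_up s hσ hm, one_mul]
  rw [h1]
  exact D.norm_ta s hσ hN hm hφ t a'

/-- The norm is invariant under conjugation by the preimage of the unipotent group. -/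
theorem norm_conj (hm : 1 ≤ D.m) (hφ : ∀ x : K, D.f.φ x = x ^ (3 ^ (D.m + 1))) {g v : Γ} (hg : s g ∈ D.U)
    (hv : s v ∈ D.Up) : N (g * v * g⁻¹) = N v := by
  have e : g * v * g⁻¹ = ⁅g, v⁆ * v := by
    simp only [commutatorElement_def]
    group
  have h1 : s ⁅g, v⁆ ∈ D.Up := by
    rw [map_commutatorElement]
    exact D.comm_mem_Up hg (D.Up_le_U hv)
  rw [e, hN.mul h1 hv]
  obtain ⟨t, a, b, ht⟩ := hg
  obtain ⟨a', b', hv'⟩ := hv
  rw [brk_eq s hσ ht hv', D.norm_up s hσ hN hm hφ, one_mul]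

/-- The form on the top layer. -/
theorem norm_tt (hm : 1 ≤ D.m) (hφ : ∀ x : K, D.f.φ x = x ^ (3 ^ (D.m + 1))) (t t' : K) :
    N (brk s hσ (D.u t 0 0) (D.u t' 0 0)) = 1 := by
  classical
  letI := commCenter Γ
  obtain ⟨x, hx0, hx1, hw⟩ := D.wit1 hm
  have hmem : ∀ t t' : K, s (brk s hσ (D.u t 0 0) (D.u t' 0 0)) ∈ D.Up := fun t t' =>
    D.mem_brk s hσ (D.u_mem_U _ _ _) (D.u_mem_U _ _ _)
  have hcen : ∀ t t' : K, N (brk s hσ (D.u t 0 0) (D.u t' 0 0)) ∈ Subgroup.center Γ := fun t t' =>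
    hσ.2.1 (hN.ker (hmem _ _))
  have hU : ∀ t a b : K, s (lf s hσ (D.u t a b)) ∈ D.U := fun t a b => by
    rw [lf_spec]
    exact D.u_mem_U _ _ _
  let β : K → K → Subgroup.center Γ := fun t t' => ⟨N (brk s hσ (D.u t 0 0) (D.u t' 0 0)), hcen t t'⟩
  have hadd : ∀ t t' r : K, N (brk s hσ (D.u (t + t') 0 0) (D.u r 0 0)) =
      N (brk s hσ (D.u t' 0 0) (D.u r 0 0)) * N (brk s hσ (D.u t 0 0) (D.u r 0 0)) := by
    intro t t' r
    rw [D.u3_add, brk_mul_left_gen, brk_mul_left_gen]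
    have hC : s (brk s hσ (D.u 0 (t * D.f.φ t') (D.f.φ t' * t ^ 2 - D.f.φ t' * t' * t)) (D.u r 0 0)) ∈ D.Up :=
      D.mem_brk s hσ (D.u_mem_U _ _ _) (D.u_mem_U _ _ _)
    have hC1 : N (brk s hσ (D.u 0 (t * D.f.φ t') (D.f.φ t' * t ^ 2 - D.f.φ t' * t' * t)) (D.u r 0 0)) = 1 := by
      rw [brk_symm, IsNorm.inv D s hσ hN (D.mem_brk s hσ (D.u_mem_U _ _ _) (D.u_mem_U _ _ _)),
        D.norm_up s hσ hN hm hφ, inv_one]
    have hg : s (lf s hσ (D.u t 0 0 * D.u t' 0 0)) ∈ D.U := by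
      rw [lf_spec]
      exact Subgroup.mul_mem _ (D.u_mem_U _ _ _) (D.u_mem_U _ _ _)
    have hv1 : s (lf s hσ (D.u t 0 0 * D.u t' 0 0) * brk s hσ (D.u 0 (t * D.f.φ t') (D.f.φ t' * t ^ 2 - D.f.φ t' * t' * t)) (D.u r 0 0) * (lf s hσ (D.u t 0 0 * D.u t' 0 0))⁻¹) ∈ D.Up := by
      rw [map_mul, map_mul, map_inv]
      exact D.conj_mem_Up hg hC
    have hv2 : s (lf s hσ (D.u t 0 0) * brk s hσ (D.u t' 0 0) (D.u r 0 0) * (lf s hσ (D.u t 0 0))⁻¹) ∈ D.Up := by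
      rw [map_mul, map_mul, map_inv]
      exact D.conj_mem_Up (hU _ _ _) (hmem _ _)
    rw [hN.mul hv1 (by
        rw [map_mul]
        exact Subgroup.mul_mem _ hv2 (hmem _ _)),
      hN.mul hv2 (hmem _ _),
      D.norm_conj s hσ hN hm hφ hg hC, hC1, one_mul,
      D.norm_conj s hσ hN hm hφ (hU _ _ _) (hmem _ _)]
  have hsym : ∀ a b : K, N (brk s hσ (D.u a 0 0) (D.u b 0 0)) = (N (brk s hσ (D.u b 0 0) (D.u a 0 0)))⁻¹ := by
    intro a b
    rw [brk_symm s hσ (D.u a 0 0) (D.u b 0 0), IsNorm.inv D s hσ hN (hmem _ _)]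
  have hh := inv_form3 β 1
    (fun a a' b => by
      apply Subtype.ext
      rw [Subgroup.coe_mul]
      show N (brk s hσ (D.u (a + a') 0 0) (D.u b 0 0)) = N (brk s hσ (D.u a 0 0) (D.u b 0 0)) * N (brk s hσ (D.u a' 0 0) (D.u b 0 0))
      rw [hadd, Subgroup.mem_center_iff.mp (hcen a' b)])
    (fun a b b' => by
      apply Subtype.ext
      rw [Subgroup.coe_mul]
      show N (brk s hσ (D.u a 0 0) (D.u (b + b') 0 0)) = N (brk s hσ (D.u a 0 0) (D.u b 0 0)) * N (brk s hσ (D.u a 0 0) (D.u b' 0 0))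
      rw [hsym a (b + b'), hadd, hsym a b, hsym a b', _root_.mul_inv_rev])
    (fun k hk a b => by
      apply Subtype.ext
      show N (brk s hσ (D.u (k * a) 0 0) (D.u (k ^ 1 * b) 0 0)) = N (brk s hσ (D.u a 0 0) (D.u b 0 0))
      obtain ⟨κ, h1, h2⟩ := D.exists_phi_unit hk
      have h := IsNorm.act_brk D s hσ hN κ (x := D.u a 0 0) (y := D.u b 0 0)
        (D.comm_mem_Up (D.u_mem_U _ _ _) (D.u_mem_U _ _ _))
      rw [D.d_conj, D.d_conj, h1] at h
      rw [pow_one]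
      simpa using h)
    hx0 hx1 hw t t'
  exact congrArg Subtype.val hh

/-- All commutators of the preimage of the unipotent group die under the norm. -/
theorem norm_comm (hm : 1 ≤ D.m) (hφ : ∀ x : K, D.f.φ x = x ^ (3 ^ (D.m + 1))) {x y : Γ} (hx : s x ∈ D.U)
    (hy : s y ∈ D.U) : N ⁅x, y⁆ = 1 := by
  obtain ⟨t, a, b, hx'⟩ := hx
  obtain ⟨t', a', b', hy'⟩ := hy
  rw [brk_eq s hσ hx' hy', D.u_split t a b, brk_mul_left_gen]
  have h1 : s (brk s hσ (D.u 0 a b) (D.u t' a' b')) ∈ D.Up := D.mem_brk s hσ (D.u_mem_U _ _ _) (D.u_mem_U _ _ _)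
  have h2 : s (brk s hσ (D.u t 0 0) (D.u t' a' b')) ∈ D.Up := D.mem_brk s hσ (D.u_mem_U _ _ _) (D.u_mem_U _ _ _)
  have hg : s (lf s hσ (D.u t 0 0)) ∈ D.U := by
    rw [lf_spec]
    exact D.u_mem_U _ _ _
  have h3 : s (lf s hσ (D.u t 0 0) * brk s hσ (D.u 0 a b) (D.u t' a' b') * (lf s hσ (D.u t 0 0))⁻¹) ∈ D.Up := by
    rw [map_mul, map_mul, map_inv]
    exact D.conj_mem_Up hg h1
  rw [hN.mul h3 h2, D.norm_conj s hσ hN hm hφ hg h1]
  have h4 : N (brk s hσ (D.u 0 a b) (D.u t' a' b')) = 1 := by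
    rw [brk_symm, IsNorm.inv D s hσ hN (D.mem_brk s hσ (D.u_mem_U _ _ _) (D.u_mem_U _ _ _)),
      D.norm_up s hσ hN hm hφ, inv_one]
  rw [h4, one_mul, D.u_split t' a' b', brk_mul_right_gen]
  have h5 : s (brk s hσ (D.u t 0 0) (D.u t' 0 0)) ∈ D.Up := D.mem_brk s hσ (D.u_mem_U _ _ _) (D.u_mem_U _ _ _)
  have h6 : s (brk s hσ (D.u t 0 0) (D.u 0 a' b')) ∈ D.Up := D.mem_brk s hσ (D.u_mem_U _ _ _) (D.u_mem_U _ _ _)
  have hg' : s (lf s hσ (D.u t' 0 0)) ∈ D.U := by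
    rw [lf_spec]
    exact D.u_mem_U _ _ _
  have h7 : s (lf s hσ (D.u t' 0 0) * brk s hσ (D.u t 0 0) (D.u 0 a' b') * (lf s hσ (D.u t' 0 0))⁻¹) ∈ D.Up := by
    rw [map_mul, map_mul, map_inv]
    exact D.conj_mem_Up hg' h6
  rw [hN.mul h5 h7, D.norm_conj s hσ hN hm hφ hg' h6, D.norm_tt s hσ hN hm hφ, D.norm_up s hσ hN hm hφ, one_mul]

end forms

section final

include hσ in
/-- The kernel of a stem extension has no elements of order three. -/
theorem no_three [Finite Γ] [Finite G] (hm : 1 ≤ D.m) (hφ : ∀ x : K, D.f.φ x = x ^ (3 ^ (D.m + 1))) {z : Γ}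
    (hz : z ∈ s.ker) (hord : orderOf z = 3) : False := by
  obtain ⟨N, hN⟩ := D.exists_norm s hσ hm
  let W : Subgroup Γ :=
    { carrier := {x | s x ∈ D.Up ∧ N x = 1}
      one_mem' := ⟨by rw [map_one]; exact Subgroup.one_mem _, hN.one⟩
      mul_mem' := by
        rintro x y ⟨hx, hx1⟩ ⟨hy, hy1⟩
        refine ⟨by rw [map_mul]; exact Subgroup.mul_mem _ hx hy, ?_⟩
        rw [hN.mul hx hy, hx1, hy1, one_mul]
      inv_mem' := by
        rintro x ⟨hx, hx1⟩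
        refine ⟨by rw [map_inv]; exact Subgroup.inv_mem _ hx, ?_⟩
        rw [IsNorm.inv D s hσ hN hx, hx1, inv_one] }
  let H : Subgroup Γ := D.U.comap s
  have hle : (commutator H).map H.subtype ≤ W := by
    rw [Subgroup.map_subtype_commutator, Subgroup.commutator_le]
    intro x hx y hy
    refine ⟨?_, D.norm_comm s hσ hN hm hφ hx hy⟩
    rw [map_commutatorElement]
    exact D.comm_mem_Up hx hy
  obtain ⟨w, hw1, hw2⟩ := exists_mem_commutator H (hσ.2.1 hz) (hσ.2.2 hz)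
  have hw3 : (w : Γ) ∈ W := hle ⟨w, hw1, rfl⟩
  have hw4 : N (w : Γ) = 1 := hw3.2
  rw [hw2, hN.pow (pow_mem hz _), ← pow_mul] at hw4
  have hd := orderOf_dvd_of_pow_eq_one hw4
  rw [hord, Subgroup.index_comap_of_surjective _ hσ.1] at hd
  have hidx : D.U.index = (D.q - 1) * (D.q ^ 3 + 1) := by
    have h1 := Subgroup.card_mul_index D.U
    rw [D.card_U, D.card_G', mul_assoc] at h1
    exact Nat.eq_of_mul_eq_mul_left (by
      have := D.q_ge
      positivity) h1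
  rw [hidx] at hd
  have h3 : Nat.Prime 3 := by norm_num
  have hq := D.q_mod3
  have hq3 := D.q_ge
  have hn1 : ¬ 3 ∣ D.q - 1 := by omega
  have hn2 : ¬ 3 ∣ D.q ^ 3 + 1 := by
    have h4 : 3 ∣ D.q := Nat.dvd_of_mod_eq_zero hq
    have h5 : 3 ∣ D.q ^ 3 := h4.trans (dvd_pow_self _ (by norm_num))
    omega
  rcases (Nat.Prime.dvd_mul h3).1 hd with h | h
  · rcases (Nat.Prime.dvd_mul h3).1 h with h | h
    · exact hn1 h
    · exact hn2 h
  · exact hn1 h

include hσ in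
/-- Stem extensions of the Ree groups are isomorphisms. -/
theorem stem_ker_eq_bot [Finite Γ] [Finite G] (hm : 1 ≤ D.m) (hφ : ∀ x : K, D.f.φ x = x ^ (3 ^ (D.m + 1))) :
    s.ker = ⊥ := by
  rw [eq_bot_iff]
  intro z hz
  rw [Subgroup.mem_bot]
  by_contra hne
  have hord1 : orderOf z ≠ 1 := fun hc => hne (orderOf_eq_one_iff.mp hc)
  let r := (orderOf z).minFac
  have hr : r.Prime := Nat.minFac_prime hord1
  haveI : Fact r.Prime := ⟨hr⟩
  have hrd : r ∣ orderOf z := Nat.minFac_dvd _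
  have hpos : 0 < orderOf z := orderOf_pos z
  have hz' : z ^ (orderOf z / r) ∈ s.ker := pow_mem hz _
  have hordz' : orderOf (z ^ (orderOf z / r)) = r := orderOf_pow_orderOf_div hpos.ne' hrd
  by_cases h2 : r = 2
  · exact D.no_two s hσ hm hz' (by rw [hordz', h2])
  by_cases h3 : r = 3
  · exact D.no_three s hσ hm hφ hz' (by rw [hordz', h3])
  have h4 : 3 < r := by
    have := hr.two_le
    omega
  exact D.no_large s hσ hm h4 hz' hordz'

end final

end Dat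

section wrapper

variable {K : Type*} [Field K] [Fintype K] {m : ℕ}

/-- Schur multipliers of the Ree groups are trivial. -/
theorem hasSchurMultiplier_one (hm : 1 ≤ m) (hK : Fintype.card K = 3 ^ (2 * m + 1)) :
    Cfsg.HasCyclicSchurMultiplier ↥(Cfsg.Lie.twistedG2 K (3 ^ m)) 1 := by
  haveI := Cfsg.Agent.Lib.Ree.Main.charP_of_card hK
  haveI hfin := (Cfsg.Agent.Lib.Ree.Abs.dat hK).finite_of_card
  have hφ : ∀ x : K, (Cfsg.Agent.Lib.Ree.Abs.dat hK).f.φ x = x ^ (3 ^ ((Cfsg.Agent.Lib.Ree.Abs.dat hK).m + 1)) := by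
    intro x
    show (Cfsg.Agent.Lib.Ree.Main.frOf hK).φ x = x ^ (3 ^ (m + 1))
    rw [← (Cfsg.Agent.Lib.Ree.Main.frOf hK).cube_θ, Cfsg.Agent.Lib.Ree.Main.frOf_θ hK, ← pow_mul, pow_succ]
  have hkerall : ∀ (Γ : Type _) [_root_.Group Γ] [Finite Γ] (σ : Γ →* ↥(Cfsg.Lie.twistedG2 K (3 ^ m))),
      IsStemExtension σ → σ.ker = ⊥ := by
    intro Γ _ _ σ hσ
    exact (Cfsg.Agent.Lib.Ree.Abs.dat hK).stem_ker_eq_bot σ hσ hm hφ
  refine ⟨⟨↥(Cfsg.Lie.twistedG2 K (3 ^ m)), inferInstance, hfin, MonoidHom.id _, ?_, ?_⟩, ?_⟩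
  · have hk : (MonoidHom.id ↥(Cfsg.Lie.twistedG2 K (3 ^ m))).ker = ⊥ := MonoidHom.ker_id
    refine ⟨Function.surjective_id, ?_, ?_⟩
    · rw [hk]; exact bot_le
    · rw [hk]; exact bot_le
  · have hk : (MonoidHom.id ↥(Cfsg.Lie.twistedG2 K (3 ^ m))).ker = ⊥ := MonoidHom.ker_id
    refine ⟨{ toFun := fun _ => 1, invFun := fun _ => 1, left_inv := ?_, right_inv := ?_, map_mul' := ?_ }⟩
    · intro x
      apply Subtype.ext
      have hx1 : ((x : ↥(Cfsg.Lie.twistedG2 K (3 ^ m)))) = 1 := MonoidHom.mem_ker.mp x.2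
      exact hx1.symm
    · intro x
      exact Subsingleton.elim _ _
    · intro x y
      simp
  · intro Γ _ _ σ hσ
    refine ⟨1, ?_⟩
    rintro ⟨x, hx⟩
    refine ⟨1, ?_⟩
    apply Subtype.ext
    have hx' := hx
    rw [hkerall Γ σ hσ] at hx'
    simpa using (Subgroup.mem_bot.mp hx').symm

end wrapper

end Cfsg.Agent.Lib.Ree.Abs
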