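import Cfsg.Agent.Lib.Ree.Abs34
import Mathlib.Analysis.Fourier.FiniteAbelian.PontryaginDuality
import Mathlib.NumberTheory.LegendreSymbol.AddCharacter
import Mathlib.RepresentationTheory.Irreducible

/-!
# The minimal degree of a nontrivial complex representation of a Ree group

The weight spaces of the centre `Z` of the unipotent group are permuted by the torus.  On a nontrivial
weight space the middle layer of the unipotent group has vanishing trace off the identity, so the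
dimension of the weight space is divisible by `q`.  If the degree is `q (q - 1)` there are no `Z`-fixed
vectors, the involutions have trace zero, and the degree would be divisible by four.
-/

set_option autoImplicit false
set_option linter.unusedSectionVars false
set_option linter.deprecated false
set_option linter.unusedSimpArgs false

namespace Cfsg.Agent.Lib.Ree.Abs

open scoped BigOperators commutatorElement

section idem

variable {W : Type*} [AddCommGroup W] [Module ℂ W] [FiniteDimensional ℂ W]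

theorem trace_idem {f : Module.End ℂ W} (h : IsIdempotentElem f) :
    LinearMap.trace ℂ W f = (Module.finrank ℂ (LinearMap.range f) : ℂ) :=
  (LinearMap.IsIdempotentElem.isProj_range f h).trace

/-- A representation of a finite abelian group with vanishing traces off the identity has
dimension divisible by the order of the group. -/
theorem card_dvd_of_trace {E : Type*} [AddCommGroup E] [Fintype E] (A : E → Module.End ℂ W)
    (h0 : A 0 = 1) (hmul : ∀ a a', A a * A a' = A (a + a'))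
    (htr : ∀ a, a ≠ 0 → LinearMap.trace ℂ W (A a) = 0) :
    Fintype.card E ∣ Module.finrank ℂ W := by
  classical
  have hq : (Fintype.card E : ℂ) ≠ 0 := Nat.cast_ne_zero.mpr Fintype.card_ne_zero
  let S : Module.End ℂ W := ∑ a, A a
  have hS : S * S = (Fintype.card E : ℂ) • S := by
    simp only [S, Finset.sum_mul, Finset.mul_sum, hmul]
    have h1 : ∀ a : E, ∑ i, A (i + a) = ∑ i, A i := fun a =>
      Equiv.sum_comp (Equiv.addRight a) A
    simp only [h1]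
    rw [Finset.sum_const, Finset.card_univ, Nat.cast_smul_eq_nsmul]
  let π : Module.End ℂ W := (Fintype.card E : ℂ)⁻¹ • S
  have hπ : IsIdempotentElem π := by
    show π * π = π
    simp only [π, smul_mul_assoc, mul_smul_comm, hS, smul_smul]
    congr 1
    field_simp
  have htrS : LinearMap.trace ℂ W S = (Module.finrank ℂ W : ℂ) := by
    simp only [S, map_sum]
    rw [Finset.sum_eq_single 0]
    · rw [h0, LinearMap.trace_one]
    · intro b _ hb
      exact htr b hb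
    · simp
  have h2 := trace_idem hπ
  simp only [π, map_smul, htrS, smul_eq_mul] at h2
  refine ⟨Module.finrank ℂ (LinearMap.range π), ?_⟩
  have h3 : (Module.finrank ℂ W : ℂ) = (Fintype.card E : ℂ) * (Module.finrank ℂ (LinearMap.range π) : ℂ) := by
    rw [← h2]
    field_simp
  exact_mod_cast h3

end idem

namespace Dat

variable {K G : Type*} [Field K] [Fintype K] [CharP K 3] [_root_.Group G] (D : Dat K G)
variable {V : Type*} [AddCommGroup V] [Module ℂ V] (ρ : Representation ℂ G V)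

theorem z_mul (c b : K) : D.u 0 0 c * D.u 0 0 b = D.u 0 0 (c + b) := by
  rw [D.up_mul, add_zero]

/-- The weight space of a character of the centre `Z`. -/
def Vc (χ : AddChar K ℂ) : Submodule ℂ V where
  carrier := {v | ∀ b, ρ (D.u 0 0 b) v = χ b • v}
  add_mem' := by
    intro v w hv hw b
    rw [map_add, hv b, hw b, smul_add]
  zero_mem' := by
    intro b
    simp
  smul_mem' := by
    intro c v hv b
    rw [map_smul, hv b, smul_comm]

theorem mem_Vc {χ : AddChar K ℂ} {v : V} : v ∈ D.Vc ρ χ ↔ ∀ b, ρ (D.u 0 0 b) v = χ b • v := Iff.rfl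

theorem rho_z (c b : K) (v : V) : ρ (D.u 0 0 c) (ρ (D.u 0 0 b) v) = ρ (D.u 0 0 (c + b)) v := by
  rw [← Module.End.mul_apply, ← map_mul, D.z_mul]

theorem rho_zero (v : V) : ρ (D.u 0 0 0) v = v := by
  rw [D.u_zero, map_one]
  rfl

/-- The projection to a weight space. -/
noncomputable def Pc (χ : AddChar K ℂ) : V →ₗ[ℂ] V :=
  (Fintype.card K : ℂ)⁻¹ • ∑ b : K, χ (-b) • ρ (D.u 0 0 b)

theorem Pc_apply (χ : AddChar K ℂ) (v : V) :
    D.Pc ρ χ v = (Fintype.card K : ℂ)⁻¹ • ∑ b : K, χ (-b) • ρ (D.u 0 0 b) v := by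
  simp [Pc, LinearMap.sum_apply]

include D in
theorem card_ne_zero : (Fintype.card K : ℂ) ≠ 0 := Nat.cast_ne_zero.mpr Fintype.card_ne_zero

theorem Pc_mem (χ : AddChar K ℂ) (v : V) : D.Pc ρ χ v ∈ D.Vc ρ χ := by
  intro c
  rw [Pc_apply, map_smul, map_sum, smul_comm]
  congr 1
  have e : ∀ b : K, ρ (D.u 0 0 c) (χ (-b) • ρ (D.u 0 0 b) v) =
      χ c • (χ (-(c + b)) • ρ (D.u 0 0 (c + b)) v) := by
    intro b
    rw [map_smul, rho_z, smul_smul, ← AddChar.map_add_eq_mul]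
    congr 2
    ring
  simp_rw [e]
  rw [← Finset.smul_sum]
  congr 1
  exact Equiv.sum_comp (Equiv.addLeft c) (fun b => χ (-b) • ρ (D.u 0 0 b) v)

theorem sum_Pc (c : K) (v : V) : ∑ χ : AddChar K ℂ, χ c • D.Pc ρ χ v = ρ (D.u 0 0 c) v := by
  classical
  have key : ∀ χ : AddChar K ℂ, χ c • D.Pc ρ χ v =
      (Fintype.card K : ℂ)⁻¹ • ∑ b, χ (c - b) • ρ (D.u 0 0 b) v := by
    intro χ
    rw [Pc_apply, smul_comm, Finset.smul_sum]
    congr 1
    apply Finset.sum_congr rfl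
    intro b _
    rw [smul_smul, ← AddChar.map_add_eq_mul, sub_eq_add_neg]
  simp_rw [key]
  rw [← Finset.smul_sum, Finset.sum_comm]
  simp_rw [← Finset.sum_smul, AddChar.sum_apply_eq_ite, sub_eq_zero]
  rw [Finset.sum_eq_single c]
  · rw [if_pos rfl, smul_smul, inv_mul_cancel₀ D.card_ne_zero, one_smul]
  · intro b _ hb
    rw [if_neg (Ne.symm hb), zero_smul]
  · simp

theorem Pc_of_mem {χ : AddChar K ℂ} {v : V} (hv : v ∈ D.Vc ρ χ) : D.Pc ρ χ v = v := by
  have e : ∀ b : K, χ (-b) • ρ (D.u 0 0 b) v = v := by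
    intro b
    rw [hv b, smul_smul, ← AddChar.map_add_eq_mul, neg_add_cancel, AddChar.map_zero_eq_one, one_smul]
  rw [Pc_apply]
  simp_rw [e]
  rw [Finset.sum_const, Finset.card_univ, ← Nat.cast_smul_eq_nsmul ℂ, smul_smul,
    inv_mul_cancel₀ D.card_ne_zero, one_smul]

theorem Pc_of_mem_ne {χ χ' : AddChar K ℂ} {v : V} (hv : v ∈ D.Vc ρ χ') (hne : χ ≠ χ') : D.Pc ρ χ v = 0 := by
  classical
  have e : ∀ b : K, χ (-b) • ρ (D.u 0 0 b) v = (χ⁻¹ * χ') b • v := by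
    intro b
    rw [hv b, smul_smul, AddChar.mul_apply, AddChar.inv_apply]
  rw [Pc_apply]
  simp_rw [e]
  rw [← Finset.sum_smul]
  have h1 : χ⁻¹ * χ' ≠ 0 := by
    intro hc
    apply hne
    have h2 : χ⁻¹ * χ' = 1 := hc
    exact (inv_mul_eq_one.mp h2)
  rw [AddChar.sum_eq_zero_iff_ne_zero.mpr h1, zero_smul, smul_zero]

/-- A nontrivial central element yields a nontrivial weight. -/
theorem exists_char (hρ : ρ (D.u 0 0 1) ≠ 1) : ∃ χ : AddChar K ℂ, χ ≠ 1 ∧ D.Vc ρ χ ≠ ⊥ := by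
  classical
  by_contra hc
  push Not at hc
  apply hρ
  ext v
  have all : ∀ c : K, ρ (D.u 0 0 c) v = D.Pc ρ 1 v := by
    intro c
    rw [← D.sum_Pc ρ c v, Finset.sum_eq_single 1]
    · simp
    · intro χ _ hχ
      have h1 : D.Pc ρ χ v = 0 := by
        have h2 := D.Pc_mem ρ χ v
        rw [hc χ hχ] at h2
        exact (Submodule.mem_bot ℂ).mp h2
      rw [h1, smul_zero]
    · simp
  rw [all 1, ← all 0, D.rho_zero]
  rfl

/-- Independence of weight spaces. -/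
theorem Vc_indep : iSupIndep (fun χ : AddChar K ℂ => D.Vc ρ χ) := by
  intro χ
  rw [Submodule.disjoint_def]
  intro v hv hv'
  have h1 : (⨆ j, ⨆ (_ : j ≠ χ), D.Vc ρ j) ≤ LinearMap.ker (D.Pc ρ χ) := by
    apply iSup₂_le
    intro j hj w hw
    exact D.Pc_of_mem_ne ρ hw (Ne.symm hj)
  have h2 := h1 hv'
  rw [LinearMap.mem_ker, D.Pc_of_mem ρ hv] at h2
  exact h2

/-- Elements of `U` preserve the weight spaces. -/
theorem U_mem_Vc {χ : AddChar K ℂ} {v : V} (hv : v ∈ D.Vc ρ χ) {x : G} (hx : x ∈ D.U) : ρ x v ∈ D.Vc ρ χ := by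
  obtain ⟨t, a, e, rfl⟩ := hx
  intro b
  rw [← Module.End.mul_apply, ← map_mul, ← D.z_comm t a e b, map_mul, Module.End.mul_apply, hv b, map_smul]

/-- The restriction of the action of `U` to a weight space. -/
noncomputable def tau (χ : AddChar K ℂ) : ↥D.U →* Module.End ℂ (D.Vc ρ χ) where
  toFun x := (ρ x).restrict (fun _ hv => D.U_mem_Vc ρ hv x.2)
  map_one' := by
    ext v
    simp
  map_mul' x y := by
    ext v
    simp

theorem tau_apply (χ : AddChar K ℂ) (x : ↥D.U) (v : D.Vc ρ χ) :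
    ((D.tau ρ χ x v : D.Vc ρ χ) : V) = ρ x v := rfl

/-- The key trace vanishing. -/
theorem tr_A [FiniteDimensional ℂ V] {χ : AddChar K ℂ} (hχ : χ ≠ 1) {a : K} (ha : a ≠ 0) :
    LinearMap.trace ℂ (D.Vc ρ χ) (D.tau ρ χ ⟨D.u 0 a 0, D.u_mem_U _ _ _⟩) = 0 := by
  obtain ⟨c, hc⟩ : ∃ c, χ c ≠ 1 := by
    by_contra h
    push Not at h
    apply hχ
    ext x
    rw [h x]
    simp
  obtain ⟨t, ht⟩ : ∃ t, t * a = c := ⟨c / a, div_mul_cancel₀ _ ha⟩
  let T : ↥D.U := ⟨D.u t 0 0, D.u_mem_U _ _ _⟩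
  let A : ↥D.U := ⟨D.u 0 a 0, D.u_mem_U _ _ _⟩
  let Z : ↥D.U := ⟨D.u 0 0 c, D.u_mem_U _ _ _⟩
  have h1 : T * A * T⁻¹ = Z * A := by
    apply Subtype.ext
    show D.u t 0 0 * D.u 0 a 0 * (D.u t 0 0)⁻¹ = D.u 0 0 c * D.u 0 a 0
    rw [← ht, ← D.comm_ta, commutatorElement_def]
    group
  have h2 : D.tau ρ χ Z = χ c • (1 : Module.End ℂ (D.Vc ρ χ)) := by
    ext v
    show ρ (D.u 0 0 c) (v : V) = χ c • (v : V)
    exact v.2 c
  have h3 : D.tau ρ χ T * D.tau ρ χ A * D.tau ρ χ T⁻¹ = χ c • D.tau ρ χ A := by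
    rw [← map_mul, ← map_mul, h1, map_mul, h2, smul_mul_assoc, one_mul]
  have h4 : LinearMap.trace ℂ (D.Vc ρ χ) (D.tau ρ χ T * D.tau ρ χ A * D.tau ρ χ T⁻¹) =
      LinearMap.trace ℂ (D.Vc ρ χ) (D.tau ρ χ A) := by
    rw [mul_assoc, LinearMap.trace_mul_comm, mul_assoc, ← map_mul, inv_mul_cancel, map_one, mul_one]
  rw [h3, map_smul, smul_eq_mul] at h4
  have h5 : (χ c - 1) * LinearMap.trace ℂ (D.Vc ρ χ) (D.tau ρ χ A) = 0 := by
    rw [sub_mul, h4, one_mul, sub_self]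
  rcases mul_eq_zero.mp h5 with h6 | h6
  · exact absurd (sub_eq_zero.mp h6) hc
  · exact h6

/-- The dimension of a nontrivial weight space is divisible by `q`. -/
theorem card_dvd_finrank_Vc [FiniteDimensional ℂ V] {χ : AddChar K ℂ} (hχ : χ ≠ 1) :
    Fintype.card K ∣ Module.finrank ℂ (D.Vc ρ χ) := by
  apply card_dvd_of_trace (fun a : K => D.tau ρ χ ⟨D.u 0 a 0, D.u_mem_U _ _ _⟩)
  · show D.tau ρ χ ⟨D.u 0 0 0, D.u_mem_U _ _ _⟩ = 1
    rw [← map_one (D.tau ρ χ)]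
    congr 1
    exact Subtype.ext D.u_zero
  · intro a a'
    show D.tau ρ χ _ * D.tau ρ χ _ = D.tau ρ χ _
    rw [← map_mul]
    congr 1
    apply Subtype.ext
    show D.u 0 a 0 * D.u 0 a' 0 = D.u 0 (a + a') 0
    rw [D.up_mul, add_zero]
  · intro a ha
    exact D.tr_A ρ hχ ha

theorem finrank_Vc [FiniteDimensional ℂ V] {χ : AddChar K ℂ} (hχ : χ ≠ 1) (hne : D.Vc ρ χ ≠ ⊥) :
    Fintype.card K ≤ Module.finrank ℂ (D.Vc ρ χ) := by
  apply Nat.le_of_dvd _ (D.card_dvd_finrank_Vc ρ hχ)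
  apply Nat.pos_of_ne_zero
  intro hc
  exact hne (Submodule.finrank_eq_zero.mp hc)

/-- The torus permutes the weight spaces. -/
theorem D_mem {χ : AddChar K ℂ} (κ : Kˣ) {v : V} (hv : v ∈ D.Vc ρ χ) :
    ρ (D.d κ) v ∈ D.Vc ρ (χ.mulShift ((κ : K) ^ 3 * D.f.φ κ ^ 2)⁻¹) := by
  intro b
  have hφ : D.f.φ (κ : K) ≠ 0 := (map_ne_zero _).2 κ.ne_zero
  have hc : (κ : K) ^ 3 * D.f.φ κ ^ 2 ≠ 0 := mul_ne_zero (pow_ne_zero _ κ.ne_zero) (pow_ne_zero _ hφ)
  have e : D.u 0 0 b * D.d κ = D.d κ * D.u 0 0 (((κ : K) ^ 3 * D.f.φ κ ^ 2)⁻¹ * b) := by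
    have h1 := D.d_mul_u κ 0 0 (((κ : K) ^ 3 * D.f.φ κ ^ 2)⁻¹ * b)
    rw [mul_zero, mul_zero, ← mul_assoc, mul_inv_cancel₀ hc, one_mul] at h1
    exact h1.symm
  rw [← Module.End.mul_apply, ← map_mul, e, map_mul, Module.End.mul_apply, hv, map_smul, AddChar.mulShift_apply]

theorem finrank_shift [FiniteDimensional ℂ V] (χ : AddChar K ℂ) (κ : Kˣ) :
    Module.finrank ℂ (D.Vc ρ χ) ≤
      Module.finrank ℂ (D.Vc ρ (χ.mulShift ((κ : K) ^ 3 * D.f.φ κ ^ 2)⁻¹)) := by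
  apply LinearMap.finrank_le_finrank_of_injective
    (f := (ρ (D.d κ)).restrict (fun _ hv => D.D_mem ρ κ hv))
  intro v w hvw
  have h1 : ρ (D.d κ) v = ρ (D.d κ) w := congrArg Subtype.val hvw
  have h2 := congrArg (ρ (D.d κ)⁻¹) h1
  rw [← Module.End.mul_apply, ← Module.End.mul_apply, ← map_mul, inv_mul_cancel, map_one] at h2
  exact Subtype.ext h2

/-- The weight map of the centre is injective. -/
theorem Wb_inj {κ κ' : Kˣ} (h : (κ : K) ^ 3 * D.f.φ κ ^ 2 = (κ' : K) ^ 3 * D.f.φ κ' ^ 2) : κ = κ' := by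
  -- apply the field automorphism and eliminate
  have hφ : ∀ x : K, D.f.φ (x ^ 3) = D.f.φ x ^ 3 := fun x => map_pow _ _ _
  have h1 := congrArg D.f.φ h
  simp only [map_mul, map_pow, D.f.φφ] at h1
  -- `x = φ κ`, `y = φ κ'`, `κ³ x² = κ'³ y²` and `x³ (κ³)² = y³ (κ'³)²`
  have hκ : (κ : K) ≠ 0 := κ.ne_zero
  have hκ' : (κ' : K) ≠ 0 := κ'.ne_zero
  have hx : D.f.φ (κ : K) ≠ 0 := (map_ne_zero _).2 hκ
  have hy : D.f.φ (κ' : K) ≠ 0 := (map_ne_zero _).2 hκ'
  obtain ⟨x, hxd⟩ : ∃ x, x = D.f.φ (κ : K) := ⟨_, rfl⟩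
  obtain ⟨y, hyd⟩ : ∃ y, y = D.f.φ (κ' : K) := ⟨_, rfl⟩
  rw [← hxd, ← hyd] at h
  rw [← hxd, ← hyd] at h1
  rw [← hxd] at hx
  rw [← hyd] at hy
  -- `κ^3 = y²κ'³/x²`; substitute
  have h3 : x = y := by
    have e1 : ((κ : K) ^ 3) ^ 2 * x ^ 3 = ((κ' : K) ^ 3) ^ 2 * y ^ 3 := by
      have e : D.f.φ (κ : K) ^ 3 = x ^ 3 := by rw [hxd]
      linear_combination h1
    have e2 : ((κ : K) ^ 3) ^ 2 * x ^ 4 = ((κ' : K) ^ 3) ^ 2 * y ^ 4 := by
      linear_combination ((κ : K) ^ 3 * x ^ 2 + (κ' : K) ^ 3 * y ^ 2) * h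
    have hA : ((κ : K) ^ 3) ^ 2 * x ^ 3 ≠ 0 := by positivity
    have e3 : ((κ : K) ^ 3) ^ 2 * x ^ 3 * x = ((κ : K) ^ 3) ^ 2 * x ^ 3 * y := by
      calc _ = ((κ : K) ^ 3) ^ 2 * x ^ 4 := by ring
        _ = ((κ' : K) ^ 3) ^ 2 * y ^ 4 := e2
        _ = ((κ' : K) ^ 3) ^ 2 * y ^ 3 * y := by ring
        _ = _ := by rw [e1]
    exact mul_left_cancel₀ hA e3
  have h4 : D.f.φ (κ : K) = D.f.φ (κ' : K) := by rw [← hxd, ← hyd, h3]
  have h5 : (κ : K) = κ' := D.f.φ.injective h4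
  exact Units.ext h5

/-- The shifted characters are distinct. -/
theorem shift_inj {χ : AddChar K ℂ} (hχ : χ ≠ 1) :
    Function.Injective (fun κ : Kˣ => χ.mulShift ((κ : K) ^ 3 * D.f.φ κ ^ 2)⁻¹) := by
  intro k l he
  have hprim : χ.IsPrimitive := AddChar.IsPrimitive.of_ne_one hχ
  have h1 := AddChar.to_mulShift_inj_of_isPrimitive hprim he
  have h2 := inv_injective h1
  exact D.Wb_inj h2

/-- The main bound: `q (q - 1) + dim C_V(Z) ≤ dim V`. -/
theorem rep_bound [FiniteDimensional ℂ V] (hρ : ρ (D.u 0 0 1) ≠ 1) :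
    D.q * (D.q - 1) + Module.finrank ℂ (D.Vc ρ 1) ≤ Module.finrank ℂ V := by
  classical
  obtain ⟨χ, hχ, hne⟩ := D.exists_char ρ hρ
  have h1 := D.finrank_Vc ρ hχ hne
  have hshift1 : ∀ κ : Kˣ, χ.mulShift ((κ : K) ^ 3 * D.f.φ κ ^ 2)⁻¹ ≠ 1 := by
    intro κ hc
    have hφ : D.f.φ (κ : K) ≠ 0 := (map_ne_zero _).2 κ.ne_zero
    have hc0 : ((κ : K) ^ 3 * D.f.φ κ ^ 2)⁻¹ ≠ 0 := inv_ne_zero (mul_ne_zero (pow_ne_zero _ κ.ne_zero) (pow_ne_zero _ hφ))
    apply hχ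
    ext x
    have h2 := congrArg (fun ψ : AddChar K ℂ => ψ (((κ : K) ^ 3 * D.f.φ κ ^ 2) * x)) hc
    simp only [AddChar.mulShift_apply, AddChar.one_apply] at h2
    have hc1 : (κ : K) ^ 3 * D.f.φ κ ^ 2 ≠ 0 := mul_ne_zero (pow_ne_zero _ κ.ne_zero) (pow_ne_zero _ hφ)
    rw [← mul_assoc, inv_mul_cancel₀ hc1, one_mul] at h2
    simpa using h2
  let W : Option Kˣ → Submodule ℂ V := fun o => D.Vc ρ (match o with
    | none => 1
    | some κ => χ.mulShift ((κ : K) ^ 3 * D.f.φ κ ^ 2)⁻¹)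
  have hinj : Function.Injective (fun o : Option Kˣ => (match o with
    | none => 1
    | some κ => χ.mulShift ((κ : K) ^ 3 * D.f.φ κ ^ 2)⁻¹ : AddChar K ℂ)) := by
    rintro (_ | κ) (_ | κ') he
    · rfl
    · exact absurd he.symm (hshift1 κ')
    · exact absurd he (hshift1 κ)
    · rw [D.shift_inj hχ he]
  have hind : iSupIndep W := (D.Vc_indep ρ).comp hinj
  have h2 := hind.dfinsupp_lsum_injective
  have h3 := LinearMap.finrank_le_finrank_of_injective h2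
  have h4 : Module.finrank ℂ (Π₀ o, W o) = ∑ o, Module.finrank ℂ (W o) :=
    Module.finrank_directSum ℂ (fun o => W o)
  rw [h4, Fintype.sum_option] at h3
  have h5 : ∑ κ : Kˣ, Fintype.card K ≤ ∑ κ : Kˣ, Module.finrank ℂ (W (some κ)) :=
    Finset.sum_le_sum (fun κ _ => h1.trans (D.finrank_shift ρ χ κ))
  rw [Finset.sum_const, Finset.card_univ, smul_eq_mul, Fintype.card_units, D.card_K'] at h5
  have h6 : Module.finrank ℂ (W none) = Module.finrank ℂ (D.Vc ρ 1) := rfl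
  rw [h6] at h3
  have h7 : D.q * (D.q - 1) = (D.q - 1) * D.q := mul_comm _ _
  rw [h7]
  omega

theorem sum_z_eq_zero (h0 : D.Vc ρ 1 = ⊥) : (∑ b : K, ρ (D.u 0 0 b)) = 0 := by
  ext v
  have h1 := D.Pc_mem ρ 1 v
  rw [h0, Submodule.mem_bot, Pc_apply] at h1
  have h2 : ∀ b : K, (1 : AddChar K ℂ) (-b) • ρ (D.u 0 0 b) v = ρ (D.u 0 0 b) v := by
    intro b
    simp
  simp only [h2] at h1
  have h3 := (smul_eq_zero.mp h1).resolve_left (inv_ne_zero D.card_ne_zero)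
  simpa [LinearMap.sum_apply] using h3

theorem t0_mul_z (b : K) : D.t0 * D.u 0 0 b = D.u 0 0 b * D.t0 * (D.u 0 0 b)⁻¹ := by
  have h1 := D.t0_conj_u 0 0 (-b)
  have h2 : (D.u 0 0 b)⁻¹ = D.u 0 0 (-b) := by
    apply inv_eq_of_mul_eq_one_right
    rw [D.z_mul, add_neg_cancel, D.u_zero]
  rw [h2]
  have h3 : D.t0 * D.u 0 0 (-b) = D.u 0 0 b * D.t0 := by
    have h4 : D.u 0 0 (- -b) = D.u 0 0 b := by rw [neg_neg]
    simp only [neg_zero, h4] at h1
    calc D.t0 * D.u 0 0 (-b) = (D.t0 * D.u 0 0 (-b) * D.t0) * D.t0 := by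
          rw [mul_assoc _ D.t0 D.t0, D.t0_sq, mul_one]
      _ = _ := by rw [h1]
  have h5 : D.u 0 0 b = D.u 0 0 (-b) * D.u 0 0 (-b) := by
    rw [D.z_mul]
    congr 1
    have h6 := D.three
    linear_combination b * h6
  calc D.t0 * D.u 0 0 b = D.t0 * (D.u 0 0 (-b) * D.u 0 0 (-b)) := by rw [← h5]
    _ = (D.t0 * D.u 0 0 (-b)) * D.u 0 0 (-b) := by rw [mul_assoc]
    _ = D.u 0 0 b * D.t0 * D.u 0 0 (-b) := by rw [h3]

variable [FiniteDimensional ℂ V]

theorem trace_conj_rho (g x : G) : LinearMap.trace ℂ V (ρ (g * x * g⁻¹)) = LinearMap.trace ℂ V (ρ x) := by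
  have e : ρ (g * x * g⁻¹) = ρ g * ρ x * ρ g⁻¹ := by rw [map_mul ρ, map_mul ρ]
  rw [e, LinearMap.trace_mul_comm, ← mul_assoc, ← map_mul ρ, inv_mul_cancel, map_one, one_mul]

theorem trace_t0 (h0 : D.Vc ρ 1 = ⊥) : LinearMap.trace ℂ V (ρ D.t0) = 0 := by
  have h1 : ρ D.t0 * (∑ b : K, ρ (D.u 0 0 b)) = 0 := by
    rw [D.sum_z_eq_zero ρ h0, mul_zero]
  have h2 := congrArg (LinearMap.trace ℂ V) h1
  rw [Finset.mul_sum, map_sum, map_zero] at h2
  have h3 : ∀ b : K, LinearMap.trace ℂ V (ρ D.t0 * ρ (D.u 0 0 b)) = LinearMap.trace ℂ V (ρ D.t0) := by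
    intro b
    rw [← map_mul, D.t0_mul_z, trace_conj_rho]
  simp only [h3] at h2
  rw [Finset.sum_const, Finset.card_univ, ← Nat.cast_smul_eq_nsmul ℂ, smul_eq_mul] at h2
  exact (mul_eq_zero.mp h2).resolve_left D.card_ne_zero

/-- The degree is not `q (q - 1)`. -/
theorem eight_dvd [Finite G] (hm : 1 ≤ D.m) (h0 : D.Vc ρ 1 = ⊥) : 8 ∣ Module.finrank ℂ V := by
  have hc := card_dvd_of_trace (W := V) (E := ZMod 2 × ZMod 2 × ZMod 2)
    (fun p => ρ (D.sHom (Multiplicative.ofAdd p.1, Multiplicative.ofAdd p.2.1, Multiplicative.ofAdd p.2.2)))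
    (by
      show ρ (D.sHom 1) = 1
      rw [map_one, map_one])
    (by
      intro a a'
      show ρ _ * ρ _ = ρ _
      rw [← map_mul, ← map_mul]
      rfl)
    (by
      intro p hp
      have hne : D.sHom (Multiplicative.ofAdd p.1, Multiplicative.ofAdd p.2.1, Multiplicative.ofAdd p.2.2) ≠ 1 := by
        intro hc
        have h1 := D.sHom_inj (hc.trans (map_one _).symm)
        apply hp
        have h2 := congrArg Prod.fst h1
        have h3 := congrArg (fun z => z.2.1) h1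
        have h4 := congrArg (fun z => z.2.2) h1
        ext
        · exact h2
        · exact h3
        · exact h4
      obtain ⟨n, -, hn⟩ := D.normalizer_trans hm (x := D.sHom _) ⟨_, rfl⟩ hne
      show LinearMap.trace ℂ V (ρ _) = 0
      rw [hn, trace_conj_rho, D.trace_t0 ρ h0])
  exact hc

/-- The main theorem. -/
theorem rep_final [Finite G] (hm : 1 ≤ D.m) (hρ : ρ (D.u 0 0 1) ≠ 1) :
    D.q * (D.q - 1) + 1 ≤ Module.finrank ℂ V := by
  have h1 := D.rep_bound ρ hρ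
  by_contra hc
  have h2 : Module.finrank ℂ (D.Vc ρ 1) = 0 := by omega
  have h3 : Module.finrank ℂ V = D.q * (D.q - 1) := by omega
  have h4 := D.eight_dvd ρ hm (Submodule.finrank_eq_zero.mp h2)
  rw [h3] at h4
  have h5 := D.q_mod8
  have h6 : (D.q * (D.q - 1)) % 8 = 6 := by
    obtain ⟨k, hk⟩ : ∃ k, D.q = 8 * k + 3 := ⟨D.q / 8, by omega⟩
    rw [hk]
    have e : 8 * k + 3 - 1 = 8 * k + 2 := by omega
    rw [e]
    have e2 : (8 * k + 3) * (8 * k + 2) = 8 * (8 * k * k + 5 * k) + 6 := by ring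
    rw [e2]
    omega
  omega

end Dat

end Cfsg.Agent.Lib.Ree.Abs
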