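import Cfsg.Agent.Lib.Ree.Abs3

/-!
# The abstract Ree group: fixed points and the class of involutions
-/

set_option autoImplicit false
set_option linter.unusedSectionVars false
set_option linter.unusedSimpArgs false
set_option linter.unnecessarySeqFocus false

namespace Cfsg.Agent.Lib.Ree.Abs

open Matrix Cfsg.Agent.Lib.Ree.Sigma Cfsg.Agent.Lib.Ree.Words Cfsg.Agent.Lib.Ree.Psi
open scoped MatrixGroups Pointwise

namespace Dat

variable {K G : Type*} [Field K] [Fintype K] [CharP K 3] [_root_.Group G] (D : Dat K G)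

include D in
theorem eq_zero_of_two {x : K} (h : x + x = 0) : x = 0 := by
  have h3 : (3 : K) = 0 := three_eq_zero
  linear_combination x * h3 - h

/-- Conjugates of the involution. -/
def CT (x : G) : Prop := ∃ g, x = g * D.t0 * g⁻¹

theorem CT_conj {x : G} (h : D.CT x) (g : G) : D.CT (g * x * g⁻¹) := by
  obtain ⟨c, rfl⟩ := h
  exact ⟨g * c, by group⟩

theorem CT_t0 : D.CT D.t0 := ⟨1, by group⟩

theorem CT_sq {x : G} (h : D.CT x) : x * x = 1 := by
  obtain ⟨c, rfl⟩ := h
  have e : c * D.t0 * c⁻¹ * (c * D.t0 * c⁻¹) = c * (D.t0 * D.t0) * c⁻¹ := by group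
  rw [e, D.t0_sq]
  group

theorem CT_ne {x : G} (h : D.CT x) : x ≠ 1 := by
  obtain ⟨c, rfl⟩ := h
  intro h1
  apply D.t0_ne
  have e : D.t0 = c⁻¹ * (c * D.t0 * c⁻¹) * c := by group
  rw [e, h1]
  group

theorem t0_conj_mem : ∀ {t b : K}, D.u (-t) 0 (-b + D.f.φ t * t ^ 2) * D.t0 * (D.u (-t) 0 (-b + D.f.φ t * t ^ 2))⁻¹ =
    D.u t (t * D.f.φ t) b * D.t0 := by
  intro t b
  have h3 : (3 : K) = 0 := three_eq_zero
  set v := D.u (-t) 0 (-b + D.f.φ t * t ^ 2) with hv
  have e1 : v * D.t0 * v⁻¹ = v * (D.t0 * v⁻¹ * D.t0) * D.t0 := by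
    have : v * (D.t0 * v⁻¹ * D.t0) * D.t0 = v * D.t0 * v⁻¹ * (D.t0 * D.t0) := by group
    rw [this, D.t0_sq, mul_one]
  rw [e1, hv, D.u_inv, D.t0_conj_u, D.u_mul]
  refine congrArg (· * D.t0) ?_
  congr 1
  · linear_combination (-t) * h3
  · simp only [map_neg]
    linear_combination (- t * D.f.φ t) * h3
  · simp only [map_neg]
    linear_combination (-b) * h3

/-- Involutions of the Borel subgroup are conjugate to the torus involution. -/
theorem B_inv_conj {x : G} (hB : x ∈ D.B) (h : x * x = 1) (h1 : x ≠ 1) : D.CT x := by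
  obtain ⟨t, a, b, κ, rfl⟩ := hB
  have e : D.u t a b * D.d κ * (D.u t a b * D.d κ) = D.u t a b * (D.d κ * D.u t a b) * D.d κ := by group
  have h2 := h
  rw [e, D.d_mul_u, ← mul_assoc, D.u_mul, mul_assoc, ← map_mul] at h2
  have h0 : D.u 0 0 0 * D.d 1 = 1 := by rw [D.u_zero, map_one, one_mul]
  rw [← h0] at h2
  obtain ⟨-, -, -, h3⟩ := D.B_unique h2
  have h4 : ((κ : K) - 1) * ((κ : K) + 1) = 0 := by
    have := congrArg (fun z : Kˣ => (z : K)) h3
    simp only [Units.val_mul, Units.val_one] at this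
    linear_combination this
  rcases mul_eq_zero.1 h4 with h5 | h5
  · exfalso
    have h6 : κ = 1 := Units.ext (sub_eq_zero.1 h5)
    subst h6
    rw [map_one, mul_one] at h
    rw [map_one, mul_one] at h1
    rw [D.u_mul, ← D.u_zero] at h
    obtain ⟨h7, h8, h9⟩ := D.u_inj h
    obtain rfl := D.eq_zero_of_two h7
    rw [zero_mul, sub_zero] at h8
    obtain rfl := D.eq_zero_of_two h8
    simp only [mul_zero, zero_pow, ne_eq, OfNat.ofNat_ne_zero, not_false_eq_true, sub_zero, zero_mul,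
      add_zero] at h9
    obtain rfl := D.eq_zero_of_two h9
    exact h1 D.u_zero
  · have h6 : κ = -1 := Units.ext (by simpa using eq_neg_of_add_eq_zero_left h5)
    subst h6
    have h7 : D.d (-1) = D.t0 := rfl
    rw [h7] at h ⊢
    have h8 : D.u t a b * D.t0 * (D.u t a b * D.t0) = D.u t a b * (D.t0 * D.u t a b * D.t0) := by group
    rw [h8, D.t0_conj_u, D.u_mul, ← D.u_zero] at h
    obtain ⟨-, h9, -⟩ := D.u_inj h
    have ha : a = t * D.f.φ t := by
      have h3 : (3 : K) = 0 := three_eq_zero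
      simp only [map_neg] at h9
      linear_combination (a) * h3 - h9
    subst ha
    exact ⟨_, D.t0_conj_mem.symm⟩

/-! ### Counting fixed points -/

/-- The number of fixed points. -/
noncomputable def fx (x : G) : ℕ := Nat.card (MulAction.fixedBy D.Om x)

theorem fx_conj (g x : G) : D.fx (g * x * g⁻¹) = D.fx x := by
  apply Nat.card_congr
  symm
  refine Equiv.subtypeEquiv (MulAction.toPerm g) ?_
  intro α
  simp only [MulAction.mem_fixedBy, MulAction.toPerm_apply]
  constructor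
  · intro h
    rw [mul_smul, mul_smul, inv_smul_smul, h]
  · intro h
    rw [mul_smul, mul_smul, inv_smul_smul] at h
    exact smul_left_cancel _ h

theorem t0_smul_pu (t a b : K) : D.t0 • D.pu t a b = D.pu (-t) a (-b) := by
  rw [t0, d_smul_pu]
  congr 1 <;> simp only [Units.val_neg, Units.val_one, map_neg, map_one] <;> ring

theorem t0_smul_p0 : D.t0 • D.p0 = D.p0 := D.smul_p0_iff.2 (D.d_mem_B _)

theorem fx_t0 : D.fx D.t0 = D.q + 1 := by
  classical
  let F : Option K → ↥(MulAction.fixedBy D.Om D.t0) := fun o => match o with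
    | none => ⟨D.p0, D.t0_smul_p0⟩
    | some a => ⟨D.pu 0 a 0, by
        rw [MulAction.mem_fixedBy, t0_smul_pu]
        simp⟩
  have hF : Function.Bijective F := by
    constructor
    · rintro (_ | a) (_ | a') h
      · rfl
      · exact absurd (congrArg Subtype.val h).symm (D.pu_ne_p0 _ _ _)
      · exact absurd (congrArg Subtype.val h) (D.pu_ne_p0 _ _ _)
      · have h1 : D.pu 0 a 0 = D.pu 0 a' 0 := congrArg Subtype.val h
        obtain ⟨-, rfl, -⟩ := D.u_inj (D.pu_eq_iff.1 h1)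
        rfl
    · rintro ⟨α, hα⟩
      rcases D.point_form α with rfl | ⟨t, a, b, rfl⟩
      · exact ⟨none, rfl⟩
      · rw [MulAction.mem_fixedBy, t0_smul_pu] at hα
        obtain ⟨h1, -, h3⟩ := D.u_inj (D.pu_eq_iff.1 hα)
        obtain rfl := D.eq_zero_of_neg_eq h1
        obtain rfl := D.eq_zero_of_neg_eq h3
        exact ⟨some a, rfl⟩
  rw [fx, ← Nat.card_congr (Equiv.ofBijective F hF), Nat.card_eq_fintype_card, Fintype.card_option,
    D.card_K']

theorem fx_CT {x : G} (h : D.CT x) : D.fx x = D.q + 1 := by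
  obtain ⟨c, rfl⟩ := h
  rw [fx_conj, fx_t0]

theorem CT_of_fix {x : G} (hx : x * x = 1) (h1 : x ≠ 1) (α : D.Om) (hα : x • α = α) : D.CT x := by
  obtain ⟨g, rfl⟩ := QuotientGroup.mk_surjective α
  rw [smul_mk, QuotientGroup.eq] at hα
  have h2 : (g⁻¹ * x * g) ∈ D.B := by
    have e : (g⁻¹ * x * g)⁻¹ = (x * g)⁻¹ * g := by group
    rw [← inv_mem_iff, e]
    exact hα
  have h3 := D.B_inv_conj h2 (by
    have e : g⁻¹ * x * g * (g⁻¹ * x * g) = g⁻¹ * (x * x) * g := by group
    rw [e, hx]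
    group) (by
    intro h4
    apply h1
    have e : x = g * (g⁻¹ * x * g) * g⁻¹ := by group
    rw [e, h4]
    group)
  have h4 := D.CT_conj h3 g
  have e : g * (g⁻¹ * x * g) * g⁻¹ = x := by group
  rwa [e] at h4

theorem fx_le_two [Finite G] {x : G} (h1 : x ≠ 1) (h2 : ¬ D.CT x) : D.fx x ≤ 2 := by
  by_contra hc
  push_neg at hc
  have h3 : 2 < Set.ncard (MulAction.fixedBy D.Om x) := by
    rw [← Nat.card_coe_set_eq]
    exact hc
  obtain ⟨α, β, γ, hα, hβ, hγ, hαβ, hαγ, hβγ⟩ := (Set.two_lt_ncard_iff (Set.toFinite _)).1 h3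
  obtain ⟨g, hg1, hg2⟩ := D.two_trans hαβ
  have hz0 : g • γ ≠ D.p0 := by
    intro h
    apply hαγ
    rw [← hg1] at h
    exact (smul_left_cancel _ h).symm
  have hz1 : g • γ ≠ D.pw := by
    intro h
    apply hβγ
    rw [← hg2] at h
    exact (smul_left_cancel _ h).symm
  rcases D.point_form (g • γ) with h | ⟨t, a, b, hz⟩
  · exact hz0 h
  have hne : D.u t a b ≠ 1 := by
    intro h
    apply hz1
    rw [hz, pw_eq, pu_eq_iff, h, D.u_zero]
  have hα' : x • α = α := hα
  have hβ' : x • β = β := hβ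
  have hγ' : x • γ = γ := hγ
  have e0 : (g * x * g⁻¹) • D.p0 = D.p0 := by
    rw [← hg1, mul_smul, mul_smul, inv_smul_smul, hα']
  have e1 : (g * x * g⁻¹) • D.pw = D.pw := by
    rw [← hg2, mul_smul, mul_smul, inv_smul_smul, hβ']
  have e2 : (g * x * g⁻¹) • D.pu t a b = D.pu t a b := by
    rw [← hz, mul_smul, mul_smul, inv_smul_smul, hγ']
  rcases D.fix_three e0 e1 e2 hne with h | h
  · apply h1
    have e : x = g⁻¹ * (g * x * g⁻¹) * g := by group
    rw [e, h]
    group
  · apply h2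
    refine ⟨g⁻¹, ?_⟩
    rw [← h]
    group

theorem fx_inv {x : G} (hx : x * x = 1) (h1 : x ≠ 1) (h2 : ¬ D.CT x) : D.fx x = 0 := by
  rw [fx, Nat.card_eq_zero]
  left
  rw [Set.isEmpty_coe_sort, Set.eq_empty_iff_forall_notMem]
  intro α hα
  exact h2 (D.CT_of_fix hx h1 α hα)

end Dat

end Cfsg.Agent.Lib.Ree.Abs
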