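import Cfsg.Agent.Lib.Ree.Abs4

/-!
# The abstract Ree group: the class of involutions
-/

set_option autoImplicit false
set_option linter.unusedSectionVars false
set_option linter.unusedSimpArgs false
set_option linter.unnecessarySeqFocus false

namespace Cfsg.Agent.Lib.Ree.Abs

open Matrix Cfsg.Agent.Lib.Ree.Sigma Cfsg.Agent.Lib.Ree.Words Cfsg.Agent.Lib.Ree.Psi
open scoped MatrixGroups Pointwise

namespace Dat

variable {K G : Type*} [Field K] [Fintype K] [CharP K 3] [_root_.Group G] (D : Dat K G)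

theorem card_U : Nat.card D.U = D.q ^ 3 := by
  let F : K × K × K → ↥D.U := fun p => ⟨D.u p.1 p.2.1 p.2.2, D.u_mem_U _ _ _⟩
  have hF : Function.Bijective F := by
    constructor
    · rintro ⟨t, a, b⟩ ⟨t', a', b'⟩ h
      obtain ⟨rfl, rfl, rfl⟩ := D.u_inj (congrArg Subtype.val h)
      rfl
    · rintro ⟨x, t, a, b, rfl⟩
      exact ⟨⟨t, a, b⟩, rfl⟩
  rw [← Nat.card_congr (Equiv.ofBijective F hF)]
  simp only [Nat.card_eq_fintype_card, Fintype.card_prod, D.card_K']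
  ring

theorem card_B : Nat.card D.B = D.q ^ 3 * (D.q - 1) := by
  classical
  let F : (K × K × K) × Kˣ → ↥D.B := fun p => ⟨D.u p.1.1 p.1.2.1 p.1.2.2 * D.d p.2, ⟨_, _, _, _, rfl⟩⟩
  have hF : Function.Bijective F := by
    constructor
    · rintro ⟨⟨t, a, b⟩, κ⟩ ⟨⟨t', a', b'⟩, κ'⟩ h
      obtain ⟨rfl, rfl, rfl, rfl⟩ := D.B_unique (congrArg Subtype.val h)
      rfl
    · rintro ⟨x, t, a, b, κ, rfl⟩
      exact ⟨⟨⟨t, a, b⟩, κ⟩, rfl⟩
  rw [← Nat.card_congr (Equiv.ofBijective F hF)]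
  simp only [Nat.card_eq_fintype_card, Fintype.card_prod, Fintype.card_units, D.card_K']
  ring

theorem q_sub_pos : 0 < D.q - 1 := by
  have := D.q_ge
  omega

theorem card_G' : Nat.card G = D.q ^ 3 * (D.q - 1) * (D.q ^ 3 + 1) := D.card_G

theorem card_Om : Nat.card D.Om = D.q ^ 3 + 1 := by
  have h1 := Subgroup.card_eq_card_quotient_mul_card_subgroup D.B
  rw [D.card_B, D.card_G'] at h1
  have hpos : 0 < D.q ^ 3 * (D.q - 1) := by
    have h2 := D.q_sub_pos
    have h3 : 0 < D.q := by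
      have := D.q_ge
      omega
    positivity
  have h2 : (D.q ^ 3 + 1) * (D.q ^ 3 * (D.q - 1)) = Nat.card D.Om * (D.q ^ 3 * (D.q - 1)) := by
    rw [← h1]
    ring
  exact (Nat.eq_of_mul_eq_mul_right hpos h2).symm

theorem fx_one : D.fx 1 = D.q ^ 3 + 1 := by
  rw [fx, ← D.card_Om]
  apply Nat.card_congr
  exact Equiv.subtypeUnivEquiv (fun α => by simp)

/-- The element of order three normalising the Klein group. -/
noncomputable def gam : G := D.psi (up (1 : K))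

section Rel

theorem rel1 : (up 1 : SL(2, K)) * g0 = nI * jj * up 1 := by
  have h3' : (3 : K) = 0 := three_eq_zero
  obtain ⟨j1, j2, j3, j4⟩ := jj_apply (K := K)
  obtain ⟨g1, g2, g3, g4⟩ := g0_apply (K := K)
  obtain ⟨u1, u2, u3, u4⟩ := up_apply (1 : K)
  obtain ⟨n1, n2, n3, n4⟩ := nI_apply (K := K)
  apply sl_ext <;> simp only [sl_mul_apply, j1, j2, j3, j4, g1, g2, g3, g4, u1, u2, u3, u4, n1, n2, n3, n4] <;> grind

theorem rel2 : (up 1 : SL(2, K)) * jj = nI * (g0 * jj) * up 1 := by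
  have h3' : (3 : K) = 0 := three_eq_zero
  obtain ⟨j1, j2, j3, j4⟩ := jj_apply (K := K)
  obtain ⟨g1, g2, g3, g4⟩ := g0_apply (K := K)
  obtain ⟨u1, u2, u3, u4⟩ := up_apply (1 : K)
  obtain ⟨n1, n2, n3, n4⟩ := nI_apply (K := K)
  apply sl_ext <;> simp only [sl_mul_apply, j1, j2, j3, j4, g1, g2, g3, g4, u1, u2, u3, u4, n1, n2, n3, n4] <;> grind

theorem rel3 : (up 1 : SL(2, K)) * (g0 * jj) = g0 * up 1 := by
  have h3' : (3 : K) = 0 := three_eq_zero
  obtain ⟨j1, j2, j3, j4⟩ := jj_apply (K := K)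
  obtain ⟨g1, g2, g3, g4⟩ := g0_apply (K := K)
  obtain ⟨u1, u2, u3, u4⟩ := up_apply (1 : K)
  apply sl_ext <;> simp only [sl_mul_apply, j1, j2, j3, j4, g1, g2, g3, g4, u1, u2, u3, u4] <;> grind

end Rel

theorem gam_w : D.gam * D.w * D.gam⁻¹ = D.vb := by
  have h := congrArg D.psi (rel1 (K := K))
  rw [map_mul, map_mul, map_mul, psi_nI, one_mul, psi_g0] at h
  rw [gam, h, vb]
  group

theorem gam_vb : D.gam * D.vb * D.gam⁻¹ = D.w * D.vb := by
  have h := congrArg D.psi (rel2 (K := K))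
  rw [map_mul, map_mul, map_mul, map_mul, psi_nI, one_mul, psi_g0] at h
  rw [gam, vb, h]
  group

theorem gam_wvb : D.gam * (D.w * D.vb) * D.gam⁻¹ = D.w := by
  have h := congrArg D.psi (rel3 (K := K))
  rw [map_mul, map_mul, map_mul, psi_g0] at h
  rw [gam, vb, h]
  group

theorem gam_t0 : D.gam * D.t0 * D.gam⁻¹ = D.t0 := by
  rw [gam, ← D.t0_comm_psi]
  group

theorem sum_z2 {R : Type*} [AddCommMonoid R] (F : Multiplicative (ZMod 2) → R) :
    ∑ a, F a = F 1 + F (Multiplicative.ofAdd 1) := by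
  have h : (Finset.univ : Finset (Multiplicative (ZMod 2))) = {1, Multiplicative.ofAdd 1} := by decide
  rw [h, Finset.sum_pair (by decide)]

theorem sum_E8 {R : Type*} [AddCommMonoid R] (F : E8 → R) :
    ∑ e, F e = (F (1, 1, 1) + F (1, 1, Multiplicative.ofAdd 1)) +
      (F (1, Multiplicative.ofAdd 1, 1) + F (1, Multiplicative.ofAdd 1, Multiplicative.ofAdd 1)) +
      ((F (Multiplicative.ofAdd 1, 1, 1) + F (Multiplicative.ofAdd 1, 1, Multiplicative.ofAdd 1)) +
      (F (Multiplicative.ofAdd 1, Multiplicative.ofAdd 1, 1) +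
        F (Multiplicative.ofAdd 1, Multiplicative.ofAdd 1, Multiplicative.ofAdd 1))) := by
  rw [Fintype.sum_prod_type, sum_z2]
  simp only [Fintype.sum_prod_type, sum_z2]

theorem exists_sum_fx [Finite G] : ∃ N, ∑ e : E8, D.fx (D.sHom e) = N * 8 := by
  classical
  haveI : Fintype ↥D.S0 := Fintype.ofFinite _
  haveI : Fintype D.Om := Fintype.ofFinite _
  haveI : Fintype (MulAction.orbitRel.Quotient ↥D.S0 D.Om) := Fintype.ofFinite _
  have hb := MulAction.sum_card_fixedBy_eq_card_orbits_mul_card_group ↥D.S0 D.Om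
  refine ⟨Fintype.card (MulAction.orbitRel.Quotient ↥D.S0 D.Om), ?_⟩
  have h8 : Fintype.card ↥D.S0 = 8 := by
    rw [← Nat.card_eq_fintype_card, card_S0]
  rw [h8] at hb
  have hb' : ∑ s : ↥D.S0, D.fx s.1 = Fintype.card (MulAction.orbitRel.Quotient ↥D.S0 D.Om) * 8 := by
    rw [← hb]
    apply Finset.sum_congr rfl
    intro s _
    rw [← Nat.card_eq_fintype_card]
    rfl
  let e : E8 ≃ ↥D.S0 := (MonoidHom.ofInjective D.sHom_inj).toEquiv
  have h2 : ∑ x : E8, D.fx (D.sHom x) = ∑ s : ↥D.S0, D.fx s.1 :=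
    Fintype.sum_equiv e _ (fun s => D.fx s.1) (fun x => rfl)
  exact h2.trans hb'

/-- The fixed points on the Klein group. -/
theorem fx_eq (x : G) (hx : x * x = 1) (h1 : x ≠ 1) : D.fx x = 0 ∨ (D.fx x = D.q + 1 ∧ D.CT x) := by
  by_cases h : D.CT x
  · exact Or.inr ⟨D.fx_CT h, h⟩
  · exact Or.inl (D.fx_inv hx h1 h)

theorem S0_ne_t0_w : D.t0 * D.w ≠ 1 := by
  intro h
  rw [← D.psi_g0] at h
  apply D.t0_not_mem g0
  have := inv_eq_of_mul_eq_one_right h
  rw [D.t0_inv] at this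
  exact this.symm

theorem w_ne_one : D.w ≠ 1 := by
  intro h
  apply D.w_not_mem
  rw [h]
  exact Subgroup.one_mem _

/-- The sum of the fixed points. -/
theorem parity [Finite G] : (D.fx D.w = 0 ∧ D.fx (D.t0 * D.w) = 0) ∨
    (D.fx D.w = D.q + 1 ∧ D.fx (D.t0 * D.w) = D.q + 1) := by
  obtain ⟨N, hN⟩ := D.exists_sum_fx
  rw [sum_E8] at hN
  simp only [sHom_apply, z2Hom_one, z2Hom_t, one_mul, mul_one, fx_one] at hN
  have e1 : D.fx D.vb = D.fx D.w := by rw [← D.gam_w, fx_conj]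
  have e2 : D.fx (D.w * D.vb) = D.fx D.w := by rw [← D.gam_vb, fx_conj, e1]
  have e3 : D.fx (D.t0 * D.vb) = D.fx (D.t0 * D.w) := by
    have : D.t0 * D.vb = D.gam * (D.t0 * D.w) * D.gam⁻¹ := by
      rw [← D.gam_w]
      nth_rewrite 1 [← D.gam_t0]
      group
    rw [this, fx_conj]
  have e4 : D.fx (D.t0 * (D.w * D.vb)) = D.fx (D.t0 * D.w) := by
    have : D.t0 * (D.w * D.vb) = D.gam * (D.t0 * D.vb) * D.gam⁻¹ := by
      rw [← D.gam_vb]
      nth_rewrite 1 [← D.gam_t0]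
      group
    rw [this, fx_conj, e3]
  rw [e1, e2, e3, e4, fx_t0] at hN
  have hq8 := D.q_mod8
  have hq3 : D.q ^ 3 % 8 = 3 := by
    rw [Nat.pow_mod, hq8]
  rcases D.fx_eq D.w D.w_mul_w D.w_ne_one with h1 | ⟨h1, -⟩ <;>
    rcases D.fx_eq (D.t0 * D.w) (by
      have e : D.t0 * D.w * (D.t0 * D.w) = D.t0 * (D.w * D.t0) * D.w := by group
      rw [e, D.w_comm_t0]
      have e' : D.t0 * (D.t0 * D.w) * D.w = (D.t0 * D.t0) * (D.w * D.w) := by group
      rw [e', D.t0_sq, D.w_mul_w, one_mul]) D.S0_ne_t0_w with h2 | ⟨h2, -⟩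
  · exact Or.inl ⟨h1, h2⟩
  · exfalso
    rw [h1, h2] at hN
    omega
  · exfalso
    rw [h1, h2] at hN
    omega
  · exact Or.inr ⟨h1, h2⟩

/-- The elements of the Klein group. -/
theorem fx_S0 [Finite G] (hne : D.fx D.w ≠ 0) {x : G} (hx : x ∈ D.S0) (h1 : x ≠ 1) : D.CT x := by
  have hpar := D.parity
  have hA : D.fx D.w = D.q + 1 := by
    rcases hpar with h | h
    · exact absurd h.1 hne
    · exact h.1
  have hB : D.fx (D.t0 * D.w) = D.q + 1 := by
    rcases hpar with h | h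
    · exact absurd h.1 hne
    · exact h.2
  have hw : D.CT D.w := by
    rcases D.fx_eq D.w D.w_mul_w D.w_ne_one with h | ⟨-, h⟩
    · exact absurd h hne
    · exact h
  have htw : D.CT (D.t0 * D.w) := by
    have h2 : D.t0 * D.w * (D.t0 * D.w) = 1 := by
      have e : D.t0 * D.w * (D.t0 * D.w) = D.t0 * (D.w * D.t0) * D.w := by group
      rw [e, D.w_comm_t0]
      have e' : D.t0 * (D.t0 * D.w) * D.w = (D.t0 * D.t0) * (D.w * D.w) := by group
      rw [e', D.t0_sq, D.w_mul_w, one_mul]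
    rcases D.fx_eq (D.t0 * D.w) h2 D.S0_ne_t0_w with h | ⟨-, h⟩
    · rw [h] at hB
      omega
    · exact h
  have hvb : D.CT D.vb := by
    rw [← D.gam_w]
    exact D.CT_conj hw _
  have hwvb : D.CT (D.w * D.vb) := by
    rw [← D.gam_vb]
    exact D.CT_conj hvb _
  have htvb : D.CT (D.t0 * D.vb) := by
    have : D.t0 * D.vb = D.gam * (D.t0 * D.w) * D.gam⁻¹ := by
      rw [← D.gam_w]
      nth_rewrite 1 [← D.gam_t0]
      group
    rw [this]
    exact D.CT_conj htw _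
  have htwvb : D.CT (D.t0 * (D.w * D.vb)) := by
    have : D.t0 * (D.w * D.vb) = D.gam * (D.t0 * D.vb) * D.gam⁻¹ := by
      rw [← D.gam_vb]
      nth_rewrite 1 [← D.gam_t0]
      group
    rw [this]
    exact D.CT_conj htvb _
  rcases D.S0_cases hx with rfl | rfl | rfl | rfl | rfl | rfl | rfl | rfl
  · exact absurd rfl h1
  · exact hw
  · exact hvb
  · exact hwvb
  · exact D.CT_t0
  · exact htw
  · exact htvb
  · exact htwvb

/-- The transfer excludes the isolated involution. -/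
theorem fx_w_ne [Finite G] (hm : 1 ≤ D.m) : D.fx D.w ≠ 0 := by
  intro h0
  have hpar := D.parity
  have hB : D.fx (D.t0 * D.w) = 0 := by
    rcases hpar with h | h
    · exact h.2
    · rw [h.1] at h0
      omega
  have hA : D.fx D.w = 0 := h0
  -- the other elements have no fixed points
  have e1 : D.fx D.vb = 0 := by rw [← D.gam_w, fx_conj, hA]
  have e2 : D.fx (D.w * D.vb) = 0 := by rw [← D.gam_vb, fx_conj, e1]
  have e3 : D.fx (D.t0 * D.vb) = 0 := by
    have : D.t0 * D.vb = D.gam * (D.t0 * D.w) * D.gam⁻¹ := by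
      rw [← D.gam_w]
      nth_rewrite 1 [← D.gam_t0]
      group
    rw [this, fx_conj, hB]
  have e4 : D.fx (D.t0 * (D.w * D.vb)) = 0 := by
    have : D.t0 * (D.w * D.vb) = D.gam * (D.t0 * D.vb) * D.gam⁻¹ := by
      rw [← D.gam_vb]
      nth_rewrite 1 [← D.gam_t0]
      group
    rw [this, fx_conj, e3]
  have key : ∀ s ∈ D.S0, D.CT s → s = D.t0 := by
    intro s hs hc
    have hf := D.fx_CT hc
    rcases D.S0_cases hs with rfl | rfl | rfl | rfl | rfl | rfl | rfl | rfl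
    · exact absurd rfl (D.CT_ne hc)
    · rw [hA] at hf
      omega
    · rw [e1] at hf
      omega
    · rw [e2] at hf
      omega
    · rfl
    · rw [hB] at hf
      omega
    · rw [e3] at hf
      omega
    · rw [e4] at hf
      omega
  let ϕ : ↥D.S0 →* E8 := (MonoidHom.ofInjective D.sHom_inj).symm.toMonoidHom
  have hϕ : ∀ (k : ℕ) (g₀ : G), g₀⁻¹ * D.t0 ^ k * g₀ ∈ D.S0 → g₀⁻¹ * D.t0 ^ k * g₀ = D.t0 ^ k := by
    intro k g₀ h
    rcases Nat.even_or_odd' k with ⟨c, rfl | rfl⟩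
    · rw [pow_mul, pow_two, D.t0_sq, one_pow]
      group
    · rw [pow_succ, pow_mul, pow_two, D.t0_sq, one_pow, one_mul] at h ⊢
      refine key _ h ⟨g₀⁻¹, ?_⟩
      group
  have h1 := MonoidHom.transfer_eq_pow ϕ D.t0 hϕ
  have h2 : ∀ g, MonoidHom.transfer ϕ g = 1 := by
    intro g
    have h3 : g ∈ commutator G := by
      rw [D.perfect hm]
      exact Subgroup.mem_top g
    have h4 : commutator G ≤ (MonoidHom.transfer ϕ).ker := by
      rw [commutator_def, Subgroup.commutator_le]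
      intro a _ b _
      rw [MonoidHom.mem_ker, map_commutatorElement, commutatorElement_eq_one_iff_mul_comm, mul_comm]
    exact h4 h3
  rw [h2] at h1
  obtain ⟨n, hn, h3⟩ := D.card_G_eq
  have h4 := Subgroup.card_mul_index D.S0
  rw [card_S0, h3] at h4
  have h5 : D.S0.index = n := by omega
  have h6 : D.t0 ^ D.S0.index = D.t0 := by
    rw [h5]
    obtain ⟨c, rfl⟩ := hn
    rw [pow_succ, pow_mul, pow_two, D.t0_sq, one_pow, one_mul]
  have h7 : (⟨D.t0 ^ D.S0.index, MonoidHom.transfer_eq_pow_aux D.t0 hϕ⟩ : ↥D.S0) = ⟨D.t0, D.t0_mem_S0⟩ :=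
    Subtype.ext h6
  rw [h7] at h1
  have h8 : (⟨D.t0, D.t0_mem_S0⟩ : ↥D.S0) = 1 := (MonoidHom.ofInjective D.sHom_inj).symm.injective (by
    have : ϕ 1 = 1 := map_one _
    exact h1.symm.trans this.symm)
  exact D.t0_ne (congrArg Subtype.val h8)

/-- All involutions are conjugate to the torus involution. -/
theorem inv_CT [Finite G] (hm : 1 ≤ D.m) {x : G} (hx : x * x = 1) (h1 : x ≠ 1) : D.CT x := by
  haveI : Fact (Nat.Prime 2) := ⟨Nat.prime_two⟩
  have hP : IsPGroup 2 (Subgroup.zpowers x) := by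
    apply IsPGroup.of_card (n := 1)
    rw [Nat.card_zpowers]
    have : orderOf x = 2 := orderOf_eq_prime (by rw [pow_two]; exact hx) h1
    rw [this, pow_one]
  obtain ⟨Q, hQ⟩ := hP.exists_le_sylow
  obtain ⟨S₀, hS₀⟩ := D.exists_sylow_S0
  obtain ⟨g, rfl⟩ := MulAction.exists_smul_eq G S₀ Q
  have h2 : x ∈ ((g • S₀ : Sylow 2 G) : Subgroup G) := hQ (Subgroup.mem_zpowers x)
  rw [Sylow.coe_subgroup_smul, Subgroup.mem_pointwise_smul_iff_inv_smul_mem, hS₀, ← map_inv,
    MulAut.smul_def, map_inv, MulAut.conj_inv_apply] at h2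
  have h3 := D.fx_S0 (D.fx_w_ne hm) h2 (by
    intro h4
    apply h1
    have e : x = g * (g⁻¹ * x * g) * g⁻¹ := by group
    rw [e, h4]
    group)
  have h4 := D.CT_conj h3 g
  have e : g * (g⁻¹ * x * g) * g⁻¹ = x := by group
  rwa [e] at h4

end Dat

end Cfsg.Agent.Lib.Ree.Abs
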