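import Cfsg.Agent.Lib.Ree.Abs5

/-!
# The abstract Ree group: the Sylow two-subgroups and their normalisers
-/

set_option autoImplicit false
set_option linter.unusedSectionVars false
set_option linter.unusedSimpArgs false
set_option linter.unnecessarySeqFocus false

namespace Cfsg.Agent.Lib.Ree.Abs

open Matrix Cfsg.Agent.Lib.Ree.Sigma Cfsg.Agent.Lib.Ree.Words Cfsg.Agent.Lib.Ree.Psi
open scoped MatrixGroups Pointwise

/-- The orbit stabiliser theorem for conjugation. -/
theorem card_conj_orbit {Γ : Type*} [_root_.Group Γ] [Finite Γ] (N : Subgroup Γ) (x : Γ) (X : Set Γ)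
    (hX : ∀ y, y ∈ X ↔ ∃ n ∈ N, y = n * x * n⁻¹) :
    Nat.card N = Nat.card X * Nat.card ↥(N ⊓ Subgroup.centralizer {x}) := by
  letI : MulAction ↥N Γ :=
    { smul := fun n y => n.1 * y * n.1⁻¹
      one_smul := fun y => by
        show (1 : Γ) * y * (1 : Γ)⁻¹ = y
        group
      mul_smul := fun a b y => by
        show a.1 * b.1 * y * (a.1 * b.1)⁻¹ = a.1 * (b.1 * y * b.1⁻¹) * a.1⁻¹
        group }
  have hsm : ∀ (n : ↥N) (y : Γ), n • y = n.1 * y * n.1⁻¹ := fun _ _ => rfl
  have h1 := MulAction.index_stabilizer ↥N x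
  have h2 := Subgroup.card_mul_index (MulAction.stabilizer ↥N x)
  have h3 : MulAction.orbit ↥N x = X := by
    ext y
    rw [hX, MulAction.mem_orbit_iff]
    constructor
    · rintro ⟨n, rfl⟩
      exact ⟨n.1, n.2, rfl⟩
    · rintro ⟨n, hn, rfl⟩
      exact ⟨⟨n, hn⟩, rfl⟩
  have h4 : Nat.card ↥(MulAction.stabilizer ↥N x) = Nat.card ↥(N ⊓ Subgroup.centralizer {x}) := by
    apply Nat.card_congr
    refine
      { toFun := fun s => ⟨s.1.1, s.1.2, ?_⟩
        invFun := fun s => ⟨⟨s.1, s.2.1⟩, ?_⟩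
        left_inv := fun s => rfl
        right_inv := fun s => rfl }
    · show s.1.1 ∈ Subgroup.centralizer {x}
      rw [Subgroup.mem_centralizer_singleton_iff]
      have h5 : s.1 • x = x := s.2
      rw [hsm] at h5
      calc s.1.1 * x = (s.1.1 * x * s.1.1⁻¹) * s.1.1 := by group
        _ = x * s.1.1 := by rw [h5]
    · have h5 := Subgroup.mem_centralizer_singleton_iff.1 s.2.2
      show (⟨s.1, s.2.1⟩ : ↥N) • x = x
      rw [hsm]
      show s.1 * x * s.1⁻¹ = x
      rw [h5]
      group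
  rw [← h2, h4, h1, h3, Nat.card_coe_set_eq]
  ring

theorem mem_normalizer_of_conj_mem {Γ : Type*} [_root_.Group Γ] [Finite Γ] (H : Subgroup Γ) (g : Γ)
    (h : ∀ x ∈ H, g * x * g⁻¹ ∈ H) : g ∈ Subgroup.normalizer (H : Set Γ) := by
  let F : ↥H → ↥H := fun x => ⟨g * x.1 * g⁻¹, h x.1 x.2⟩
  have hF : Function.Injective F := by
    intro a b hab
    have h1 : g * a.1 * g⁻¹ = g * b.1 * g⁻¹ := congrArg Subtype.val hab
    exact Subtype.ext (mul_left_cancel (mul_right_cancel h1))
  have hS : Function.Surjective F := Finite.surjective_of_injective hF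
  rw [Subgroup.mem_normalizer_iff]
  intro x
  constructor
  · exact h x
  · intro hx
    obtain ⟨y, hy⟩ := hS ⟨g * x * g⁻¹, hx⟩
    have h1 : g * y.1 * g⁻¹ = g * x * g⁻¹ := congrArg Subtype.val hy
    have h2 : y.1 = x := mul_left_cancel (mul_right_cancel h1)
    rw [← h2]
    exact y.2

namespace Dat

variable {K G : Type*} [Field K] [Fintype K] [CharP K 3] [_root_.Group G] (D : Dat K G)

/-- The elements of `SL₂` commuting up to sign with the quaternion generators. -/
theorem psi_comm_form {g : SL(2, K)} (h1 : D.psi g * D.w = D.w * D.psi g) (h2 : D.psi g * D.vb = D.vb * D.psi g) :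
    D.psi g ∈ D.S0 := by
  have h3 : (3 : K) = 0 := three_eq_zero
  obtain ⟨j1, j2, j3, j4⟩ := jj_apply (K := K)
  obtain ⟨g1, g2, g3, g4⟩ := g0_apply (K := K)
  obtain ⟨n1, n2, n3, n4⟩ := nI_apply (K := K)
  have hd := sl_det g
  have hA : D.psi (g * g0) = D.psi (g0 * g) := by
    rw [map_mul, map_mul, psi_g0, h1]
  have hB : D.psi (g * jj) = D.psi (jj * g) := by
    rw [map_mul, map_mul]
    exact h2
  have hcase : ∀ c : K, c * c = 1 → c = 1 ∨ c = -1 := by
    intro c hc
    have : (c - 1) * (c + 1) = 0 := by linear_combination hc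
    rcases mul_eq_zero.1 this with h | h
    · exact Or.inl (sub_eq_zero.1 h)
    · exact Or.inr (eq_neg_of_add_eq_zero_left h)
  have hcomm : ∀ (g' : SL(2, K)), g = g' ∨ g = nI * g' → D.psi g = D.psi g' := by
    intro g' h
    exact D.psi_eq_iff.2 h
  rcases D.psi_eq_iff.1 hA with hA' | hA' <;> rcases D.psi_eq_iff.1 hB with hB' | hB'
  · -- both commute
    have a00 := congrArg (fun m : SL(2, K) => m 0 0) hA'
    have a01 := congrArg (fun m : SL(2, K) => m 0 1) hA'
    have b00 := congrArg (fun m : SL(2, K) => m 0 0) hB'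
    simp only [sl_mul_apply, g1, g2, g3, g4, j1, j2, j3, j4] at a00 a01 b00
    have hb : g 0 1 = 0 := by grind
    have hc : g 1 0 = 0 := by grind
    have ha : g 0 0 = g 1 1 := by grind
    rw [D.psi_eq_one_of hb hc ha]
    exact Subgroup.one_mem _
  · have a00 := congrArg (fun m : SL(2, K) => m 0 0) hA'
    have a01 := congrArg (fun m : SL(2, K) => m 0 1) hA'
    have b01 := congrArg (fun m : SL(2, K) => m 0 1) hB'
    simp only [sl_mul_apply, g1, g2, g3, g4, j1, j2, j3, j4, n1, n2, n3, n4] at a00 a01 b01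
    have ha : g 0 0 = 0 := by grind
    have hd' : g 1 1 = 0 := by grind
    have hc : g 1 0 = - g 0 1 := by grind
    have hbb : g 0 1 * g 0 1 = 1 := by
      rw [ha, hc] at hd
      linear_combination hd
    rw [hcomm g0 ?_, psi_g0]
    · exact D.w_mem_S0
    · rcases hcase _ hbb with h | h
      · left
        apply sl_ext <;> simp [g1, g2, g3, g4, ha, hd', hc, h]
      · right
        apply sl_ext <;> rw [nI_mul] <;> simp [g1, g2, g3, g4, ha, hd', hc, h]
  · have a00 := congrArg (fun m : SL(2, K) => m 0 0) hA'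
    have a01 := congrArg (fun m : SL(2, K) => m 0 1) hA'
    have b00 := congrArg (fun m : SL(2, K) => m 0 0) hB'
    have b01 := congrArg (fun m : SL(2, K) => m 0 1) hB'
    simp only [sl_mul_apply, g1, g2, g3, g4, j1, j2, j3, j4, n1, n2, n3, n4] at a00 a01 b00 b01
    have hb : g 0 1 = g 0 0 := by grind
    have hc : g 1 0 = g 0 0 := by grind
    have hd' : g 1 1 = - g 0 0 := by grind
    have haa : g 0 0 * g 0 0 = 1 := by
      rw [hb, hc, hd'] at hd
      linear_combination hd + (g 0 0 * g 0 0) * h3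
    have e : D.psi g = D.vb := by
      rw [vb]
      apply hcomm jj
      rcases hcase _ haa with h | h
      · left
        apply sl_ext <;> simp [j1, j2, j3, j4, hb, hc, hd', h]
      · right
        apply sl_ext <;> rw [nI_mul] <;> simp [j1, j2, j3, j4, hb, hc, hd', h]
    rw [e]
    exact D.vb_mem_S0
  · have a00 := congrArg (fun m : SL(2, K) => m 0 0) hA'
    have a01 := congrArg (fun m : SL(2, K) => m 0 1) hA'
    have b00 := congrArg (fun m : SL(2, K) => m 0 0) hB'
    simp only [sl_mul_apply, g1, g2, g3, g4, j1, j2, j3, j4, n1, n2, n3, n4] at a00 a01 b00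
    have hb : g 0 1 = - g 0 0 := by grind
    have hc : g 1 0 = - g 0 0 := by grind
    have hd' : g 1 1 = - g 0 0 := by grind
    have haa : g 0 0 * g 0 0 = 1 := by
      rw [hb, hc, hd'] at hd
      linear_combination hd + (g 0 0 * g 0 0) * h3
    have e : D.psi g = D.w * D.vb := by
      rw [vb, ← psi_g0, ← map_mul]
      apply hcomm (g0 * jj)
      rcases hcase _ haa with h | h
      · left
        apply sl_ext <;> simp only [sl_mul_apply, g1, g2, g3, g4, j1, j2, j3, j4, hb, hc, hd', h] <;> ring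
      · right
        apply sl_ext <;> rw [nI_mul] <;>
          simp only [sl_mul_apply, g1, g2, g3, g4, j1, j2, j3, j4, hb, hc, hd', h] <;> ring
    rw [e]
    exact Subgroup.mul_mem _ D.w_mem_S0 D.vb_mem_S0

/-- The centraliser of the three generators. -/
theorem cent_gens {x : G} (h0 : x * D.t0 = D.t0 * x) (h1 : x * D.w = D.w * x) (h2 : x * D.vb = D.vb * x) :
    x ∈ D.S0 := by
  obtain ⟨g, rfl | rfl⟩ := D.cent_t0_form h0.symm
  · exact D.psi_comm_form h1 h2
  · have hc1 : D.t0 * D.w = D.w * D.t0 := D.w_comm_t0.symm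
    have hc2 : D.t0 * D.vb = D.vb * D.t0 := D.t0_comm_vb
    have h3 : D.psi g * D.w = D.w * D.psi g := by
      apply mul_left_cancel (a := D.t0)
      calc D.t0 * (D.psi g * D.w) = D.t0 * D.psi g * D.w := by group
        _ = D.w * (D.t0 * D.psi g) := h1
        _ = (D.w * D.t0) * D.psi g := by group
        _ = (D.t0 * D.w) * D.psi g := by rw [hc1]
        _ = _ := by group
    have h4 : D.psi g * D.vb = D.vb * D.psi g := by
      apply mul_left_cancel (a := D.t0)
      calc D.t0 * (D.psi g * D.vb) = D.t0 * D.psi g * D.vb := by group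
        _ = D.vb * (D.t0 * D.psi g) := h2
        _ = (D.vb * D.t0) * D.psi g := by group
        _ = (D.t0 * D.vb) * D.psi g := by rw [hc2]
        _ = _ := by group
    exact Subgroup.mul_mem _ D.t0_mem_S0 (D.psi_comm_form h3 h4)

theorem cent_S0 : Subgroup.centralizer (D.S0 : Set G) = D.S0 := by
  apply le_antisymm
  · intro x hx
    have hc : ∀ y ∈ D.S0, x * y = y * x := by
      intro y hy
      exact (Subgroup.mem_centralizer_iff.1 hx y hy).symm
    exact D.cent_gens (hc _ D.t0_mem_S0) (hc _ D.w_mem_S0) (hc _ D.vb_mem_S0)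
  · intro x hx
    rw [Subgroup.mem_centralizer_iff]
    intro y hy
    exact D.S0_comm hy hx

theorem gam_comm_t0 : D.gam * D.t0 = D.t0 * D.gam := (D.t0_comm_psi _).symm

theorem gam_mem_normalizer [Finite G] : D.gam ∈ Subgroup.normalizer (D.S0 : Set G) := by
  apply mem_normalizer_of_conj_mem
  intro x hx
  have hw := D.gam_w
  have hv := D.gam_vb
  have hwv := D.gam_wvb
  have ht := D.gam_t0
  have hm : ∀ a b : G, D.gam * (a * b) * D.gam⁻¹ = (D.gam * a * D.gam⁻¹) * (D.gam * b * D.gam⁻¹) := by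
    intro a b
    group
  have hvb := D.vb_mem_S0
  have hwm := D.w_mem_S0
  have htm := D.t0_mem_S0
  rcases D.S0_cases hx with rfl | rfl | rfl | rfl | rfl | rfl | rfl | rfl
  · simp
  · rw [hw]
    exact hvb
  · rw [hv]
    exact Subgroup.mul_mem _ hwm hvb
  · rw [hwv]
    exact hwm
  · rw [ht]
    exact htm
  · rw [hm, ht, hw]
    exact Subgroup.mul_mem _ htm hvb
  · rw [hm, ht, hv]
    exact Subgroup.mul_mem _ htm (Subgroup.mul_mem _ hwm hvb)
  · rw [hm, ht, hwv]
    exact Subgroup.mul_mem _ htm hwm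

/-- The normaliser is transitive on the involutions. -/
theorem normalizer_trans [Finite G] (hm : 1 ≤ D.m) {x : G} (hx : x ∈ D.S0) (h1 : x ≠ 1) :
    ∃ n ∈ Subgroup.normalizer (D.S0 : Set G), x = n * D.t0 * n⁻¹ := by
  haveI : Fact (Nat.Prime 2) := ⟨Nat.prime_two⟩
  obtain ⟨S, hS⟩ := D.exists_sylow_S0
  haveI : IsMulCommutative ↥(S : Subgroup G) := ⟨⟨fun a b => Subtype.ext (by
    have h2 := D.S0_comm (x := a.1) (y := b.1) (by rw [← hS]; exact a.2) (by rw [← hS]; exact b.2)
    exact h2)⟩⟩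
  obtain ⟨c, hc⟩ := D.fx_S0 (D.fx_w_ne hm) hx h1
  have ht : D.t0 ∈ (S : Subgroup G) := by
    rw [hS]
    exact D.t0_mem_S0
  have hy : c⁻¹⁻¹ * D.t0 * c⁻¹ ∈ S := by
    have : x ∈ (S : Subgroup G) := by
      rw [hS]
      exact hx
    rw [inv_inv, ← hc]
    exact this
  obtain ⟨n, hn, h2⟩ := Sylow.conj_eq_normalizer_conj_of_mem S D.t0 c⁻¹ ht hy
  rw [inv_inv, ← hc] at h2
  refine ⟨n⁻¹, ?_, ?_⟩
  · have hn' : n ∈ Subgroup.normalizer ((S : Subgroup G) : Set G) := hn
    rw [hS] at hn'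
    exact Subgroup.inv_mem _ hn'
  · rw [h2]
    group

/-- The involutions of the Klein group in the image of `psi`. -/
def Y3 : Set G := {D.w, D.vb, D.w * D.vb}

theorem w_ne_vb : D.w ≠ D.vb := by
  intro h
  have h1 : D.sHom (1, Multiplicative.ofAdd 1, 1) = D.sHom (1, 1, Multiplicative.ofAdd 1) := by
    simp only [sHom_apply, z2Hom_one, z2Hom_t, one_mul, mul_one]
    exact h
  have h2 := D.sHom_inj h1
  revert h2
  decide

theorem w_ne_wvb : D.w ≠ D.w * D.vb := by
  intro h
  have h1 : D.sHom (1, Multiplicative.ofAdd 1, 1) = D.sHom (1, Multiplicative.ofAdd 1, Multiplicative.ofAdd 1) := by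
    simp only [sHom_apply, z2Hom_one, z2Hom_t, one_mul, mul_one]
    exact h
  have h2 := D.sHom_inj h1
  revert h2
  decide

theorem vb_ne_wvb : D.vb ≠ D.w * D.vb := by
  intro h
  have h1 : D.sHom (1, 1, Multiplicative.ofAdd 1) = D.sHom (1, Multiplicative.ofAdd 1, Multiplicative.ofAdd 1) := by
    simp only [sHom_apply, z2Hom_one, z2Hom_t, one_mul, mul_one]
    exact h
  have h2 := D.sHom_inj h1
  revert h2
  decide

theorem card_Y3 : Nat.card D.Y3 = 3 := by
  have h1 : D.w ∉ ({D.vb, D.w * D.vb} : Set G) := by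
    rintro (h | h)
    · exact D.w_ne_vb h
    · exact D.w_ne_wvb h
  rw [Nat.card_coe_set_eq, Y3, Set.ncard_insert_of_notMem h1 (Set.toFinite _), Set.ncard_pair D.vb_ne_wvb]

/-- Elements centralising the involution permute the Klein group. -/
theorem conj_mem_Y3 {n y : G} (hn : n ∈ Subgroup.normalizer (D.S0 : Set G)) (hn0 : n * D.t0 = D.t0 * n)
    (hy : y ∈ D.Y3) : n * y * n⁻¹ ∈ D.Y3 := by
  have hyS : y ∈ D.S0 := by
    rcases hy with rfl | rfl | rfl
    · exact D.w_mem_S0
    · exact D.vb_mem_S0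
    · exact Subgroup.mul_mem _ D.w_mem_S0 D.vb_mem_S0
  have hy1 : y ≠ 1 := by
    rcases hy with rfl | rfl | rfl
    · exact D.w_ne_one
    · intro h
      apply D.w_ne_vb
      have := D.w_ne_wvb
      rw [h, mul_one] at this
      exact absurd rfl this
    · intro h
      apply D.w_ne_vb
      exact eq_inv_of_mul_eq_one_left h |>.trans (inv_eq_of_mul_eq_one_left D.vb_sq)
  obtain ⟨g, hg⟩ : ∃ g, y = D.psi g := by
    rcases hy with rfl | rfl | rfl
    · exact ⟨g0, D.psi_g0.symm⟩
    · exact ⟨jj, rfl⟩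
    · exact ⟨g0 * jj, by rw [map_mul, psi_g0]; rfl⟩
  obtain ⟨g', hg'⟩ : ∃ g', n * y * n⁻¹ = D.psi g' := by
    obtain ⟨c, hc | hc⟩ := D.cent_t0_form hn0.symm
    · exact ⟨c * g * c⁻¹, by rw [hg, hc, map_mul, map_mul, map_inv]⟩
    · refine ⟨c * g * c⁻¹, ?_⟩
      rw [hg, hc, map_mul, map_mul, map_inv]
      have h1 := D.t0_comm_psi c
      have h2 := D.t0_comm_psi g
      have e : D.t0 * D.psi c * D.psi g * (D.t0 * D.psi c)⁻¹ = D.t0 * (D.psi c * D.psi g * (D.psi c)⁻¹) * D.t0⁻¹ := by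
        group
      rw [e, D.t0_inv]
      have h3 : (D.psi c * D.psi g * (D.psi c)⁻¹) = D.psi (c * g * c⁻¹) := by
        rw [map_mul, map_mul, map_inv]
      rw [h3, D.t0_comm_psi, mul_assoc, D.t0_sq, mul_one, map_mul, map_mul, map_inv]
  have hmem : n * y * n⁻¹ ∈ D.S0 := (Subgroup.mem_normalizer_iff.1 hn y).1 hyS
  have hne : n * y * n⁻¹ ≠ 1 := by
    intro h
    apply hy1
    have e : y = n⁻¹ * (n * y * n⁻¹) * n := by group
    rw [e, h]
    group
  have hnt : ∀ c, n * y * n⁻¹ = D.t0 * D.psi c → False := by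
    intro c hc
    rw [hc] at hg'
    apply D.t0_not_mem (g' * c⁻¹)
    rw [map_mul, map_inv, ← hg']
    group
  rcases D.S0_cases hmem with h | h | h | h | h | h | h | h
  · exact absurd h hne
  · exact Or.inl h
  · exact Or.inr (Or.inl h)
  · exact Or.inr (Or.inr h)
  · exfalso
    apply D.t0_not_mem g'
    exact hg'.symm.trans h
  · exfalso
    exact hnt g0 (by rw [h, psi_g0])
  · exfalso
    exact hnt jj h
  · exfalso
    exact hnt (g0 * jj) (by rw [h, map_mul, psi_g0]; rfl)

/-- The main computation of the order of the normaliser. -/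
theorem card_normalizer_S0 [Finite G] (hm : 1 ≤ D.m) : Nat.card (Subgroup.normalizer (D.S0 : Set G)) = 168 := by
  set N := Subgroup.normalizer (D.S0 : Set G) with hN
  set M := N ⊓ Subgroup.centralizer {D.t0} with hM
  have hSN : ∀ x ∈ D.S0, x ∈ N := by
    intro x hx
    apply mem_normalizer_of_conj_mem
    intro y hy
    rw [D.S0_comm hx hy]
    simpa using hy
  have hcomm : ∀ {n : G}, n ∈ M → n * D.t0 = D.t0 * n := fun {n} hn =>
    Subgroup.mem_centralizer_singleton_iff.1 hn.2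
  -- the orbit of the involution
  have h7 : Nat.card ↥{x : G | x ∈ D.S0 ∧ x ≠ 1} = 7 := by
    classical
    have h1 : Nat.card ↥{x : G | x ∈ D.S0 ∧ x ≠ 1} = Nat.card ↥D.S0 - 1 := by
      have e : ↥{x : G | x ∈ D.S0 ∧ x ≠ 1} ≃ {y : ↥D.S0 // y ≠ 1} :=
        { toFun := fun x => ⟨⟨x.1, x.2.1⟩, fun h => x.2.2 (congrArg Subtype.val h)⟩
          invFun := fun y => ⟨y.1.1, y.1.2, fun h => y.2 (Subtype.ext h)⟩
          left_inv := fun x => rfl
          right_inv := fun y => rfl }
      rw [Nat.card_congr e]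
      haveI : Fintype ↥D.S0 := Fintype.ofFinite _
      rw [Nat.card_eq_fintype_card, Nat.card_eq_fintype_card, Fintype.card_subtype_compl]
      simp
    rw [h1, card_S0]
  have h8 := card_conj_orbit N D.t0 {x : G | x ∈ D.S0 ∧ x ≠ 1} (by
    intro y
    constructor
    · rintro ⟨hy, hy1⟩
      exact D.normalizer_trans hm hy hy1
    · rintro ⟨n, hn, rfl⟩
      refine ⟨(Subgroup.mem_normalizer_iff.1 hn D.t0).1 D.t0_mem_S0, ?_⟩
      intro h
      apply D.t0_ne
      have e : D.t0 = n⁻¹ * (n * D.t0 * n⁻¹) * n := by group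
      rw [e, h]
      group)
  rw [h7] at h8
  -- the orbit of the Klein group
  have hgam : D.gam ∈ M := ⟨D.gam_mem_normalizer, Subgroup.mem_centralizer_singleton_iff.2 D.gam_comm_t0⟩
  have h9 := card_conj_orbit M D.w D.Y3 (by
    intro y
    constructor
    · rintro (rfl | rfl | rfl)
      · exact ⟨1, Subgroup.one_mem _, by group⟩
      · exact ⟨D.gam, hgam, D.gam_w.symm⟩
      · refine ⟨D.gam * D.gam, Subgroup.mul_mem _ hgam hgam, ?_⟩
        have e : D.gam * D.gam * D.w * (D.gam * D.gam)⁻¹ = D.gam * (D.gam * D.w * D.gam⁻¹) * D.gam⁻¹ := by group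
        rw [e, D.gam_w, D.gam_vb]
    · rintro ⟨n, hn, rfl⟩
      exact D.conj_mem_Y3 hn.1 (hcomm hn) (Or.inl rfl))
  rw [D.card_Y3] at h9
  -- the last step
  set M2 := M ⊓ Subgroup.centralizer {D.w} with hM2
  have hM2S : M2 ⊓ Subgroup.centralizer {D.vb} = D.S0 := by
    apply le_antisymm
    · rintro x ⟨⟨⟨-, h0⟩, h1⟩, h2⟩
      exact D.cent_gens (Subgroup.mem_centralizer_singleton_iff.1 h0) (Subgroup.mem_centralizer_singleton_iff.1 h1)
        (Subgroup.mem_centralizer_singleton_iff.1 h2)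
    · intro x hx
      exact ⟨⟨⟨hSN x hx, Subgroup.mem_centralizer_singleton_iff.2 (D.S0_comm hx D.t0_mem_S0)⟩,
        Subgroup.mem_centralizer_singleton_iff.2 (D.S0_comm hx D.w_mem_S0)⟩,
        Subgroup.mem_centralizer_singleton_iff.2 (D.S0_comm hx D.vb_mem_S0)⟩
  have h10 := card_conj_orbit M2 D.vb {y : G | ∃ n ∈ M2, y = n * D.vb * n⁻¹} (fun y => Iff.rfl)
  rw [hM2S, card_S0] at h10
  have hX2 : {y : G | ∃ n ∈ M2, y = n * D.vb * n⁻¹} ⊆ ({D.vb, D.w * D.vb} : Set G) := by
    rintro y ⟨n, hn, rfl⟩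
    have h11 := D.conj_mem_Y3 hn.1.1 (hcomm hn.1) (Or.inr (Or.inl rfl))
    rcases h11 with h12 | h12 | h12
    · exfalso
      apply D.w_ne_vb
      have h13 : n * D.w * n⁻¹ = D.w := by
        rw [Subgroup.mem_centralizer_singleton_iff.1 hn.2]
        group
      have h14 : n * D.vb * n⁻¹ = n * D.w * n⁻¹ := by rw [h12, h13]
      exact (mul_left_cancel (mul_right_cancel h14)).symm
    · exact Or.inl h12
    · exact Or.inr h12
  have hcard2 : Nat.card ↥{y : G | ∃ n ∈ M2, y = n * D.vb * n⁻¹} ≤ 2 := by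
    rw [Nat.card_coe_set_eq]
    calc _ ≤ Set.ncard ({D.vb, D.w * D.vb} : Set G) := Set.ncard_le_ncard hX2 (Set.toFinite _)
      _ ≤ 2 := by
        have := Set.ncard_insert_le D.vb ({D.w * D.vb} : Set G)
        rwa [Set.ncard_singleton] at this
  have hcard1 : 0 < Nat.card ↥{y : G | ∃ n ∈ M2, y = n * D.vb * n⁻¹} := by
    rw [Nat.card_pos_iff]
    exact ⟨⟨⟨D.vb, 1, Subgroup.one_mem _, by group⟩⟩, inferInstance⟩
  have hM2card : Nat.card M2 = 8 := by
    have h11 : Nat.card ↥{y : G | ∃ n ∈ M2, y = n * D.vb * n⁻¹} = 1 := by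
      by_contra h12
      have h13 : Nat.card ↥{y : G | ∃ n ∈ M2, y = n * D.vb * n⁻¹} = 2 := by omega
      rw [h13] at h10
      obtain ⟨n, hn, h14⟩ := D.card_G_eq
      have h15 := Subgroup.card_subgroup_dvd_card M2
      rw [h10, h14] at h15
      have h16 : 2 ∣ n := by
        have : 8 * 2 ∣ 8 * n := h15
        exact (Nat.mul_dvd_mul_iff_left (by norm_num)).1 this
      exact (Nat.not_even_iff_odd.2 hn) (even_iff_two_dvd.2 h16)
    rw [h10, h11]
  rw [h8, h9, hM2card]

end Dat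

theorem mem_map_conj {Γ : Type*} [_root_.Group Γ] {H : Subgroup Γ} {g x : Γ} :
    x ∈ H.map (MulAut.conj g).toMonoidHom ↔ g⁻¹ * x * g ∈ H := by
  constructor
  · rintro ⟨y, hy, rfl⟩
    have e : g⁻¹ * ((MulAut.conj g).toMonoidHom y) * g = y := by
      show g⁻¹ * (g * y * g⁻¹) * g = y
      group
    rw [e]
    exact hy
  · intro h
    exact ⟨_, h, by
      show g * (g⁻¹ * x * g) * g⁻¹ = x
      group⟩

theorem card_map_conj {Γ : Type*} [_root_.Group Γ] (H : Subgroup Γ) (g : Γ) :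
    Nat.card (H.map (MulAut.conj g).toMonoidHom) = Nat.card H :=
  (Nat.card_congr (Subgroup.equivMapOfInjective H _ (MulAut.conj g).injective).toEquiv).symm

theorem normalizer_map_conj {Γ : Type*} [_root_.Group Γ] (H : Subgroup Γ) (g : Γ) :
    Subgroup.normalizer ((H.map (MulAut.conj g).toMonoidHom : Subgroup Γ) : Set Γ) =
      (Subgroup.normalizer (H : Set Γ)).map (MulAut.conj g).toMonoidHom :=
  (Subgroup.map_normalizer_eq_of_bijective H (f := (MulAut.conj g).toMonoidHom) (MulAut.conj g).bijective).symm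

theorem centralizer_map_conj {Γ : Type*} [_root_.Group Γ] (H : Subgroup Γ) (g : Γ) :
    Subgroup.centralizer ((H.map (MulAut.conj g).toMonoidHom : Subgroup Γ) : Set Γ) =
      (Subgroup.centralizer (H : Set Γ)).map (MulAut.conj g).toMonoidHom := by
  ext x
  rw [mem_map_conj, Subgroup.mem_centralizer_iff, Subgroup.mem_centralizer_iff]
  constructor
  · intro h y hy
    have h1 := h (g * y * g⁻¹) (mem_map_conj.2 (by
      have e : g⁻¹ * (g * y * g⁻¹) * g = y := by group
      rw [e]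
      exact hy))
    calc y * (g⁻¹ * x * g) = g⁻¹ * ((g * y * g⁻¹) * x) * g := by group
      _ = g⁻¹ * (x * (g * y * g⁻¹)) * g := by rw [h1]
      _ = _ := by group
  · intro h y hy
    have h1 := h _ (mem_map_conj.1 hy)
    calc y * x = g * ((g⁻¹ * y * g) * (g⁻¹ * x * g)) * g⁻¹ := by group
      _ = g * ((g⁻¹ * x * g) * (g⁻¹ * y * g)) * g⁻¹ := by rw [h1]
      _ = _ := by group

namespace Dat

variable {K G : Type*} [Field K] [Fintype K] [CharP K 3] [_root_.Group G] (D : Dat K G)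

include D in
/-- The centraliser and the normaliser of a Sylow two-subgroup. -/
theorem sylow_main [Finite G] (hm : 1 ≤ D.m) (S : Sylow 2 G) :
    Subgroup.centralizer ((S : Subgroup G) : Set G) = S ∧
      Nat.card (Subgroup.normalizer ((S : Subgroup G) : Set G)) = 168 := by
  haveI : Fact (Nat.Prime 2) := ⟨Nat.prime_two⟩
  obtain ⟨S₀, hS₀⟩ := D.exists_sylow_S0
  obtain ⟨g, rfl⟩ := MulAction.exists_smul_eq G S₀ S
  have hS : ((g • S₀ : Sylow 2 G) : Subgroup G) = D.S0.map (MulAut.conj g).toMonoidHom := by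
    rw [Sylow.coe_subgroup_smul, hS₀]
    rfl
  rw [hS]
  constructor
  · rw [centralizer_map_conj, D.cent_S0]
  · rw [normalizer_map_conj, card_map_conj, D.card_normalizer_S0 hm]

end Dat

end Cfsg.Agent.Lib.Ree.Abs
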