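import Cfsg.Agent.Lib.Ree.Abs6

/-!
# The abstract Ree group: the non-split torus of `SL₂`
-/

set_option autoImplicit false
set_option linter.unusedSectionVars false
set_option linter.unusedSimpArgs false
set_option linter.unnecessarySeqFocus false

namespace Cfsg.Agent.Lib.Ree.Abs

open Matrix Cfsg.Agent.Lib.Ree.Sigma Cfsg.Agent.Lib.Ree.Words Cfsg.Agent.Lib.Ree.Psi
open scoped MatrixGroups Pointwise

section SL

variable {K : Type*} [Field K] [Fintype K] [CharP K 3]

theorem sl_inv_apply (g : SL(2, K)) : g⁻¹ 0 0 = g 1 1 ∧ g⁻¹ 0 1 = -g 0 1 ∧ g⁻¹ 1 0 = -g 1 0 ∧ g⁻¹ 1 1 = g 0 0 := by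
  rw [Matrix.SpecialLinearGroup.SL2_inv_expl]
  simp

/-- The rotations in `SL₂`: the commutant of the right angle. -/
def T0 : Subgroup SL(2, K) where
  carrier := {g | g 1 1 = g 0 0 ∧ g 1 0 = - g 0 1}
  mul_mem' := by
    rintro g h ⟨h1, h2⟩ ⟨h3, h4⟩
    show (g * h) 1 1 = (g * h) 0 0 ∧ (g * h) 1 0 = - (g * h) 0 1
    simp only [sl_mul_apply, h1, h2, h3, h4]
    constructor <;> ring
  one_mem' := by
    show (1 : SL(2, K)) 1 1 = (1 : SL(2, K)) 0 0 ∧ (1 : SL(2, K)) 1 0 = - (1 : SL(2, K)) 0 1
    simp
  inv_mem' := by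
    rintro g ⟨h1, h2⟩
    obtain ⟨e1, e2, e3, e4⟩ := sl_inv_apply g
    show g⁻¹ 1 1 = g⁻¹ 0 0 ∧ g⁻¹ 1 0 = - g⁻¹ 0 1
    simp only [e1, e2, e3, e4, h1, h2, and_self]

theorem mem_T0 {g : SL(2, K)} : g ∈ T0 ↔ g 1 1 = g 0 0 ∧ g 1 0 = - g 0 1 := Iff.rfl

theorem T0_norm {g : SL(2, K)} (hg : g ∈ T0) : g 0 0 ^ 2 + g 0 1 ^ 2 = 1 := by
  have h := sl_det g
  rw [hg.1, hg.2] at h
  linear_combination h

/-- A rotation from its coordinates. -/
def rot (a b : K) (h : a ^ 2 + b ^ 2 = 1) : SL(2, K) :=
  ⟨!![a, b; -b, a], by rw [Matrix.det_fin_two_of]; linear_combination h⟩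

theorem rot_apply (a b : K) (h : a ^ 2 + b ^ 2 = 1) : (rot a b h) 0 0 = a ∧ (rot a b h) 0 1 = b ∧
    (rot a b h) 1 0 = -b ∧ (rot a b h) 1 1 = a := by
  simp [rot]

theorem rot_mem (a b : K) (h : a ^ 2 + b ^ 2 = 1) : rot a b h ∈ T0 := by
  obtain ⟨e1, e2, e3, e4⟩ := rot_apply a b h
  exact ⟨by rw [e4, e1], by rw [e3, e2]⟩

theorem g0_mem_T0 : (g0 : SL(2, K)) ∈ T0 := by
  obtain ⟨e1, e2, e3, e4⟩ := g0_apply (K := K)
  exact ⟨by rw [e4, e1], by rw [e3, e2]⟩

theorem T0_comm {g h : SL(2, K)} (hg : g ∈ T0) (hh : h ∈ T0) : g * h = h * g := by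
  apply sl_ext <;> simp only [sl_mul_apply, hg.1, hg.2, hh.1, hh.2] <;> ring

/-- Matrices commuting with a non-scalar rotation are rotations. -/
theorem mem_T0_of_comm {g c : SL(2, K)} (hg : g ∈ T0) (hb : g 0 1 ≠ 0) (hc : c * g = g * c) : c ∈ T0 := by
  have h00 := congrArg (fun x : SL(2, K) => x 0 0) hc
  have h01 := congrArg (fun x : SL(2, K) => x 0 1) hc
  simp only [sl_mul_apply, hg.1, hg.2] at h00 h01
  constructor
  · apply mul_left_cancel₀ hb
    linear_combination -h01
  · apply mul_left_cancel₀ hb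
    linear_combination -h00

/-- A matrix anti-commuting with a rotation forces the rotation to have zero trace. -/
theorem eq_zero_of_anti_comm {g c : SL(2, K)} (hg : g ∈ T0)
    (hc : c * g = Dat.nI * (g * c)) : g 0 0 = 0 := by
  have h3 : (3 : K) = 0 := three_eq_zero
  have h00 : (c * g) 0 0 = - (g * c) 0 0 := by rw [hc, Dat.nI_mul]
  have h01 : (c * g) 0 1 = - (g * c) 0 1 := by rw [hc, Dat.nI_mul]
  have h10 : (c * g) 1 0 = - (g * c) 1 0 := by rw [hc, Dat.nI_mul]
  have h11 : (c * g) 1 1 = - (g * c) 1 1 := by rw [hc, Dat.nI_mul]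
  simp only [sl_mul_apply, hg.1, hg.2] at h00 h01 h10 h11
  have hd := sl_det c
  have hn := T0_norm hg
  by_contra h0
  have h2ne : (2 : K) ≠ 0 := by
    intro h
    have : (1 : K) = 0 := by linear_combination h3 - h
    exact one_ne_zero this
  have h2 : (2 : K) * g 0 0 ≠ 0 := mul_ne_zero h2ne h0
  have t1 : c 0 0 = c 1 1 := by
    apply mul_left_cancel₀ h2
    linear_combination h00 - h11
  have t2 : c 1 0 = - c 0 1 := by
    apply mul_left_cancel₀ h2
    linear_combination h10 + h01
  rw [← t1, t2] at hd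
  have t3 : g 0 0 * c 0 0 = g 0 1 * c 0 1 := by
    apply mul_left_cancel₀ h2ne
    rw [t2] at h00
    linear_combination h00
  have t4 : g 0 0 * c 0 1 = - (g 0 1 * c 0 0) := by
    apply mul_left_cancel₀ h2ne
    rw [← t1] at h01
    linear_combination h01
  have e4 : c 0 0 = 0 := by
    have : (g 0 0 ^ 2 + g 0 1 ^ 2) * c 0 0 = 0 := by linear_combination g 0 0 * t3 + g 0 1 * t4
    rw [hn, one_mul] at this
    exact this
  have e6 : c 0 1 = 0 := by
    have : (g 0 0 ^ 2 + g 0 1 ^ 2) * c 0 1 = 0 := by linear_combination g 0 0 * t4 - g 0 1 * t3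
    rw [hn, one_mul] at this
    exact this
  rw [e4, e6] at hd
  simp at hd

end SL

namespace Dat

variable {K G : Type*} [Field K] [Fintype K] [CharP K 3] [_root_.Group G] (D : Dat K G)

include D in
theorem one_add_sq_ne (s : K) : 1 + s ^ 2 ≠ 0 := by
  intro h
  apply D.not_isSquare_neg_one
  exact ⟨s, by linear_combination -h⟩

/-- The bijection onto rotations. -/
theorem card_T0 : Nat.card (T0 : Subgroup SL(2, K)) = D.q + 1 := by
  classical
  have h3 : (3 : K) = 0 := D.three
  have hne := D.one_add_sq_ne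
  have hn : ∀ s : K, ((1 - s ^ 2) / (1 + s ^ 2)) ^ 2 + (2 * s / (1 + s ^ 2)) ^ 2 = 1 := by
    intro s
    have := hne s
    field_simp
    ring
  have hn0 : (-1 : K) ^ 2 + 0 ^ 2 = 1 := by ring
  let F : Option K → (T0 : Subgroup SL(2, K)) := fun o => match o with
    | none => ⟨rot (-1) 0 hn0, rot_mem _ _ _⟩
    | some s => ⟨rot _ _ (hn s), rot_mem _ _ _⟩
  have hF : Function.Bijective F := by
    constructor
    · have key : ∀ s : K, (1 - s ^ 2) / (1 + s ^ 2) ≠ -1 := by
        intro s hs
        have := hne s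
        field_simp at hs
        have h2 : (2 : K) = 0 := by linear_combination hs
        have : (1 : K) = 0 := by linear_combination h3 - h2
        exact one_ne_zero this
      rintro (_ | s) (_ | s') h
      · rfl
      · exfalso
        have e := congrArg (fun x : (T0 : Subgroup SL(2, K)) => x.1 0 0) h
        simp only [F, (rot_apply _ _ _).1] at e
        exact key s' e.symm
      · exfalso
        have e := congrArg (fun x : (T0 : Subgroup SL(2, K)) => x.1 0 0) h
        simp only [F, (rot_apply _ _ _).1] at e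
        exact key s e
      · have e1 := congrArg (fun x : (T0 : Subgroup SL(2, K)) => x.1 0 0) h
        have e2 := congrArg (fun x : (T0 : Subgroup SL(2, K)) => x.1 0 1) h
        simp only [F, (rot_apply _ _ _).1, (rot_apply _ _ _).2.1] at e1 e2
        have h1 := hne s
        have h2 := hne s'
        field_simp at e1 e2
        have h2ne : (2 : K) ≠ 0 := by
          intro h
          have : (1 : K) = 0 := by linear_combination h3 - h
          exact one_ne_zero this
        -- `1 + s² = 1 + s'²`
        have e3 : s ^ 2 = s' ^ 2 := by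
          have : 2 * (s ^ 2 - s' ^ 2) = 0 := by linear_combination -e1
          have := (mul_eq_zero.1 this).resolve_left h2ne
          linear_combination this
        have e4 : 2 * (s * (1 + s' ^ 2)) = 2 * (s' * (1 + s ^ 2)) := by linear_combination e2
        have e5 := mul_left_cancel₀ h2ne e4
        rw [← e3] at e5
        have := mul_right_cancel₀ h1 e5
        rw [this]
    · rintro ⟨g, hg⟩
      have hn1 := T0_norm hg
      by_cases ha : g 0 0 = -1
      · refine ⟨none, Subtype.ext ?_⟩
        have hb : g 0 1 = 0 := by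
          rw [ha] at hn1
          have : g 0 1 ^ 2 = 0 := by linear_combination hn1
          exact pow_eq_zero_iff (two_ne_zero) |>.1 this
        obtain ⟨e1, e2, e3, e4⟩ := rot_apply (-1 : K) 0 hn0
        apply sl_ext
        · rw [e1, ha]
        · rw [e2, hb]
        · rw [e3, hg.2, hb]
        · rw [e4, hg.1, ha]
      · have h1a : 1 + g 0 0 ≠ 0 := fun h => ha (by linear_combination h)
        refine ⟨some (g 0 1 / (1 + g 0 0)), Subtype.ext ?_⟩
        set s := g 0 1 / (1 + g 0 0) with hs
        have hb : g 0 1 = s * (1 + g 0 0) := by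
          rw [hs]
          field_simp
        have hns := hne s
        have key : (1 + s ^ 2) * (1 + g 0 0) = 2 := by
          have : (1 + g 0 0) * ((1 + s ^ 2) * (1 + g 0 0) - 2) = 0 := by
            have : (s * (1 + g 0 0)) ^ 2 = g 0 1 ^ 2 := by rw [← hb]
            linear_combination this + hn1
          have := (mul_eq_zero.1 this).resolve_left h1a
          linear_combination this
        obtain ⟨e1, e2, e3, e4⟩ := rot_apply _ _ (hn s)
        have ea : (1 - s ^ 2) / (1 + s ^ 2) = g 0 0 := by
          field_simp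
          linear_combination (-1 : K) * key + 0
        have eb : 2 * s / (1 + s ^ 2) = g 0 1 := by
          field_simp
          rw [hb]
          linear_combination (-s) * key
        apply sl_ext
        · rw [e1, ea]
        · rw [e2, eb]
        · rw [e3, eb, hg.2]
        · rw [e4, ea, hg.1]
  rw [← Nat.card_congr (Equiv.ofBijective F hF), Nat.card_eq_fintype_card, Fintype.card_option, D.card_K']

include D in
/-- The torus is cyclic. -/
theorem T0_cyclic : IsCyclic (T0 : Subgroup SL(2, K)) := by
  classical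
  have hfact : Fact (∀ r : K, r ^ 2 ≠ (-1 : K) + 0 * r) := ⟨fun r h => D.not_isSquare_neg_one ⟨r, by linear_combination -h⟩⟩
  let φ : (T0 : Subgroup SL(2, K)) →* QuadraticAlgebra K (-1) 0 :=
    { toFun := fun g => ⟨g.1 0 0, g.1 0 1⟩
      map_one' := by
        ext
        · simp
          rfl
        · simp
          rfl
      map_mul' := fun g h => by
        have hg := g.2
        have hh := h.2
        ext
        · simp only [Subgroup.coe_mul, sl_mul_apply, hg.2, QuadraticAlgebra.re_mul]
          rw [hh.2]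
          ring
        · simp only [Subgroup.coe_mul, sl_mul_apply, hg.2, QuadraticAlgebra.im_mul, hh.1, hg.1]
          ring }
  have : Finite (T0 : Subgroup SL(2, K)) := by
    haveI : Finite (SL(2, K)) := Finite.of_injective (fun g => g.1) Subtype.val_injective
    infer_instance
  refine isCyclic_of_subgroup_isDomain φ ?_
  intro g h e
  have e1 : g.1 0 0 = h.1 0 0 := congrArg QuadraticAlgebra.re e
  have e2 : g.1 0 1 = h.1 0 1 := congrArg QuadraticAlgebra.im e
  apply Subtype.ext
  apply sl_ext e1 e2
  · rw [g.2.2, h.2.2, e2]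
  · rw [g.2.1, h.2.1, e1]

include D in
/-- Every matrix can be conjugated to a triangular matrix or into the rotations. -/
theorem exists_conj_T0 (g : SL(2, K)) :
    (∃ P : SL(2, K), (P⁻¹ * g * P) 1 0 = 0) ∨ (∃ P : SL(2, K), P⁻¹ * g * P ∈ (T0 : Subgroup SL(2, K))) := by
  classical
  have h3 : (3 : K) = 0 := D.three
  have hne := D.one_add_sq_ne
  have hd := sl_det g
  by_cases hc : g 1 0 = 0
  · left
    exact ⟨1, by simpa using hc⟩
  set a := g 0 0 with ha
  set b := g 0 1 with hb
  set c := g 1 0 with hcdef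
  set e := g 1 1 with he
  set τ := a + e with hτ
  by_cases hs : IsSquare (τ ^ 2 - 1)
  · left
    obtain ⟨s, hs⟩ := hs
    -- the eigenvalue
    set l := - (τ + s) with hl
    have hl2 : l ^ 2 = τ * l - 1 := by
      rw [hl]
      have : s ^ 2 = τ ^ 2 - 1 := by linear_combination -hs
      have hk : l = - (τ + s) := hl
      clear_value l
      subst hk
      grind
    -- the eigenvector
    set x := l - e with hx
    have hN : x ^ 2 + c ^ 2 ≠ 0 := by
      intro h
      apply D.not_isSquare_neg_one
      refine ⟨x / c, ?_⟩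
      field_simp
      linear_combination -h
    have hdetP : !![x, -c / (x ^ 2 + c ^ 2); c, x / (x ^ 2 + c ^ 2)].det = 1 := by
      rw [Matrix.det_fin_two_of]
      field_simp
      ring
    let P : SL(2, K) := ⟨!![x, -c / (x ^ 2 + c ^ 2); c, x / (x ^ 2 + c ^ 2)], hdetP⟩
    have hP00 : P 0 0 = x := by simp [P]
    have hP10 : P 1 0 = c := by simp [P]
    have hP01 : P 0 1 = -c / (x ^ 2 + c ^ 2) := by simp [P]
    have hP11 : P 1 1 = x / (x ^ 2 + c ^ 2) := by simp [P]
    refine ⟨P, ?_⟩
    obtain ⟨e1, e2, e3, e4⟩ := sl_inv_apply P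
    simp only [sl_mul_apply, e1, e2, e3, e4, hP00, hP10, hP01, hP11]
    have h1 : a * x + b * c = l * x := by
      have : a * e - b * c = 1 := hd
      rw [hx]
      rw [hτ] at hl2
      linear_combination -this - hl2
    have h2 : c * x + e * c = l * c := by
      rw [hx]
      ring
    simp only [← ha, ← hb, ← hcdef, ← he]
    linear_combination (-c) * h1 + x * h2
  · right
    have hτ1 : τ ^ 2 - 1 ≠ 0 := by
      intro h
      exact hs ⟨0, by rw [h]; ring⟩
    have hsq := (D.sq_or_neg _ hτ1).resolve_left hs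
    obtain ⟨b', hb'⟩ := hsq
    have hb'0 : b' ≠ 0 := by
      rintro rfl
      apply hτ1
      linear_combination -hb'
    -- the target rotation
    have hn : (-τ) ^ 2 + b' ^ 2 = 1 := by linear_combination -hb'
    -- solve the quadratic form
    have hquad : ∃ S T : K, S ^ 2 + T ^ 2 = - (b' * c) := by
      have hodd : Fintype.card K % 2 = 1 := by
        rw [D.card_K']
        have := D.q_mod8
        omega
      obtain ⟨S, T, h⟩ := FiniteField.exists_root_sum_quadratic
        (f := Polynomial.X ^ 2 + Polynomial.C (b' * c)) (g := Polynomial.X ^ 2)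
        (Polynomial.degree_X_pow_add_C (by norm_num) _) (Polynomial.degree_X_pow _) hodd
      refine ⟨S, T, ?_⟩
      simp at h
      linear_combination h
    obtain ⟨S, T, hST⟩ := hquad
    set y := T / b' with hy
    set x := (S - (a - e) * y) / c with hx
    have hSx : c * x + (a - e) * y = S := by
      rw [hx]
      field_simp
      ring
    have hTy : b' * y = T := by
      rw [hy]
      field_simp
    clear_value x y τ a b c e
    -- the form
    have hQ : c * x ^ 2 + (e - a) * x * y - b * y ^ 2 = - b' := by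
      apply mul_left_cancel₀ hc
      have hST' : (c * x + (a - e) * y) ^ 2 + (b' * y) ^ 2 = -(b' * c) := by
        rw [hSx, hTy]
        exact hST
      have hb'' : -((a + e) ^ 2 - 1) = b' * b' := by rw [← hτ]; exact hb'
      have hd' : a * e - b * c = 1 := hd
      linear_combination hST' + (-c * (a - e) * x * y + a * e * y ^ 2) * h3 + y ^ 2 * hd' + y ^ 2 * hb''
    -- the second column
    have hx'y' : ∃ x' y' : K, b' * x' = (-τ) * x - (a * x + b * y) ∧ b' * y' = (-τ) * y - (c * x + e * y) :=
      ⟨((-τ) * x - (a * x + b * y)) / b', ((-τ) * y - (c * x + e * y)) / b', by field_simp, by field_simp⟩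
    obtain ⟨x', y', hx', hy'⟩ := hx'y'
    have hdetP : !![x, x'; y, y'].det = 1 := by
      rw [Matrix.det_fin_two_of]
      apply mul_left_cancel₀ hb'0
      linear_combination x * hy' - y * hx' - hQ
    let P : SL(2, K) := ⟨!![x, x'; y, y'], hdetP⟩
    have hP00 : P 0 0 = x := by simp [P]
    have hP10 : P 1 0 = y := by simp [P]
    have hP01 : P 0 1 = x' := by simp [P]
    have hP11 : P 1 1 = y' := by simp [P]
    refine ⟨P, ?_⟩
    have hg' : g * P = P * rot (-τ) b' hn := by
      obtain ⟨e1, e2, e3, e4⟩ := rot_apply (-τ) b' hn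
      have hd' : a * e - b * c = 1 := hd
      have hb'' : -((a + e) ^ 2 - 1) = b' * b' := by rw [← hτ]; exact hb'
      rw [hτ] at hx' hy'
      apply sl_ext <;> simp only [sl_mul_apply, e1, e2, e3, e4, hP00, hP10, hP01, hP11, ← ha, ← hb, ← hcdef, ← he]
      · rw [hτ]
        linear_combination hx'
      · apply mul_left_cancel₀ hb'0
        rw [hτ]
        linear_combination (a + (a + e)) * hx' + b * hy' + x * hb'' + x * hd' + (-a * (a + e) * x - b * (a + e) * y) * h3
      · rw [hτ]
        linear_combination hy'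
      · apply mul_left_cancel₀ hb'0
        rw [hτ]
        linear_combination c * hx' + (e + (a + e)) * hy' + y * hb'' + y * hd' + (-c * (a + e) * x - (a * e + e ^ 2) * y) * h3
    have hg'' : P⁻¹ * g * P = rot (-τ) b' hn := by
      rw [mul_assoc, hg', inv_mul_cancel_left]
    rw [hg'']
    exact rot_mem _ _ _

end Dat

end Cfsg.Agent.Lib.Ree.Abs
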