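import Cfsg.Agent.Lib.Ree.Abs7
import Cfsg.Agent.Lib.PSL2.Basic

/-!
# The abstract Ree group: fixed points and the rotation tori
-/

set_option autoImplicit false
set_option linter.unusedSectionVars false
set_option linter.unusedSimpArgs false
set_option linter.unnecessarySeqFocus false

namespace Cfsg.Agent.Lib.Ree.Abs

open Matrix Cfsg.Agent.Lib.Ree.Sigma Cfsg.Agent.Lib.Ree.Words Cfsg.Agent.Lib.Ree.Psi
open scoped MatrixGroups Pointwise

/-- A subgroup and a coset of it make a subgroup of twice the size. -/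
theorem card_double {Γ : Type*} [_root_.Group Γ] (e : Γ) (X Y : Subgroup Γ) (he : e ∉ X)
    (hY : ∀ x, x ∈ Y ↔ x ∈ X ∨ ∃ z ∈ X, x = e * z) : Nat.card Y = 2 * Nat.card X := by
  let F : Bool × X → Y := fun p => match p with
    | (false, z) => ⟨z.1, (hY _).2 (Or.inl z.2)⟩
    | (true, z) => ⟨e * z.1, (hY _).2 (Or.inr ⟨z.1, z.2, rfl⟩)⟩
  have hF : Function.Bijective F := by
    constructor
    · rintro ⟨_ | _, z⟩ ⟨_ | _, z'⟩ h
      · have h1 : z.1 = z'.1 := congrArg (fun t : Y => t.1) h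
        rw [Subtype.ext h1]
      · exfalso
        have h1 : z.1 = e * z'.1 := congrArg (fun t : Y => t.1) h
        apply he
        have : e = z.1 * z'.1⁻¹ := by rw [h1]; group
        rw [this]
        exact X.mul_mem z.2 (X.inv_mem z'.2)
      · exfalso
        have h1 : e * z.1 = z'.1 := congrArg (fun t : Y => t.1) h
        apply he
        have : e = z'.1 * z.1⁻¹ := by rw [← h1]; group
        rw [this]
        exact X.mul_mem z'.2 (X.inv_mem z.2)
      · have h1 : e * z.1 = e * z'.1 := congrArg (fun t : Y => t.1) h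
        rw [Subtype.ext (mul_left_cancel h1)]
    · rintro ⟨x, hx⟩
      rcases (hY x).1 hx with h | ⟨z, hz, rfl⟩
      · exact ⟨(false, ⟨x, h⟩), rfl⟩
      · exact ⟨(true, ⟨z, hz⟩), rfl⟩
  rw [← Nat.card_congr (Equiv.ofBijective F hF), Nat.card_prod, Nat.card_eq_fintype_card (α := Bool),
    Fintype.card_bool]

namespace Dat

variable {K G : Type*} [Field K] [Fintype K] [CharP K 3] [_root_.Group G] (D : Dat K G)

section Fix

variable [Finite G]

/-- An element of odd order commuting with `x` fixes the fixed points of `x`. -/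
theorem fix_of_comm_odd {x y : G} (hx1 : x ≠ 1) (hx : ¬ D.CT x) (hc : y * x = x * y)
    (hy : Odd (orderOf y)) {α : D.Om} (hα : x • α = α) : y • α = α := by
  classical
  have hF : ∀ β : D.Om, x • β = β → x • (y • β) = y • β := by
    intro β hβ
    rw [← mul_smul, ← hc, mul_smul, hβ]
  have h2 : (y * y) • α = α := by
    by_contra hne
    rw [mul_smul] at hne
    by_cases h1 : y • α = α
    · exact hne (by rw [h1, h1])
    · have hb : x • (y • α) = y • α := hF α hα
      have hc' : x • (y • (y • α)) = y • (y • α) := hF _ hb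
      have h3 : y • (y • α) ≠ y • α := fun h => h1 (smul_left_cancel y h)
      have hle := D.fx_le_two hx1 hx
      have : 2 < (MulAction.fixedBy D.Om x).ncard := by
        rw [Set.two_lt_ncard_iff (Set.toFinite _)]
        exact ⟨α, y • α, y • (y • α), hα, hb, hc', Ne.symm h1, Ne.symm hne, Ne.symm h3⟩
      rw [fx, Nat.card_coe_set_eq] at hle
      omega
  obtain ⟨k, hk⟩ := hy
  have h3 : y = (y * y) ^ (k + 1) := by
    have h4 : y ^ (2 * k + 1) = 1 := by rw [← hk, pow_orderOf_eq_one]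
    calc y = y ^ (2 * k + 1) * y := by rw [h4, one_mul]
      _ = (y * y) ^ (k + 1) := by
        rw [← pow_two, ← pow_mul, ← pow_succ]
        congr 1
  have hm : y * y ∈ MulAction.stabilizer G α := h2
  have := (MulAction.stabilizer G α).pow_mem hm (k + 1)
  rw [← h3] at this
  exact this

/-- An element of prime order fixes a point unless the order divides the number of points. -/
theorem exists_fix_of_prime {s : G} {r : ℕ} (hr : r.Prime) (hs : s ^ r = 1) (hd : ¬ r ∣ D.q ^ 3 + 1) :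
    ∃ α : D.Om, s • α = α := by
  classical
  have := Fintype.ofFinite G
  have : Fintype D.Om := Fintype.ofFinite _
  have : Fact r.Prime := ⟨hr⟩
  let f : Function.End D.Om := fun α => s • α
  have hfn : ∀ (n : ℕ) (α : D.Om), (f ^ n) α = s ^ n • α := by
    intro n
    induction n with
    | zero => intro α; simp; rfl
    | succ n ih =>
      intro α
      have e : (f ^ (n + 1)) α = (f ^ n) (f α) := by rw [pow_succ]; rfl
      rw [e, ih, pow_succ, mul_smul]
  have hf : f ^ (r ^ 1) = 1 := by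
    funext α
    rw [hfn, pow_one, hs, one_smul]
    rfl
  have h1 := Equiv.Perm.card_fixedPoints_modEq hf
  by_contra hcon
  push Not at hcon
  have h2 : Fintype.card ↑(Function.fixedPoints f) = 0 := by
    rw [Fintype.card_eq_zero_iff]
    exact ⟨fun α => hcon α.1 α.2⟩
  rw [h2, ← Nat.card_eq_fintype_card, D.card_Om] at h1
  exact hd ((Nat.modEq_zero_iff_dvd).1 h1)

/-- The order of an element fixing a point divides the order of the Borel subgroup. -/
theorem orderOf_dvd_of_fix {y : G} {α : D.Om} (h : y • α = α) : orderOf y ∣ D.q ^ 3 * (D.q - 1) := by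
  obtain ⟨g, rfl⟩ := QuotientGroup.mk_surjective α
  have h1 : g⁻¹ * y * g ∈ D.B := by
    have h2 : ((QuotientGroup.mk (y * g)) : D.Om) = QuotientGroup.mk g := h
    have h3 := QuotientGroup.eq.1 h2.symm
    have e : g⁻¹ * y * g = g⁻¹ * (y * g) := by group
    rw [e]
    exact h3
  have h2 := Subgroup.orderOf_dvd_natCard D.B h1
  rw [D.card_B] at h2
  have h3 : orderOf (g⁻¹ * y * g) = orderOf y := by
    have : g⁻¹ * y * g = MulAut.conj g⁻¹ y := by simp [MulAut.conj_apply]
    rw [this, MulEquiv.orderOf_eq]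
  rwa [h3] at h2

end Fix

/-! ### The image of the rotations -/

theorem nI_mem_T0 : (nI : SL(2, K)) ∈ (T0 : Subgroup SL(2, K)) := by
  obtain ⟨e1, e2, e3, e4⟩ := nI_apply (K := K)
  exact ⟨by rw [e4, e1], by rw [e3, e2]; simp⟩

include D in
theorem nI_ne_one : (nI : SL(2, K)) ≠ 1 := by
  intro h
  have e : (nI : SL(2, K)) 0 0 = (1 : SL(2, K)) 0 0 := by rw [h]
  rw [nI_apply.1] at e
  apply D.neg_one_ne_one
  simpa using e

/-- The image of a subgroup containing `-1` has half the size. -/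
theorem card_map_psi [Finite G] (S : Subgroup SL(2, K)) (hn : (nI : SL(2, K)) ∈ S) :
    Nat.card S = 2 * Nat.card (S.map D.psi) := by
  classical
  have : Finite (SL(2, K)) := Finite.of_injective (fun g => g.1) Subtype.val_injective
  let f : S →* G := D.psi.comp S.subtype
  have hr : f.range = S.map D.psi := by
    rw [MonoidHom.range_eq_map]
    ext x
    simp [f]
  have hk : Nat.card f.ker = 2 := by
    rw [Nat.card_eq_two_iff]
    refine ⟨⟨1, by simp⟩, ⟨⟨nI, hn⟩, ?_⟩, ?_, ?_⟩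
    · simp [MonoidHom.mem_ker, f, D.psi_nI]
    · intro h
      have h1 := congrArg (fun x : f.ker => ((x : S) : SL(2, K))) h
      exact D.nI_ne_one h1.symm
    · ext x
      simp only [Set.mem_univ, iff_true, Set.mem_insert_iff, Set.mem_singleton_iff]
      have h1 : D.psi (x.1 : SL(2, K)) = 1 := x.2
      rcases D.psi_ker.1 h1 with h | h
      · left
        apply Subtype.ext
        apply Subtype.ext
        exact h
      · right
        apply Subtype.ext
        apply Subtype.ext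
        exact h
  have h1 := Subgroup.card_mul_index f.ker
  rw [Subgroup.index_ker, hk, hr] at h1
  exact h1.symm

/-- The image of the rotations. -/
def X1 : Subgroup G := (T0 : Subgroup SL(2, K)).map D.psi

theorem mem_X1 {x : G} : x ∈ D.X1 ↔ ∃ g ∈ (T0 : Subgroup SL(2, K)), D.psi g = x := Iff.rfl

theorem psi_mem_X1 {g : SL(2, K)} (hg : g ∈ (T0 : Subgroup SL(2, K))) : D.psi g ∈ D.X1 := ⟨g, hg, rfl⟩

theorem w_mem_X1 : D.w ∈ D.X1 := ⟨g0, g0_mem_T0, D.psi_g0⟩

theorem X1_comm {x y : G} (hx : x ∈ D.X1) (hy : y ∈ D.X1) : x * y = y * x := by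
  obtain ⟨g, hg, rfl⟩ := hx
  obtain ⟨h, hh, rfl⟩ := hy
  rw [← map_mul, ← map_mul, T0_comm hg hh]

theorem X1_cyclic : IsCyclic D.X1 := by
  have := D.T0_cyclic
  let f : (T0 : Subgroup SL(2, K)) →* D.X1 :=
    { toFun := fun g => ⟨D.psi g.1, g.1, g.2, rfl⟩
      map_one' := Subtype.ext (map_one D.psi)
      map_mul' := fun a b => Subtype.ext (map_mul D.psi a.1 b.1) }
  refine isCyclic_of_surjective f ?_
  rintro ⟨x, g, hg, rfl⟩
  exact ⟨⟨g, hg⟩, rfl⟩

theorem card_X1 [Finite G] : 2 * Nat.card D.X1 = D.q + 1 := by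
  rw [← D.card_T0]
  exact (D.card_map_psi _ nI_mem_T0).symm

theorem t0_not_mem_X1 : D.t0 ∉ D.X1 := by
  rintro ⟨g, -, h⟩
  exact D.t0_not_mem g h

/-- The centraliser-type torus: the rotations and the involution. -/
def A0 : Subgroup G where
  carrier := {x | x ∈ D.X1 ∨ ∃ z ∈ D.X1, x = D.t0 * z}
  one_mem' := Or.inl D.X1.one_mem
  mul_mem' := by
    have hc : ∀ z ∈ D.X1, D.t0 * z = z * D.t0 := by
      rintro _ ⟨g, -, rfl⟩
      exact D.t0_comm_psi g
    rintro x y (hx | ⟨a, ha, rfl⟩) (hy | ⟨b, hb, rfl⟩)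
    · exact Or.inl (D.X1.mul_mem hx hy)
    · refine Or.inr ⟨x * b, D.X1.mul_mem hx hb, ?_⟩
      rw [← mul_assoc, ← mul_assoc, hc x hx]
    · refine Or.inr ⟨a * y, D.X1.mul_mem ha hy, ?_⟩
      rw [mul_assoc]
    · refine Or.inl ?_
      have e : D.t0 * a * (D.t0 * b) = a * b := by
        calc D.t0 * a * (D.t0 * b) = D.t0 * (a * D.t0) * b := by group
          _ = D.t0 * (D.t0 * a) * b := by rw [hc a ha]
          _ = (D.t0 * D.t0) * a * b := by group
          _ = a * b := by rw [D.t0_sq, one_mul]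
      rw [e]
      exact D.X1.mul_mem ha hb
  inv_mem' := by
    have hc : ∀ z ∈ D.X1, D.t0 * z = z * D.t0 := by
      rintro _ ⟨g, -, rfl⟩
      exact D.t0_comm_psi g
    rintro x (hx | ⟨a, ha, rfl⟩)
    · exact Or.inl (D.X1.inv_mem hx)
    · refine Or.inr ⟨a⁻¹, D.X1.inv_mem ha, ?_⟩
      rw [_root_.mul_inv_rev, D.t0_inv, hc _ (D.X1.inv_mem ha)]

theorem mem_A0 {x : G} : x ∈ D.A0 ↔ x ∈ D.X1 ∨ ∃ z ∈ D.X1, x = D.t0 * z := Iff.rfl

theorem X1_le_A0 : D.X1 ≤ D.A0 := fun _ h => Or.inl h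

theorem t0_mem_A0 : D.t0 ∈ D.A0 := Or.inr ⟨1, D.X1.one_mem, by rw [mul_one]⟩

theorem w_mem_A0 : D.w ∈ D.A0 := Or.inl D.w_mem_X1

theorem card_A0 [Finite G] : Nat.card D.A0 = D.q + 1 := by
  rw [card_double D.t0 D.X1 D.A0 D.t0_not_mem_X1 (fun x => D.mem_A0), D.card_X1]

theorem A0_comm_t0 {x : G} (hx : x ∈ D.A0) : D.t0 * x = x * D.t0 := by
  have hc : ∀ z ∈ D.X1, D.t0 * z = z * D.t0 := by
    rintro _ ⟨g, -, rfl⟩
    exact D.t0_comm_psi g
  rcases hx with hx | ⟨a, ha, rfl⟩
  · exact hc x hx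
  · rw [mul_assoc, hc a ha]

theorem A0_comm {x y : G} (hx : x ∈ D.A0) (hy : y ∈ D.A0) : x * y = y * x := by
  have hc : ∀ {x y : G}, x ∈ D.X1 → y ∈ D.X1 → x * y = y * x := D.X1_comm
  rcases hx with hx | ⟨a, ha, rfl⟩
  · rcases hy with hy | ⟨b, hb, rfl⟩
    · exact hc hx hy
    · rw [← mul_assoc, ← D.A0_comm_t0 (D.X1_le_A0 hx), mul_assoc, mul_assoc, hc hx hb]
  · rcases hy with hy | ⟨b, hb, rfl⟩
    · rw [mul_assoc, hc ha hy, ← mul_assoc, ← mul_assoc, D.A0_comm_t0 (D.X1_le_A0 hy)]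
    · calc D.t0 * a * (D.t0 * b) = D.t0 * (a * D.t0) * b := by group
        _ = D.t0 * (D.t0 * a) * b := by rw [D.A0_comm_t0 (D.X1_le_A0 ha)]
        _ = D.t0 * (D.t0 * (a * b)) := by group
        _ = D.t0 * (D.t0 * (b * a)) := by rw [hc ha hb]
        _ = D.t0 * (D.t0 * b * a) := by group
        _ = D.t0 * (b * D.t0 * a) := by rw [D.A0_comm_t0 (D.X1_le_A0 hb)]
        _ = _ := by group

theorem A0_le_cent {x : G} (hx : x ∈ D.A0) {y : G} (hy : y ∈ D.A0) : y ∈ Subgroup.centralizer {x} :=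
  Subgroup.mem_centralizer_singleton_iff.2 (D.A0_comm hy hx)

/-- The image of a triangular matrix lies in the Borel subgroup. -/
theorem psi_mem_B {g : SL(2, K)} (h : g 1 0 = 0) : D.psi g ∈ D.B := by
  have hd := sl_det g
  have hα : g 0 0 ≠ 0 := by
    intro h0
    rw [h0, h] at hd
    simp at hd
  have e : g = dg (Units.mk0 _ hα) * up (g 0 1 / g 0 0) := by
    apply sl_ext <;> simp only [sl_mul_apply, (dg_apply _).1, (dg_apply _).2.1, (dg_apply _).2.2.1,
      (dg_apply _).2.2.2, (up_apply _).1, (up_apply _).2.1, (up_apply _).2.2.1, (up_apply _).2.2.2,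
      Units.val_mk0, Units.val_inv_eq_inv_val, h]
    · ring
    · field_simp
      ring
    · ring
    · rw [h] at hd
      field_simp
      linear_combination hd
  rw [e, map_mul, D.psi_dg, D.psi_up]
  exact D.B.mul_mem (D.d_mem_B _) (D.u_mem_B _ _ _)

theorem t0_mem_B : D.t0 ∈ D.B := D.d_mem_B _

/-- A fixed-point-free element centralising the involution lies in a conjugate of the torus. -/
theorem conj_of_comm_t0 {x : G} (hx : D.t0 * x = x * D.t0) (hfree : ∀ α : D.Om, x • α ≠ α) :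
    ∃ (P : SL(2, K)) (z : G), z ∈ D.A0 ∧ x = D.psi P * z * (D.psi P)⁻¹ := by
  obtain ⟨g, hg⟩ := D.cent_t0_form hx
  have hconj : ∀ P : SL(2, K), D.psi (P⁻¹ * g * P) = (D.psi P)⁻¹ * D.psi g * D.psi P := by
    intro P
    rw [map_mul, map_mul, map_inv]
  have hconj' : ∀ P : SL(2, K), D.t0 * D.psi (P⁻¹ * g * P) = (D.psi P)⁻¹ * (D.t0 * D.psi g) * D.psi P := by
    intro P
    rw [hconj]
    have : D.t0 * (D.psi P)⁻¹ = (D.psi P)⁻¹ * D.t0 := by
      rw [← map_inv, D.t0_comm_psi]
    calc D.t0 * ((D.psi P)⁻¹ * D.psi g * D.psi P) = (D.t0 * (D.psi P)⁻¹) * D.psi g * D.psi P := by group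
      _ = _ := by rw [this]; group
  rcases D.exists_conj_T0 g with ⟨P, hP⟩ | ⟨P, hP⟩
  · exfalso
    have hB := D.psi_mem_B hP
    apply hfree (D.psi P • D.p0)
    rw [← mul_smul]
    rcases hg with rfl | rfl
    · have : D.psi g * D.psi P = D.psi P * D.psi (P⁻¹ * g * P) := by
        rw [hconj]
        group
      rw [this, mul_smul, D.smul_p0_iff.2 hB]
    · have : D.t0 * D.psi g * D.psi P = D.psi P * (D.t0 * D.psi (P⁻¹ * g * P)) := by
        rw [hconj']
        group
      rw [this, mul_smul, D.smul_p0_iff.2 (D.B.mul_mem D.t0_mem_B hB)]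
  · rcases hg with rfl | rfl
    · refine ⟨P, D.psi (P⁻¹ * g * P), D.X1_le_A0 (D.psi_mem_X1 hP), ?_⟩
      rw [hconj]
      group
    · refine ⟨P, D.t0 * D.psi (P⁻¹ * g * P), Or.inr ⟨_, D.psi_mem_X1 hP, rfl⟩, ?_⟩
      rw [hconj']
      group

/-! ### The number of involutions -/

/-- The image of `SL₂`. -/
noncomputable def L0 : Subgroup G := D.psi.range

theorem card_L0 [Finite G] : 2 * Nat.card D.L0 = D.q * (D.q ^ 2 - 1) := by
  have h1 := D.card_map_psi ⊤ (Subgroup.mem_top _)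
  rw [Nat.card_congr Subgroup.topEquiv.toEquiv, Cfsg.Agent.Lib.PSL2.Basic.card_SL2, D.card_K'] at h1
  rw [h1, L0, MonoidHom.range_eq_map]

theorem card_cent_t0 [Finite G] : Nat.card (Subgroup.centralizer {D.t0}) = D.q * (D.q ^ 2 - 1) := by
  rw [← D.card_L0]
  refine card_double D.t0 D.L0 _ ?_ ?_
  · rintro ⟨g, h⟩
    exact D.t0_not_mem g h
  · intro x
    rw [Subgroup.mem_centralizer_singleton_iff]
    constructor
    · intro h
      obtain ⟨g, rfl | rfl⟩ := D.cent_t0_form h.symm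
      · exact Or.inl ⟨g, rfl⟩
      · exact Or.inr ⟨_, ⟨g, rfl⟩, rfl⟩
    · rintro (⟨g, rfl⟩ | ⟨_, ⟨g, rfl⟩, rfl⟩)
      · exact (D.t0_comm_psi g).symm
      · rw [mul_assoc, ← D.t0_comm_psi g]

end Dat

end Cfsg.Agent.Lib.Ree.Abs
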