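import Cfsg.Agent.Lib.Ree.Abs8

/-!
# The abstract Ree group: the seven dimensional module and elements of order dividing `q² - q + 1`
-/

set_option autoImplicit false
set_option linter.unusedSectionVars false
set_option linter.unusedSimpArgs false
set_option linter.unnecessarySeqFocus false

namespace Cfsg.Agent.Lib.Ree.Abs

open Matrix Cfsg.Agent.Lib.Ree.Sigma Cfsg.Agent.Lib.Ree.Words Cfsg.Agent.Lib.Ree.Psi
open scoped MatrixGroups Pointwise

/-! ### Numerics: a root of `x² - x + 1` -/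

section numerics

variable {R : Type*} [CommRing R] [IsDomain R] {x : R} (hx : x ^ 2 = x - 1) (h2 : (2 : R) ≠ 0) (h3 : (3 : R) ≠ 0)
include hx h2 h3

theorem root_pow_eq_one {c : ℕ} (hc : c ≤ 7) (h : x ^ c = 1) : c = 0 ∨ c = 6 := by
  have p3 : x ^ 3 = -1 := by linear_combination (x + 1) * hx
  have p4 : x ^ 4 = -x := by linear_combination x * p3
  have p5 : x ^ 5 = 1 - x := by linear_combination (-1 : R) * hx + x ^ 2 * p3
  have p6 : x ^ 6 = 1 := by linear_combination (x ^ 3 - 1) * p3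
  have p7 : x ^ 7 = x := by linear_combination x * p6
  have hx1 : x ≠ 1 := by
    rintro rfl
    simp at hx
  interval_cases c
  · left; rfl
  · exfalso; exact hx1 (by simpa using h)
  · exfalso
    rw [hx] at h
    have hx2 : x = 2 := by linear_combination h
    rw [hx2] at hx
    apply h3
    linear_combination hx
  · exfalso
    rw [p3] at h
    apply h2
    linear_combination -h
  · exfalso
    rw [p4] at h
    have hx2 : x = -1 := by linear_combination -h
    rw [hx2] at hx
    apply h3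
    linear_combination hx
  · exfalso
    rw [p5] at h
    have hx0 : x = 0 := by linear_combination -h
    rw [hx0] at hx
    apply one_ne_zero (α := R)
    linear_combination hx
  · right; rfl
  · exfalso
    rw [p7] at h
    exact hx1 h

theorem root_pow_eq_self {c : ℕ} (hc : c ≤ 7) (h : x ^ c = x) : c = 1 ∨ c = 7 := by
  have p3 : x ^ 3 = -1 := by linear_combination (x + 1) * hx
  have p4 : x ^ 4 = -x := by linear_combination x * p3
  have p5 : x ^ 5 = 1 - x := by linear_combination (-1 : R) * hx + x ^ 2 * p3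
  have p6 : x ^ 6 = 1 := by linear_combination (x ^ 3 - 1) * p3
  have p7 : x ^ 7 = x := by linear_combination x * p6
  have hx1 : x ≠ 1 := by
    rintro rfl
    simp at hx
  have hx0 : x ≠ 0 := by
    rintro rfl
    apply one_ne_zero (α := R)
    simpa using hx
  interval_cases c
  · exfalso; exact hx1 (by simpa using h.symm)
  · left; rfl
  · exfalso
    rw [hx] at h
    apply one_ne_zero (α := R)
    linear_combination -h
  · exfalso
    rw [p3] at h
    have hx2 : x = -1 := by linear_combination -h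
    rw [hx2] at hx
    apply h3
    linear_combination hx
  · exfalso
    rw [p4] at h
    apply hx0
    have : 2 * x = 0 := by linear_combination -h
    exact (mul_eq_zero.1 this).resolve_left h2
  · exfalso
    rw [p5] at h
    apply h2
    have h4 : 2 * x = 1 := by linear_combination -h
    -- then `x² = x - 1` gives `3 = 0`
    have h5 : (2 * x) ^ 2 = 4 * (x - 1) := by rw [← hx]; ring
    rw [h4] at h5
    apply h3 |>.elim
    have : (3 : R) = 0 := by linear_combination h5 + 2 * h4
    exact this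
  · exfalso
    exact hx1 (by rw [← h, p6])
  · right; rfl

end numerics

namespace Dat

variable {K G : Type*} [Field K] [Fintype K] [CharP K 3] [_root_.Group G] (D : Dat K G)

/-- The natural action by linear maps. -/
noncomputable def rho : G →* Module.End K (Fin 7 → K) where
  toFun g := Matrix.toLin' ((D.rep g : GL (Fin 7) K) : Matrix (Fin 7) (Fin 7) K)
  map_one' := by
    rw [map_one, Units.val_one, Matrix.toLin'_one]
    rfl
  map_mul' g g' := by
    rw [map_mul, Units.val_mul, Matrix.toLin'_mul]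
    rfl

theorem rho_apply (g : G) (v : Fin 7 → K) :
    D.rho g v = ((D.rep g : GL (Fin 7) K) : Matrix (Fin 7) (Fin 7) K).mulVec v := rfl

theorem rho_inj : Function.Injective D.rho := by
  intro g g' he
  have h1 : ((D.rep g : GL (Fin 7) K) : Matrix (Fin 7) (Fin 7) K) = ((D.rep g' : GL (Fin 7) K) : Matrix (Fin 7) (Fin 7) K) :=
    Matrix.toLin'.injective he
  exact D.rep_inj (Units.ext h1)

/-- The space of fixed vectors of `z`. -/
noncomputable def fixSub (z : G) : Submodule K (Fin 7 → K) := LinearMap.ker (D.rho z - 1)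

theorem mem_fixSub {z : G} {v : Fin 7 → K} : v ∈ D.fixSub z ↔ D.rho z v = v := by
  rw [fixSub, LinearMap.mem_ker, LinearMap.sub_apply, sub_eq_zero]
  rfl

section count

variable {p : ℕ} [hp : Fact p.Prime]

/-- Fixed point congruence on an invariant subspace. -/
theorem card_sub_modEq (z : G) (hz : z ^ p = 1) (W : Submodule K (Fin 7 → K))
    (hW : ∀ v ∈ W, D.rho z v ∈ W) :
    Fintype.card K ^ Module.finrank K W ≡ Fintype.card K ^ Module.finrank K ↥(W ⊓ D.fixSub z) [MOD p] := by
  classical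
  let f : Function.End W := fun w => ⟨D.rho z w.1, hW w.1 w.2⟩
  have hfn : ∀ (n : ℕ) (w : W), ((f ^ n) w).1 = D.rho (z ^ n) w.1 := by
    intro n
    induction n with
    | zero => intro w; simp; rfl
    | succ n ih =>
      intro w
      have e : (f ^ (n + 1)) w = (f ^ n) (f w) := by rw [pow_succ]; rfl
      rw [e, ih, pow_succ, map_mul]
      rfl
  have hf : f ^ (p ^ 1) = 1 := by
    funext w
    apply Subtype.ext
    rw [hfn, pow_one, hz, map_one]
    rfl
  have h1 := Equiv.Perm.card_fixedPoints_modEq hf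
  have e1 : Fintype.card W = Fintype.card K ^ Module.finrank K W := Module.card_eq_pow_finrank
  have e2 : Fintype.card ↑(Function.fixedPoints f) =
      Fintype.card K ^ Module.finrank K ↥(W ⊓ D.fixSub z) := by
    rw [← Module.card_eq_pow_finrank (K := K) (V := ↥(W ⊓ D.fixSub z))]
    apply Fintype.card_congr
    refine
      { toFun := fun w => ⟨w.1.1, w.1.2, D.mem_fixSub.mpr (congrArg Subtype.val w.2)⟩
        invFun := fun w => ⟨⟨w.1, w.2.1⟩, Subtype.ext (D.mem_fixSub.mp w.2.2)⟩
        left_inv := fun w => rfl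
        right_inv := fun w => rfl }
  rw [e1, e2] at h1
  exact h1

end count

/-- The number `q² - q + 1`. -/
def Dd : ℕ := D.q ^ 2 - D.q + 1

theorem q_pos : 0 < D.q := by
  have := D.q_ge
  omega

theorem q_le_sq : D.q ≤ D.q ^ 2 := by
  rw [pow_two]
  exact Nat.le_mul_self _

theorem Dd_add : D.Dd + D.q = D.q ^ 2 + 1 := by
  have := D.q_le_sq
  rw [Dd]
  omega

theorem cube_eq : D.q ^ 3 + 1 = (D.q + 1) * D.Dd := by
  have := D.Dd_add
  zify at this ⊢
  have e : (D.Dd : ℤ) = (D.q : ℤ) ^ 2 + 1 - D.q := by linarith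
  rw [e]
  ring

theorem Dd_odd : D.Dd % 2 = 1 := by
  have h1 := D.Dd_add
  have h2 := D.q_mod8
  have : D.q ^ 2 % 2 = 1 := by
    rw [Nat.pow_mod]
    have : D.q % 2 = 1 := by omega
    rw [this]
  omega

theorem Dd_mod3 : D.Dd % 3 = 1 := by
  have h1 := D.Dd_add
  have h2 := D.q_mod3
  have : D.q ^ 2 % 3 = 0 := by
    rw [Nat.pow_mod, h2]
  omega

section prime

variable {p : ℕ} [hp : Fact p.Prime] (hd : p ∣ D.Dd)
include hd

theorem prime_ne_two : p ≠ 2 := by
  rintro rfl
  have := D.Dd_odd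
  omega

theorem prime_ne_three : p ≠ 3 := by
  rintro rfl
  have := D.Dd_mod3
  omega

theorem two_ne_zero' : (2 : ZMod p) ≠ 0 := by
  intro h
  have h1 : ((2 : ℕ) : ZMod p) = 0 := by exact_mod_cast h
  rw [ZMod.natCast_eq_zero_iff] at h1
  exact D.prime_ne_two hd ((Nat.prime_dvd_prime_iff_eq hp.out Nat.prime_two).mp h1)

theorem three_ne_zero' : (3 : ZMod p) ≠ 0 := by
  intro h
  have h1 : ((3 : ℕ) : ZMod p) = 0 := by exact_mod_cast h
  rw [ZMod.natCast_eq_zero_iff] at h1
  exact D.prime_ne_three hd ((Nat.prime_dvd_prime_iff_eq hp.out Nat.prime_three).mp h1)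

theorem q_sq_cast : ((D.q : ℕ) : ZMod p) ^ 2 = (D.q : ZMod p) - 1 := by
  have h1 : ((D.Dd : ℕ) : ZMod p) = 0 := (ZMod.natCast_eq_zero_iff _ _).2 hd
  have h2 := congrArg (fun n : ℕ => (n : ZMod p)) D.Dd_add
  simp only [Nat.cast_add, Nat.cast_pow, Nat.cast_one, h1] at h2
  linear_combination -h2

theorem dim_of_one {c : ℕ} (hc : c ≤ 7) (h : Fintype.card K ^ c ≡ 1 [MOD p]) : c = 0 ∨ c = 6 := by
  have h1 := (ZMod.natCast_eq_natCast_iff _ _ _).2 h
  rw [D.card_K'] at h1
  push_cast at h1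
  exact root_pow_eq_one (D.q_sq_cast hd) (D.two_ne_zero' hd) (D.three_ne_zero' hd) hc h1

theorem dim_of_self {c : ℕ} (hc : c ≤ 7) (h : Fintype.card K ^ c ≡ Fintype.card K [MOD p]) : c = 1 ∨ c = 7 := by
  have h1 := (ZMod.natCast_eq_natCast_iff _ _ _).2 h
  rw [D.card_K'] at h1
  push_cast at h1
  exact root_pow_eq_self (D.q_sq_cast hd) (D.two_ne_zero' hd) (D.three_ne_zero' hd) hc h1

theorem q_seven : Fintype.card K ^ 7 ≡ Fintype.card K [MOD p] := by
  apply (ZMod.natCast_eq_natCast_iff _ _ _).1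
  rw [D.card_K']
  push_cast
  have hx := D.q_sq_cast hd
  set x := (D.q : ZMod p)
  have p3 : x ^ 3 = -1 := by linear_combination (x + 1) * hx
  have p6 : x ^ 6 = 1 := by linear_combination (x ^ 3 - 1) * p3
  linear_combination x * p6

theorem finrank_le_seven (W : Submodule K (Fin 7 → K)) : Module.finrank K W ≤ 7 := by
  have := Submodule.finrank_le W
  rwa [Module.finrank_fin_fun] at this

/-- The fixed space of an element of order `p` is a line. -/
theorem finrank_fix {z : G} (hz : z ^ p = 1) (hz1 : z ≠ 1) : Module.finrank K (D.fixSub z) = 1 := by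
  have h1 := D.card_sub_modEq z hz ⊤ (fun _ _ => Submodule.mem_top)
  rw [top_inf_eq, finrank_top, Module.finrank_fin_fun] at h1
  have h2 := D.finrank_le_seven hd (D.fixSub z)
  have h3 := D.q_seven (K := K) hd
  rcases D.dim_of_self hd h2 (h1.symm.trans h3) with h | h
  · exact h
  · exfalso
    have : D.fixSub z = ⊤ := Submodule.eq_top_of_finrank_eq (by rw [h, Module.finrank_fin_fun])
    apply hz1
    apply D.rho_inj
    rw [map_one]
    refine LinearMap.ext fun v => ?_
    have hv : v ∈ D.fixSub z := by rw [this]; exact Submodule.mem_top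
    exact D.mem_fixSub.mp hv

/-- Invariant subspaces have dimension `0`, `1`, `6` or `7`. -/
theorem dim_inv {z : G} (hz : z ^ p = 1) (hz1 : z ≠ 1) (W : Submodule K (Fin 7 → K))
    (hW : ∀ v ∈ W, D.rho z v ∈ W) :
    (W ⊓ D.fixSub z = ⊥ ∧ (Module.finrank K W = 0 ∨ Module.finrank K W = 6)) ∨
      (D.fixSub z ≤ W ∧ (Module.finrank K W = 1 ∨ Module.finrank K W = 7)) := by
  have h1 := D.card_sub_modEq z hz W hW
  have h2 := D.finrank_le_seven hd W
  have hfix := D.finrank_fix hd hz hz1
  have h3 : Module.finrank K ↥(W ⊓ D.fixSub z) ≤ 1 := by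
    rw [← hfix]
    exact Submodule.finrank_mono inf_le_right
  have h4 : Module.finrank K ↥(W ⊓ D.fixSub z) = 0 ∨ Module.finrank K ↥(W ⊓ D.fixSub z) = 1 := by omega
  rcases h4 with h4 | h4
  · left
    rw [h4, pow_zero] at h1
    exact ⟨Submodule.finrank_eq_zero.1 h4, D.dim_of_one hd h2 h1⟩
  · right
    rw [h4, pow_one] at h1
    refine ⟨?_, D.dim_of_self hd h2 h1⟩
    have : W ⊓ D.fixSub z = D.fixSub z :=
      Submodule.eq_of_le_of_finrank_eq inf_le_right (by rw [h4, hfix])
    exact inf_eq_right.1 this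

end prime

/-! ### Rotations have two eigenspaces of dimension at least two -/

section Rot

theorem rho_psi_apply (g : SL(2, K)) (v : Fin 7 → K) : D.rho (D.psi g) v =
    PsiMat (g 0 0) (g 0 1) (g 1 0) (g 1 1) (D.f.φ (g 0 0)) (D.f.φ (g 0 1)) (D.f.φ (g 1 0)) (D.f.φ (g 1 1)) *ᵥ v := by
  rw [rho_apply, D.rep_psi, psiMat]

/-- The sum of a rotation and its inverse on the even coordinates. -/
theorem rot_add_inv {g : SL(2, K)} (hg : g ∈ (T0 : Subgroup SL(2, K))) (v : Fin 7 → K)
    (h1 : v 1 = 0) (h3 : v 3 = 0) (h5 : v 5 = 0) :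
    D.rho (D.psi g) v + D.rho (D.psi g)⁻¹ v =
      ![2 * D.f.φ (g 0 0) * g 0 0 * v 0 - 2 * D.f.φ (g 0 1) * g 0 1 * v 6, 0,
        2 * D.f.φ (g 0 0) * g 0 0 * v 2 - 2 * D.f.φ (g 0 1) * g 0 1 * v 4, 0,
        2 * D.f.φ (g 0 0) * g 0 0 * v 4 - 2 * D.f.φ (g 0 1) * g 0 1 * v 2, 0,
        2 * D.f.φ (g 0 0) * g 0 0 * v 6 - 2 * D.f.φ (g 0 1) * g 0 1 * v 0] := by
  obtain ⟨e1, e2, e3, e4⟩ := sl_inv_apply g
  rw [← map_inv, rho_psi_apply, rho_psi_apply, PsiMat_mulVec, PsiMat_mulVec, e1, e2, e3, e4, hg.1, hg.2]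
  simp only [map_neg, h1, h3, h5]
  funext i
  fin_cases i <;> simp <;> ring

theorem two_le_finrank {W : Submodule K (Fin 7 → K)} {u₁ u₂ : Fin 7 → K} {i j : Fin 7} (h₁ : u₁ ∈ W) (h₂ : u₂ ∈ W)
    (ha : u₁ i ≠ 0) (hb : u₁ j = 0) (hd : u₂ j ≠ 0) : 2 ≤ Module.finrank K W := by
  by_contra hcon
  have h1 : Module.finrank K W ≤ 1 := by omega
  obtain ⟨v, hv⟩ := finrank_le_one_iff.1 h1
  obtain ⟨c₁, hc₁⟩ := hv ⟨u₁, h₁⟩
  obtain ⟨c₂, hc₂⟩ := hv ⟨u₂, h₂⟩
  have e1 := congrFun (congrArg Subtype.val hc₁) i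
  have e2 := congrFun (congrArg Subtype.val hc₁) j
  have e3 := congrFun (congrArg Subtype.val hc₂) j
  simp only [Submodule.coe_smul, Pi.smul_apply, smul_eq_mul] at e1 e2 e3
  rw [hb] at e2
  rw [← e1] at ha
  have hc : c₁ ≠ 0 := left_ne_zero_of_mul ha
  have hvj : v.1 j = 0 := (mul_eq_zero.1 e2).resolve_left hc
  rw [← e3, hvj, mul_zero] at hd
  exact hd rfl

/-- An element of prime order dividing `q² - q + 1` commutes with no non-scalar rotation. -/
theorem not_comm_rot {p : ℕ} [hp : Fact p.Prime] (hd : p ∣ D.Dd) {z : G} (hz : z ^ p = 1) (hz1 : z ≠ 1)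
    {g : SL(2, K)} (hg : g ∈ (T0 : Subgroup SL(2, K))) (hb : g 0 1 ≠ 0) : z * D.psi g ≠ D.psi g * z := by
  intro hc
  have h3 : (3 : K) = 0 := D.three
  set y := D.psi g with hy
  have hc' : z * y⁻¹ = y⁻¹ * z := by
    have := (Commute.inv_right (show Commute z y from hc)).eq
    exact this
  set A := D.f.φ (g 0 0) with hA
  set B := D.f.φ (g 0 1) with hB
  set a := g 0 0 with ha
  set b := g 0 1 with hb'
  have hB0 : B ≠ 0 := (map_ne_zero _).2 hb
  let N : Module.End K (Fin 7 → K) := D.rho y + D.rho y⁻¹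
  have hzN : ∀ v, D.rho z (N v) = N (D.rho z v) := by
    intro v
    show D.rho z (D.rho y v + D.rho y⁻¹ v) = D.rho y (D.rho z v) + D.rho y⁻¹ (D.rho z v)
    rw [map_add]
    have e1 : D.rho z (D.rho y v) = D.rho y (D.rho z v) := by
      show (D.rho z * D.rho y) v = (D.rho y * D.rho z) v
      rw [← map_mul, ← map_mul, hc]
    have e2 : D.rho z (D.rho y⁻¹ v) = D.rho y⁻¹ (D.rho z v) := by
      show (D.rho z * D.rho y⁻¹) v = (D.rho y⁻¹ * D.rho z) v
      rw [← map_mul, ← map_mul, hc']
    rw [e1, e2]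
  let E : K → Submodule K (Fin 7 → K) := fun n => LinearMap.ker (N - n • 1)
  have hE : ∀ n v, v ∈ E n ↔ N v = n • v := by
    intro n v
    show v ∈ LinearMap.ker (N - n • 1) ↔ _
    rw [LinearMap.mem_ker, LinearMap.sub_apply, sub_eq_zero]
    rfl
  have hEinv : ∀ n, ∀ v ∈ E n, D.rho z v ∈ E n := by
    intro n v hv
    rw [hE] at hv ⊢
    rw [← hzN, hv, map_smul]
  have hdim6 : ∀ n, 2 ≤ Module.finrank K (E n) → 6 ≤ Module.finrank K (E n) := by
    intro n h2
    rcases D.dim_inv hd hz hz1 (E n) (hEinv n) with ⟨-, h | h⟩ | ⟨-, h | h⟩ <;> omega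
  have hN := fun v h1 h3 h5 => D.rot_add_inv hg v h1 h3 h5
  -- the eigenvectors
  have hE2 : 2 ≤ Module.finrank K (E (2 * A * a + 2 * B * b)) := by
    refine two_le_finrank (u₁ := ![1, 0, 0, 0, 0, 0, -1]) (u₂ := ![0, 0, 1, 0, -1, 0, 0]) (i := 0) (j := 2) ?_ ?_ ?_ ?_ ?_
    · rw [hE]
      show D.rho y _ + D.rho y⁻¹ _ = _
      rw [hN _ (by simp) (by simp) (by simp)]
      funext i
      fin_cases i <;> simp <;> ring
    · rw [hE]
      show D.rho y _ + D.rho y⁻¹ _ = _
      rw [hN _ (by simp) (by simp) (by simp)]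
      funext i
      fin_cases i <;> simp <;> ring
    · simp
    · simp
    · simp
  have hE3 : 2 ≤ Module.finrank K (E (2 * A * a - 2 * B * b)) := by
    refine two_le_finrank (u₁ := ![1, 0, 0, 0, 0, 0, 1]) (u₂ := ![0, 0, 1, 0, 1, 0, 0]) (i := 0) (j := 2) ?_ ?_ ?_ ?_ ?_
    · rw [hE]
      show D.rho y _ + D.rho y⁻¹ _ = _
      rw [hN _ (by simp) (by simp) (by simp)]
      funext i
      fin_cases i <;> simp <;> ring
    · rw [hE]
      show D.rho y _ + D.rho y⁻¹ _ = _
      rw [hN _ (by simp) (by simp) (by simp)]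
      funext i
      fin_cases i <;> simp <;> ring
    · simp
    · simp
    · simp
  have hdis : Disjoint (E (2 * A * a + 2 * B * b)) (E (2 * A * a - 2 * B * b)) := by
    rw [Submodule.disjoint_def]
    intro v h1 h2
    rw [hE] at h1 h2
    have h4 : (2 * A * a + 2 * B * b) • v = (2 * A * a - 2 * B * b) • v := h1.symm.trans h2
    have h5 : (4 * B * b) • v = 0 := by
      have : (4 * B * b) • v = (2 * A * a + 2 * B * b) • v - (2 * A * a - 2 * B * b) • v := by
        rw [← sub_smul]
        congr 1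
        ring
      rw [this, h4, sub_self]
    have h6 : 4 * B * b ≠ 0 := by
      refine mul_ne_zero (mul_ne_zero ?_ hB0) hb
      intro h
      have : (1 : K) = 0 := by linear_combination h - h3
      exact one_ne_zero this
    exact (smul_eq_zero.1 h5).resolve_left h6
  have := Submodule.finrank_add_finrank_le_of_disjoint hdis
  rw [Module.finrank_fin_fun] at this
  have h1 := hdim6 _ hE2
  have h2 := hdim6 _ hE3
  omega

end Rot

end Dat

end Cfsg.Agent.Lib.Ree.Abs
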