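import Cfsg.Agent.Lib.Ree.Pts

/-!
# The Ree groups: the map from `SL₂` commuting with the torus involution
-/

set_option autoImplicit false
set_option linter.unusedSectionVars false
set_option linter.unusedSimpArgs false
set_option linter.unnecessarySeqFocus false

namespace Cfsg.Agent.Lib.Ree.Psi

open Cfsg.Lie Matrix Cfsg.Agent.Lib.Ree.Block Cfsg.Agent.Lib.Ree.Rho
open Cfsg.Agent.Lib.Ree.Sigma Cfsg.Agent.Lib.Ree.Words Cfsg.Agent.Lib.Ree.Fix Cfsg.Agent.Lib.Ree.Core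
open Cfsg.Agent.Lib.Ree.Main Cfsg.Agent.Lib.Ree.Sub Cfsg.Agent.Lib.Ree.BN Cfsg.Agent.Lib.Ree.Pts
open Cfsg.Agent.Lib.ChevBN.Elem Cfsg.Agent.Lib.ChevBN
open scoped MatrixGroups

variable {K : Type*} [Field K]

/-- The seven dimensional block matrix of a pair of two by two matrices. -/
def PsiMat (α β γ δ A B C D : K) : Matrix (Fin 7) (Fin 7) K :=
  !![A*α, 0, A*β, 0, B*α, 0, -(B*β);
     0, α^2, 0, -(α*β), 0, -β^2, 0;
     A*γ, 0, A*δ, 0, B*γ, 0, -(B*δ);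
     0, α*γ, 0, α*δ+β*γ, 0, -(β*δ), 0;
     C*α, 0, C*β, 0, D*α, 0, -(D*β);
     0, -γ^2, 0, γ*δ, 0, δ^2, 0;
     -(C*γ), 0, -(C*δ), 0, -(D*γ), 0, D*δ]

theorem PsiMat_mulVec (α β γ δ A B C D : K) (v : Fin 7 → K) : PsiMat α β γ δ A B C D *ᵥ v =
    ![A*α*v 0 + A*β*v 2 + B*α*v 4 - B*β*v 6,
      α^2*v 1 - α*β*v 3 - β^2*v 5,
      A*γ*v 0 + A*δ*v 2 + B*γ*v 4 - B*δ*v 6,
      α*γ*v 1 + (α*δ+β*γ)*v 3 - β*δ*v 5,
      C*α*v 0 + C*β*v 2 + D*α*v 4 - D*β*v 6,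
      -γ^2*v 1 + γ*δ*v 3 + δ^2*v 5,
      -(C*γ)*v 0 - C*δ*v 2 - D*γ*v 4 + D*δ*v 6] := by
  funext i
  fin_cases i <;> simp [PsiMat, Matrix.mulVec, dotProduct, Fin.sum_univ_seven] <;> ring

variable [CharP K 3]

theorem PsiMat_mul (α β γ δ A B C D α' β' γ' δ' A' B' C' D' : K) :
    PsiMat α β γ δ A B C D * PsiMat α' β' γ' δ' A' B' C' D' =
      PsiMat (α*α'+β*γ') (α*β'+β*δ') (γ*α'+δ*γ') (γ*β'+δ*δ')
        (A*A'+B*C') (A*B'+B*D') (C*A'+D*C') (C*B'+D*D') := by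
  have h3 : (3 : K) = 0 := three_eq_zero
  apply ext_mulVec
  intro v
  rw [← Matrix.mulVec_mulVec]
  simp only [PsiMat_mulVec]
  funext i
  fin_cases i <;> simp <;> grind

theorem PsiMat_one : PsiMat (1 : K) 0 0 1 1 0 0 1 = 1 := by
  apply ext_mulVec
  intro v
  rw [PsiMat_mulVec, Matrix.one_mulVec]
  funext i
  fin_cases i <;> simp

variable (f : Fr K)

/-- The seven dimensional matrix of a matrix of determinant one. -/
def psiMat (g : SL(2, K)) : Matrix (Fin 7) (Fin 7) K :=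
  PsiMat (g 0 0) (g 0 1) (g 1 0) (g 1 1) (f.φ (g 0 0)) (f.φ (g 0 1)) (f.φ (g 1 0)) (f.φ (g 1 1))

theorem psiMat_one : psiMat f (1 : SL(2, K)) = 1 := by
  simp only [psiMat, Matrix.SpecialLinearGroup.coe_one, Matrix.one_apply_eq, map_one]
  have h1 : (1 : Matrix (Fin 2) (Fin 2) K) 0 1 = 0 := by simp
  have h2 : (1 : Matrix (Fin 2) (Fin 2) K) 1 0 = 0 := by simp
  rw [h1, h2, map_zero]
  exact PsiMat_one

theorem psiMat_mul (g h : SL(2, K)) : psiMat f (g * h) = psiMat f g * psiMat f h := by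
  simp only [psiMat, PsiMat_mul, Matrix.SpecialLinearGroup.coe_mul, Matrix.mul_apply, Fin.sum_univ_two,
    map_add, map_mul]

/-- The map from `SL₂` to the seven dimensional group. -/
noncomputable def psiHom : SL(2, K) →* GL (Fin 7) K :=
  MonoidHom.toHomUnits
    { toFun := psiMat f
      map_one' := psiMat_one f
      map_mul' := psiMat_mul f }

theorem coe_psiHom (g : SL(2, K)) : ((psiHom f g : GL (Fin 7) K) : Matrix (Fin 7) (Fin 7) K) = psiMat f g := rfl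

/-- The upper unipotent matrix. -/
def up (β : K) : SL(2, K) := ⟨!![1, β; 0, 1], by simp [Matrix.det_fin_two_of]⟩

/-- The diagonal matrix. -/
noncomputable def dg (l : Kˣ) : SL(2, K) := ⟨!![(l : K), 0; 0, (l⁻¹ : Kˣ)], by simp [Matrix.det_fin_two_of]⟩

/-- The rotation by a right angle. -/
def g0 : SL(2, K) := ⟨!![0, 1; -1, 0], by simp [Matrix.det_fin_two_of]⟩

theorem up_apply (β : K) : (up β : SL(2, K)) 0 0 = 1 ∧ (up β : SL(2, K)) 0 1 = β ∧
    (up β : SL(2, K)) 1 0 = 0 ∧ (up β : SL(2, K)) 1 1 = 1 := by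
  simp [up]

theorem dg_apply (l : Kˣ) : (dg l : SL(2, K)) 0 0 = l ∧ (dg l : SL(2, K)) 0 1 = 0 ∧
    (dg l : SL(2, K)) 1 0 = 0 ∧ (dg l : SL(2, K)) 1 1 = (l⁻¹ : Kˣ) := by
  simp [dg]

theorem g0_apply : (g0 : SL(2, K)) 0 0 = 0 ∧ (g0 : SL(2, K)) 0 1 = 1 ∧
    (g0 : SL(2, K)) 1 0 = -1 ∧ (g0 : SL(2, K)) 1 1 = 0 := by
  simp [g0]

theorem psiMat_up (β : K) : psiMat f (up β) = MUc 0 0 (-β) (-f.φ β) 0 0 := by
  obtain ⟨h1, h2, h3, h4⟩ := up_apply β
  rw [psiMat, h1, h2, h3, h4]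
  apply ext_mulVec
  intro v
  rw [PsiMat_mulVec, MUc_mulVec]
  funext i
  fin_cases i <;> simp <;> ring

theorem psiMat_g0 : psiMat f (g0 : SL(2, K)) = w7 := by
  obtain ⟨h1, h2, h3, h4⟩ := g0_apply (K := K)
  rw [psiMat, h1, h2, h3, h4]
  apply ext_mulVec
  intro v
  rw [PsiMat_mulVec, w7_mulVec]
  funext i
  fin_cases i <;> simp

/-- The torus parameter of a diagonal matrix. -/
noncomputable def kap (l : Kˣ) : K := f.φ l / l

theorem kap_ne (l : Kˣ) : kap f l ≠ 0 :=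
  div_ne_zero ((map_ne_zero _).2 l.ne_zero) l.ne_zero

theorem kap_phi (l : Kˣ) : f.φ (kap f l) = (l : K) ^ 3 / f.φ l := by
  rw [kap, map_div₀, f.φφ]

theorem psiMat_dg (l : Kˣ) : psiMat f (dg l) =
    d7 (kap f l ^ 2 * f.φ (kap f l)) (kap f l * f.φ (kap f l)) (kap f l) := by
  obtain ⟨h1, h2, h3, h4⟩ := dg_apply l
  rw [psiMat, h1, h2, h3, h4]
  have hl : (l : K) ≠ 0 := l.ne_zero
  have hA : f.φ (l : K) ≠ 0 := (map_ne_zero _).2 hl
  have e0 : ((l⁻¹ : Kˣ) : K) = (l : K)⁻¹ := Units.val_inv_eq_inv_val l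
  have e1 : f.φ ((l⁻¹ : Kˣ) : K) = (f.φ (l : K))⁻¹ := by rw [e0, map_inv₀]
  rw [e1, e0]
  apply ext_mulVec
  intro v
  rw [PsiMat_mulVec, d7_mulVec, kap_phi, kap]
  funext i
  fin_cases i <;> simp <;> field_simp <;> simp

theorem sl_ext {g h : SL(2, K)} (h00 : g 0 0 = h 0 0) (h01 : g 0 1 = h 0 1) (h10 : g 1 0 = h 1 0)
    (h11 : g 1 1 = h 1 1) : g = h := by
  apply Subtype.ext
  ext i j
  fin_cases i <;> fin_cases j <;> assumption

theorem sl_det (g : SL(2, K)) : g 0 0 * g 1 1 - g 0 1 * g 1 0 = 1 := by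
  have h := g.2
  rwa [Matrix.det_fin_two] at h

theorem sl_mul_apply (g h : SL(2, K)) (i j : Fin 2) : (g * h) i j = g i 0 * h 0 j + g i 1 * h 1 j := by
  rw [Matrix.SpecialLinearGroup.coe_mul, Matrix.mul_apply, Fin.sum_univ_two]

/-- The Bruhat form of a matrix of determinant one. -/
theorem sl_form (g : SL(2, K)) :
    (∃ (l : Kˣ) (c : K), g = dg l * up c) ∨
    (∃ (l : Kˣ) (c c' : K), g = up c * dg l * g0 * up c') := by
  have hd := sl_det g
  by_cases hγ : g 1 0 = 0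
  · left
    have hα : g 0 0 ≠ 0 := by
      intro h
      rw [h, hγ] at hd
      simp at hd
    refine ⟨Units.mk0 _ hα, g 0 1 / g 0 0, ?_⟩
    apply sl_ext <;> simp only [sl_mul_apply, (dg_apply _).1, (dg_apply _).2.1, (dg_apply _).2.2.1,
      (dg_apply _).2.2.2, (up_apply _).1, (up_apply _).2.1, (up_apply _).2.2.1, (up_apply _).2.2.2,
      Units.val_mk0, Units.val_inv_eq_inv_val, hγ]
    · ring
    · field_simp
      ring
    · ring
    · rw [hγ] at hd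
      field_simp
      linear_combination hd
  · right
    have hl : -(g 1 0)⁻¹ ≠ 0 := neg_ne_zero.2 (inv_ne_zero hγ)
    refine ⟨Units.mk0 _ hl, g 0 0 / g 1 0, g 1 1 / g 1 0, ?_⟩
    apply sl_ext <;> simp only [sl_mul_apply, (dg_apply _).1, (dg_apply _).2.1, (dg_apply _).2.2.1,
      (dg_apply _).2.2.2, (up_apply _).1, (up_apply _).2.1, (up_apply _).2.2.1, (up_apply _).2.2.2,
      g0_apply.1, g0_apply.2.1, g0_apply.2.2.1, g0_apply.2.2.2, Units.val_mk0, Units.val_inv_eq_inv_val]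
    · field_simp
      ring
    · field_simp
      grind
    · field_simp
      ring
    · field_simp
      ring

section R

variable [Finite K] {e : ℕ} (hq : ∀ y : K, y ≠ 0 → IsSquare y ∨ IsSquare (-y)) (hθ : ∀ x, f.θ x = x ^ e)

/-- The seven dimensional representation of the Ree group. -/
noncomputable def rhoR : ↥(twistedG2 K e) →* GL (Fin 7) K where
  toFun x := rho ⟨x.1, ((mem_twisted f hq hθ).1 x.2).1⟩
  map_one' := map_one rho
  map_mul' x y := map_mul rho ⟨x.1, ((mem_twisted f hq hθ).1 x.2).1⟩ ⟨y.1, ((mem_twisted f hq hθ).1 y.2).1⟩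

theorem rhoR_inj : Function.Injective (rhoR f hq hθ) := by
  intro x y h
  have h1 : (⟨x.1, ((mem_twisted f hq hθ).1 x.2).1⟩ : ↥(chevG2.group K)) =
      ⟨y.1, ((mem_twisted f hq hθ).1 y.2).1⟩ := rho_inj h
  have h2 : x.1 = y.1 := congrArg (fun z : ↥(chevG2.group K) => z.1) h1
  exact Subtype.ext h2

include hq hθ

theorem psi_up (β : K) : psiHom f (up β) = rhoR f hq hθ (uR f hq hθ 0 (f.φ (-β)) 0) := by
  apply Units.ext
  rw [coe_psiHom, psiMat_up]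
  show _ = ((rho (Ur f 0 (f.φ (-β)) 0) : GL (Fin 7) K) : Matrix (Fin 7) (Fin 7) K)
  rw [rho_Ur, MU_eq]
  simp [f.θφ]

theorem psi_dg (l : Kˣ) : psiHom f (dg l) = rhoR f hq hθ (dR f hq hθ (kap_ne f l)) := by
  apply Units.ext
  rw [coe_psiHom, psiMat_dg]
  show _ = ((rho (Dr f (kap f l)) : GL (Fin 7) K) : Matrix (Fin 7) (Fin 7) K)
  rw [rho_Dr f (kap_ne f l)]

theorem psi_g0 : psiHom f (g0 : SL(2, K)) = rhoR f hq hθ (wR f hq hθ) := by
  apply Units.ext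
  rw [coe_psiHom, psiMat_g0]
  show _ = ((rho (om : ↥(chevG2.group K)) : GL (Fin 7) K) : Matrix (Fin 7) (Fin 7) K)
  rw [rho_om]

theorem psi_mem (g : SL(2, K)) : ∃ x : ↥(twistedG2 K e), rhoR f hq hθ x = psiHom f g := by
  rcases sl_form g with ⟨l, c, rfl⟩ | ⟨l, c, c', rfl⟩
  · refine ⟨dR f hq hθ (kap_ne f l) * uR f hq hθ 0 (f.φ (-c)) 0, ?_⟩
    rw [map_mul, map_mul, psi_dg f hq hθ, psi_up f hq hθ]
  · refine ⟨uR f hq hθ 0 (f.φ (-c)) 0 * dR f hq hθ (kap_ne f l) * wR f hq hθ * uR f hq hθ 0 (f.φ (-c')) 0, ?_⟩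
    simp only [map_mul]
    rw [psi_dg f hq hθ, psi_up f hq hθ, psi_up f hq hθ, psi_g0 f hq hθ]

/-- The map from `SL₂` to the Ree group. -/
noncomputable def psiR : SL(2, K) →* ↥(twistedG2 K e) :=
  MonoidHom.mk' (fun g => Classical.choose (psi_mem f hq hθ g)) (fun a b => by
    apply rhoR_inj f hq hθ
    refine (Classical.choose_spec (psi_mem f hq hθ (a * b))).trans ?_
    rw [map_mul (psiHom f), map_mul (rhoR f hq hθ), Classical.choose_spec (psi_mem f hq hθ a),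
      Classical.choose_spec (psi_mem f hq hθ b)])

theorem rhoR_psiR (g : SL(2, K)) : rhoR f hq hθ (psiR f hq hθ g) = psiHom f g :=
  Classical.choose_spec (psi_mem f hq hθ g)

end R

end Cfsg.Agent.Lib.Ree.Psi
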